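import Groth.Agent.Shriek.Pairing
import Groth.Agent.DTenLib.DualMod
import Groth.Agent.DRingKP.LTensorCx

/-!
Tensor products keep `RHom_R(A, J)` when `A` is perfect over `R`.
-/

set_option autoImplicit false
set_option linter.style.haveILetI false
set_option maxHeartbeats 1000000
set_option backward.isDefEq.respectTransparency false
universe u

namespace Groth.Agent.Shriek

open CategoryTheory CategoryTheory.Limits MonoidalCategory

attribute [local instance] HasDerivedCategory.standard

noncomputable section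

variable {R A : Type u} [CommRing R] [CommRing A] (φ : R →+* A)

theorem exists_lift_kInj {E J : DRing.Cx R} [J.IsKInjective]
    (a : DerivedCategory.Q.obj E ⟶ DerivedCategory.Q.obj J) :
    ∃ f : E ⟶ J, DerivedCategory.Q.map f = a := by
  let e := DerivedCategory.quotientCompQhIso (ModuleCat.{u} R)
  obtain ⟨g, hg⟩ := (CochainComplex.IsKInjective.Qh_map_bijective ((HomotopyCategory.quotient _ _).obj E) J).2
    (e.hom.app E ≫ a ≫ e.inv.app J)
  obtain ⟨f, rfl⟩ := (HomotopyCategory.quotient _ _).map_surjective g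
  refine ⟨f, ?_⟩
  have := e.hom.naturality f
  simp only [Functor.comp_map] at this
  rw [hg, Category.assoc, Category.assoc, Iso.inv_hom_id_app, Category.comp_id] at this
  exact ((cancel_epi _).1 this).symm

/-- tensoring with a K-flat complex respects isomorphisms in `D` -/
theorem nonempty_tensIso {C : DRing.Cx R} (hC : DRing.IsKFlat R C) {X Y : DRing.Cx R}
    (e : DerivedCategory.Q.obj X ≅ DerivedCategory.Q.obj Y) :
    Nonempty (DerivedCategory.Q.obj (X ⊗ C) ≅ DerivedCategory.Q.obj (Y ⊗ C)) := by
  let G : DRing.Cx R ⥤ Dual.D R := tensorRight C ⋙ DerivedCategory.Q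
  have hG : (HomologicalComplex.quasiIso (ModuleCat.{u} R) (ComplexShape.up ℤ)).IsInvertedBy G := fun X Y a ha => by
    haveI : QuasiIso a := ha
    haveI := quasiIso_tensor_hom hC a
    exact inferInstanceAs (IsIso (DerivedCategory.Q.map (a ▷ C)))
  let g := Localization.fac G hG DerivedCategory.Q
  exact ⟨(g.app X).symm ≪≫ (Localization.lift G hG DerivedCategory.Q).mapIso e ≪≫ g.app Y⟩

/-- `A` as a complex of finite projective `R`-modules, with its dual -/
structure PerfData where
  F : DRing.Cx R
  D : DRing.Cx R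
  pair : ExactPairing D F
  hF : DRing.IsKFlat R F
  hD : DRing.IsKFlat R D
  α : F ⟶ (DTen.resCx φ).obj (𝟙_ (DRing.Cx A))
  hα : QuasiIso α
  hFS : ∀ k : ℤ, (F ⊗ freeAt R k).IsKProjective
  a : ℤ
  b : ℤ
  hzero : DRing.VanishesOutside F a b
  hproj : DRing.TermwiseFiniteProjective F
  hzeroD : DRing.VanishesOutside D (-b) (-a)
  hprojD : DRing.TermwiseFiniteProjective D

theorem exists_perfData (h : letI := φ.toAlgebra; DRing.IsPerfectModule R A) : Nonempty (PerfData φ) := by
  letI := φ.toAlgebra
  obtain ⟨E, a, b, hE, hf, ⟨e⟩⟩ := h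
  haveI := DRingKP.isKProjective_of_finiteProjective b (fun i hi => hE i (Or.inr hi)) hf
  let iA : ModuleCat.of R A ≅ (ModuleCat.restrictScalars φ).obj (ModuleCat.of A A) :=
    LinearEquiv.toModuleIso
      { toFun := fun x => x, invFun := fun x => x, map_add' := fun _ _ => rfl,
        map_smul' := fun r x => (Algebra.smul_def r x).trans rfl,
        left_inv := fun _ => rfl, right_inv := fun _ => rfl }
  let T := (DTen.resCx φ).obj (𝟙_ (DRing.Cx A))
  let e' : DerivedCategory.Q.obj E ≅ DerivedCategory.Q.obj T :=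
    e ≪≫ (DerivedCategory.singleFunctorIsoCompQ (ModuleCat.{u} R) 0).app (ModuleCat.of R A) ≪≫
      DerivedCategory.Q.mapIso ((HomologicalComplex.single _ _ 0).mapIso iA ≪≫
        ((HomologicalComplex.singleMapHomologicalComplex (ModuleCat.restrictScalars.{u} φ) (ComplexShape.up ℤ) 0).app
          (ModuleCat.of A A)).symm)
  obtain ⟨α, hα⟩ := PerfLocal.exists_lift (R := R) e'.hom
  haveI : IsIso (DerivedCategory.Q.map α) := by rw [hα]; infer_instance
  letI := DTenLib.braidedCx (A := R)
  letI : ExactPairing E (DTenLib.dualCx E) := (DTenLib.preDual E a b hE hf).exactPairing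
  have hzD := DTenLib.vanishesOutside_dualCx E a b hE
  have hpD := DTenLib.termwiseFiniteProjective_dualCx E hf
  exact ⟨
    { F := E, D := DTenLib.dualCx E
      pair := BraidedCategory.exactPairing_swap E (DTenLib.dualCx E)
      hF := DRingKP.isKFlat_of_finiteProjective (b := b) (fun i hi => hE i (Or.inr hi)) hf
      hD := DRingKP.isKFlat_of_finiteProjective (b := -a) (fun i hi => hzD i (Or.inr hi)) hpD
      α := α
      hα := (DerivedCategory.isIso_Q_map_iff_quasiIso _ α).1 inferInstance
      hFS := fun k => DRingKP.isKProjective_of_finiteProjective (b + k)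
        (fun i hi => DRingKP.tensor_vanishes i fun p q hpq => by
          by_cases hp : b < p
          · exact Or.inl (hE p (Or.inr hp))
          · exact Or.inr (vanishesAbove_freeAt k q (by lia)))
        (DRingKP.tensor_finiteProjective (b := b) (c := k) (fun i hi => hE i (Or.inr hi)) (vanishesAbove_freeAt k)
          hf (termwiseFiniteProjective_freeAt k))
      a := a, b := b, hzero := hE, hproj := hf, hzeroD := hzD, hprojD := hpD }⟩

/-- `W ⊗ C` is `RHom_R(A, J ⊗ C)`. -/
theorem RA.tensor_of_perfect (hA : letI := φ.toAlgebra; DRing.IsPerfectModule R A) {W : DRing.Cx A} {J : DRing.Cx R}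
    (h : RA φ (DerivedCategory.Q.obj W) (DerivedCategory.Q.obj J)) {C : DRing.Cx R} (hC : DRing.IsKFlat R C) :
    RA φ (DerivedCategory.Q.obj (W ⊗ (DTen.extCx φ).obj C)) (DerivedCategory.Q.obj (J ⊗ C)) := by
  obtain ⟨d⟩ := exists_perfData φ hA
  obtain ⟨J', f, hJ', hf, -, -⟩ := KInj.exists_kInjective J
  haveI := hJ'
  haveI := hf
  let eJ := asIso (DerivedCategory.Q.map f)
  obtain ⟨c₀, hc₀⟩ := RA.of_iso h (Iso.refl _) eJ
  obtain ⟨c, hc⟩ := exists_lift_kInj ((DTen.resFactors φ).inv.app W ≫ c₀)
  have hcQ : cQ φ c = c₀ := by rw [cQ, hc, Iso.hom_inv_id_app_assoc]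
  letI := d.pair
  haveI := d.hα
  have h' := RA.tensor φ (D := d.D) d.α c d.hF d.hD d.hFS (hcQ ▸ hc₀) hC
  obtain ⟨e⟩ := nonempty_tensIso hC eJ
  exact RA.of_iso h' (Iso.refl _) e.symm

end

end Groth.Agent.Shriek
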