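import Groth.Agent.DRingKP.RHomProj
import Groth.Agent.DTenLib.Base
import Groth.Agent.Shriek.PairApps
import Groth.Prelude.Def_DTen3
import Mathlib.Algebra.Homology.Monoidal

/-!
Cochains out of a tensor product are cochains into the Hom complex.
-/

set_option autoImplicit false
set_option linter.style.haveILetI false
set_option maxHeartbeats 1000000
set_option backward.isDefEq.respectTransparency false
universe u

namespace Groth.Agent.Shriek

open CategoryTheory CategoryTheory.Limits MonoidalCategory CochainComplex CochainComplex.HomComplex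

attribute [local instance] HasDerivedCategory.standard

noncomputable section

variable {A : Type u} [CommRing A] {Z W X X' : DRing.Cx A}

theorem ι_tensor_d (Z W : DRing.Cx A) (p q r r' p' q' : ℤ) (h : p + q = r) (hp : p + 1 = p') (hq : q + 1 = q')
    (hr : r + 1 = r') :
    HomologicalComplex.ιTensorObj Z W p q r h ≫ (Z ⊗ W).d r r' =
      (Z.d p p' ▷ W.X q) ≫ HomologicalComplex.ιTensorObj Z W p' q r' (by lia) +
        p.negOnePow • ((Z.X p ◁ W.d q q') ≫ HomologicalComplex.ιTensorObj Z W p q' r' (by lia)) := by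
  show HomologicalComplex.ιTensorObj Z W p q r h ≫
    (HomologicalComplex.mapBifunctor Z W (curriedTensor (ModuleCat.{u} A)) (ComplexShape.up ℤ)).d r r' = _
  rw [HomologicalComplex.mapBifunctor.d_eq, Preadditive.comp_add, HomologicalComplex.mapBifunctor.ι_D₁,
    HomologicalComplex.mapBifunctor.ι_D₂,
    HomologicalComplex.mapBifunctor.d₁_eq _ _ _ _ (show (ComplexShape.up ℤ).Rel p p' from hp) q r'
      (show p' + q = r' by lia),
    HomologicalComplex.mapBifunctor.d₂_eq _ _ _ _ p (show (ComplexShape.up ℤ).Rel q q' from hq) r'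
      (show p + q' = r' by lia)]
  simp only [ComplexShape.ε₁_def, one_smul, ComplexShape.ε₂_def]
  rfl

/-- a map out of `M ⊗ N` at the level of elements -/
def evTmul {M N L : ModuleCat.{u} A} (f : M ⊗ N ⟶ L) (z : M) : N ⟶ L :=
  ModuleCat.ofHom
    { toFun := fun w => f.hom (z ⊗ₜ[A] w)
      map_add' := fun a b => by rw [TensorProduct.tmul_add]; exact map_add _ _ _
      map_smul' := fun r a => by rw [TensorProduct.tmul_smul]; exact map_smul _ _ _ }

/-- an element of the Hom complex for each element -/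
def tpV {n : ℤ} (f : Cochain (Z ⊗ W) X n) (p r : ℤ) (hr : p + n = r) (z : Z.X p) : Cochain W X r :=
  Cochain.mk fun q s hs => evTmul (HomologicalComplex.ιTensorObj Z W p q (p + q) rfl ≫ f.v (p + q) s (by lia)) z

/-- transposition -/
def tp {n : ℤ} (f : Cochain (Z ⊗ W) X n) : Cochain Z (DRing.homCx W X) n :=
  Cochain.mk fun p r hr => ModuleCat.ofHom
    { toFun := fun z => tpV f p r hr z
      map_add' := fun a b => Cochain.ext _ _ fun q s hs => ModuleCat.hom_ext (LinearMap.ext fun w => by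
        show (HomologicalComplex.ιTensorObj Z W p q (p + q) rfl ≫ f.v (p + q) s (by lia)).hom ((a + b) ⊗ₜ[A] w) =
          (HomologicalComplex.ιTensorObj Z W p q (p + q) rfl ≫ f.v (p + q) s (by lia)).hom (a ⊗ₜ[A] w) +
          (HomologicalComplex.ιTensorObj Z W p q (p + q) rfl ≫ f.v (p + q) s (by lia)).hom (b ⊗ₜ[A] w)
        rw [TensorProduct.add_tmul]; exact map_add _ _ _)
      map_smul' := fun c a => Cochain.ext _ _ fun q s hs => ModuleCat.hom_ext (LinearMap.ext fun w => by
        show (HomologicalComplex.ιTensorObj Z W p q (p + q) rfl ≫ f.v (p + q) s (by lia)).hom ((c • a) ⊗ₜ[A] w) =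
          c • (HomologicalComplex.ιTensorObj Z W p q (p + q) rfl ≫ f.v (p + q) s (by lia)).hom (a ⊗ₜ[A] w)
        rw [← TensorProduct.smul_tmul']; exact map_smul _ _ _) }

/-- the value of a transpose on an element, as a map -/
def hev {n : ℤ} (g : Cochain Z (DRing.homCx W X) n) (p q r s : ℤ) (hr : p + n = r) (hs : q + r = s) (z : Z.X p) :
    W.X q ⟶ X.X s :=
  (show Cochain W X r from (g.v p r hr).hom z).v q s hs

/-- the inverse transposition on a summand -/
def utV {n : ℤ} (g : Cochain Z (DRing.homCx W X) n) (p q t s : ℤ) (h : p + q = t) (hs : t + n = s) :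
    Z.X p ⊗ W.X q ⟶ X.X s :=
  ModuleCat.MonoidalCategory.tensorLift
    (fun z w => (hev g p q (p + n) s rfl (by lia) z).hom w)
    (fun z z' w => by
      show (hev g p q (p + n) s rfl (by lia) (z + z')).hom w = _
      rw [hev, map_add]; rfl)
    (fun c z w => by
      show (hev g p q (p + n) s rfl (by lia) (c • z)).hom w = _
      rw [hev, map_smul]; rfl)
    (fun z w w' => map_add _ _ _) (fun c z w => map_smul _ _ _)

/-- inverse transposition -/
def ut {n : ℤ} (g : Cochain Z (DRing.homCx W X) n) : Cochain (Z ⊗ W) X n :=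
  Cochain.mk fun t s hs => HomologicalComplex.mapBifunctorDesc fun p q h => utV g p q t s h hs

theorem hev_tp {n : ℤ} (f : Cochain (Z ⊗ W) X n) (p q r s t : ℤ) (hr : p + n = r) (hs : q + r = s) (ht : p + q = t)
    (z : Z.X p) (w : W.X q) :
    (hev (tp f) p q r s hr hs z).hom w =
      (HomologicalComplex.ιTensorObj Z W p q t ht ≫ f.v t s (by lia)).hom (z ⊗ₜ[A] w) := by
  subst ht
  rfl

theorem ι_ut {n : ℤ} (g : Cochain Z (DRing.homCx W X) n) (p q t s : ℤ) (ht : p + q = t) (hs : t + n = s) :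
    HomologicalComplex.ιTensorObj Z W p q t ht ≫ (ut g).v t s hs = utV g p q t s ht hs :=
  HomologicalComplex.ι_mapBifunctorDesc (F := curriedTensor (ModuleCat.{u} A)) _ p q ht

theorem tp_ut {n : ℤ} (g : Cochain Z (DRing.homCx W X) n) : tp (ut g) = g :=
  Cochain.ext _ _ fun p r hr => ModuleCat.hom_ext (LinearMap.ext fun z => by
    refine Cochain.ext _ _ fun q s hs => ModuleCat.hom_ext (LinearMap.ext fun w => ?_)
    refine (hev_tp (ut g) p q r s (p + q) hr hs rfl z w).trans ?_
    rw [ι_ut]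
    subst hr
    rfl)

theorem tp_injective {n : ℤ} {f f' : Cochain (Z ⊗ W) X n} (h : tp f = tp f') : f = f' :=
  Cochain.ext _ _ fun t s hs => HomologicalComplex.mapBifunctor.hom_ext fun p q ht =>
    ModuleCat.MonoidalCategory.tensor_ext fun z w => by
      have h1 := congrArg (fun g => (hev g p q (p + n) s rfl (by dsimp at ht; lia) z).hom w) h
      simp only [hev_tp _ p q (p + n) s t rfl (by dsimp at ht; lia) ht] at h1
      exact h1

theorem tp_δ {n m : ℤ} (hnm : n + 1 = m) (f : Cochain (Z ⊗ W) X n) : δ n m (tp f) = tp (δ n m f) :=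
  Cochain.ext _ _ fun p r hr => ModuleCat.hom_ext (LinearMap.ext fun z => by
    refine Cochain.ext _ _ fun q s hs => ModuleCat.hom_ext (LinearMap.ext fun w => ?_)
    refine Eq.trans ?_ (hev_tp (δ n m f) p q r s (p + q) hr hs rfl z w).symm
    rw [δ_v n m hnm (tp f) p r hr (r - 1) (p + 1) rfl rfl, δ_v n m hnm f (p + q) s (by lia) (s - 1) (p + q + 1) rfl rfl,
      Preadditive.comp_add, Linear.comp_units_smul, ← Category.assoc,
      ← Category.assoc (HomologicalComplex.ιTensorObj Z W p q (p + q) rfl) ((Z ⊗ W).d _ _),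
      ι_tensor_d Z W p q (p + q) (p + q + 1) (p + 1) (q + 1) rfl rfl rfl rfl,
      Preadditive.add_comp, Linear.units_smul_comp, smul_add, smul_smul]
    have e1 : ((DRing.homCx W X).d (r - 1) r).hom ((tp f).v p (r - 1) (by lia) z) =
        δ (r - 1) r (show Cochain W X (r - 1) from (tp f).v p (r - 1) (by lia) z) := rfl
    show ((show Cochain W X r from ((tp f).v p (r - 1) _ ≫ (DRing.homCx W X).d (r - 1) r +
      m.negOnePow • (Z.d p (p + 1) ≫ (tp f).v (p + 1) r _)).hom z).v q s hs).hom w = _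
    simp only [ModuleCat.hom_add, LinearMap.add_apply, ModuleCat.hom_comp, LinearMap.comp_apply]
    erw [Cochain.add_v]
    rw [ModuleCat.hom_add, LinearMap.add_apply]
    erw [e1]
    rw [δ_v (r - 1) r (by lia) _ q s hs (s - 1) (q + 1) rfl rfl]
    have hsgn : r.negOnePow = m.negOnePow * p.negOnePow := by
      rw [← Int.negOnePow_add]; congr 1; lia
    rw [hsgn]
    simp only [Units.smul_def, ModuleCat.hom_zsmul, ModuleCat.hom_add, LinearMap.add_apply, LinearMap.smul_apply,
      ModuleCat.hom_comp, LinearMap.comp_apply]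
    erw [Cochain.smul_v]
    rw [ModuleCat.hom_zsmul, LinearMap.smul_apply]
    have hA := hev_tp f p q (r - 1) (s - 1) (p + q) (by lia) (by lia) rfl z w
    have hB := hev_tp f p (q + 1) (r - 1) s (p + q + 1) (by lia) (by lia) (by lia) z ((W.d q (q + 1)).hom w)
    have hC := hev_tp f (p + 1) q r s (p + q + 1) (by lia) hs (by lia) ((Z.d p (p + 1)).hom z) w
    refine Eq.trans (congrArg₂ (· + ·) (congrArg₂ (· + ·) (congrArg _ hA) (congrArg _ hB)) (congrArg _ hC)) ?_
    refine (add_assoc _ _ _).trans ?_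
    exact congrArg₂ (· + ·) rfl (add_comm _ _))

theorem tp_add {n : ℤ} (f f' : Cochain (Z ⊗ W) X n) : tp (f + f') = tp f + tp f' :=
  Cochain.ext _ _ fun p r hr => ModuleCat.hom_ext (LinearMap.ext fun z => by
    refine Cochain.ext _ _ fun q s hs => ModuleCat.hom_ext (LinearMap.ext fun w => ?_)
    show (HomologicalComplex.ιTensorObj Z W p q (p + q) rfl ≫ (f + f').v (p + q) s (by lia)).hom (z ⊗ₜ[A] w) = _
    rw [Cochain.add_v, Preadditive.comp_add]
    rfl)

theorem tp_zero {n : ℤ} : tp (0 : Cochain (Z ⊗ W) X n) = 0 := by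
  have h := tp_add (0 : Cochain (Z ⊗ W) X n) 0
  rw [add_zero] at h
  exact left_eq_add.1 h

/-- transposition of chain maps -/
def tpHom (f : Z ⊗ W ⟶ X) : Z ⟶ DRing.homCx W X :=
  Cocycle.homOf (Cocycle.mk (tp (Cochain.ofHom f)) 1 (zero_add 1) (by rw [tp_δ (zero_add 1), δ_ofHom, tp_zero]))

theorem ofHom_tpHom (f : Z ⊗ W ⟶ X) : Cochain.ofHom (tpHom f) = tp (Cochain.ofHom f) :=
  Cocycle.cochain_ofHom_homOf_eq_coe _

theorem tpHom_surjective (g : Z ⟶ DRing.homCx W X) : ∃ f : Z ⊗ W ⟶ X, tpHom f = g := by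
  have h : δ 0 1 (ut (Cochain.ofHom g)) = 0 := tp_injective (by rw [← tp_δ (zero_add 1), tp_ut, δ_ofHom, tp_zero])
  refine ⟨Cocycle.homOf (Cocycle.mk _ 1 (zero_add 1) h), Cochain.ofHom_injective ?_⟩
  show Cochain.ofHom (tpHom _) = Cochain.ofHom g
  rw [ofHom_tpHom, Cocycle.cochain_ofHom_homOf_eq_coe]
  exact tp_ut _

theorem nonempty_homotopy_tpHom_iff (f f' : Z ⊗ W ⟶ X) :
    Nonempty (Homotopy (tpHom f) (tpHom f')) ↔ Nonempty (Homotopy f f') := by
  refine ⟨fun ⟨h⟩ => ?_, fun ⟨h⟩ => ?_⟩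
  · obtain ⟨c, hc⟩ := Cochain.equivHomotopy _ _ h
    refine ⟨(Cochain.equivHomotopy _ _).symm ⟨ut c, tp_injective ?_⟩⟩
    rw [tp_add, ← tp_δ (neg_add_cancel 1), tp_ut, ← ofHom_tpHom, ← ofHom_tpHom]
    exact hc
  · obtain ⟨c, hc⟩ := Cochain.equivHomotopy _ _ h
    refine ⟨(Cochain.equivHomotopy _ _).symm ⟨tp c, ?_⟩⟩
    rw [ofHom_tpHom, ofHom_tpHom, tp_δ (neg_add_cancel 1), ← tp_add, hc]

theorem tpHom_comp {Z' : DRing.Cx A} (g : Z' ⟶ Z) (f : Z ⊗ W ⟶ X) : tpHom ((g ▷ W) ≫ f) = g ≫ tpHom f :=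
  HomologicalComplex.hom_ext _ _ fun p => ModuleCat.hom_ext (LinearMap.ext fun z => by
    refine Cochain.ext _ _ fun q s hs => ModuleCat.hom_ext (LinearMap.ext fun w => ?_)
    obtain rfl : s = p + q := by lia
    show (HomologicalComplex.ιTensorObj Z' W p q (p + q) rfl ≫
      (Cochain.ofHom ((g ▷ W) ≫ f)).v (p + q) (p + q) (by lia)).hom (z ⊗ₜ[A] w) =
      (HomologicalComplex.ιTensorObj Z W p q (p + q) rfl ≫ (Cochain.ofHom f).v (p + q) (p + q) (by lia)).hom
        ((g.f p).hom z ⊗ₜ[A] w)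
    rw [Cochain.ofHom_v, Cochain.ofHom_v, HomologicalComplex.comp_f]
    erw [HomologicalComplex.ι_mapBifunctorMap_assoc]
    rfl)

theorem tpHom_comp_right (f : Z ⊗ W ⟶ X) (h : X ⟶ X') : tpHom (f ≫ h) = tpHom f ≫ DRing.homCxMap W h :=
  HomologicalComplex.hom_ext _ _ fun p => ModuleCat.hom_ext (LinearMap.ext fun z => by
    refine Cochain.ext _ _ fun q s hs => ModuleCat.hom_ext (LinearMap.ext fun w => ?_)
    obtain rfl : s = p + q := by lia
    show (HomologicalComplex.ιTensorObj Z W p q (p + q) rfl ≫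
      (Cochain.ofHom (f ≫ h)).v (p + q) (p + q) (by lia)).hom (z ⊗ₜ[A] w) =
      (((show Cochain W X p from ((tpHom f).f p).hom z).comp (Cochain.ofHom h) (add_zero p)).v q (p + q) hs).hom w
    rw [Cochain.comp_zero_cochain_v]
    simp only [Cochain.ofHom_v, HomologicalComplex.comp_f]
    rfl)

/-- the unit `E → Hom(W, E ⊗ W)` -/
def etaCx (E W : DRing.Cx A) : E ⟶ DRing.homCx W (E ⊗ W) := tpHom (𝟙 (E ⊗ W))

theorem tpHom_whisker (z : Z ⟶ X) : tpHom (z ▷ W) = z ≫ etaCx X W := by
  rw [etaCx, ← tpHom_comp, Category.comp_id]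

theorem etaCx_natural {E E' : DRing.Cx A} (e : E ⟶ E') (W : DRing.Cx A) :
    etaCx E W ≫ DRing.homCxMap W (e ▷ W) = e ≫ etaCx E' W := by
  rw [← tpHom_whisker, etaCx, ← tpHom_comp_right, Category.id_comp]

theorem Q_eq_of_homotopy {P N : DRing.Cx A} {f g : P ⟶ N} (h : Nonempty (Homotopy f g)) :
    DerivedCategory.Q.map f = DerivedCategory.Q.map g := by
  obtain ⟨h⟩ := h
  rw [← cancel_epi ((DerivedCategory.quotientCompQhIso _).hom.app P),
    ← DerivedCategory.quotientCompQhIso_hom_naturality, ← DerivedCategory.quotientCompQhIso_hom_naturality,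
    HomotopyCategory.eq_of_homotopy _ _ h]

/-- When the unit is a quasi-isomorphism, tensoring with `W` is bijective on maps into `E`. -/
theorem whisker_surjective {E : DRing.Cx A} [Z.IsKProjective] [(Z ⊗ W).IsKProjective] [QuasiIso (etaCx E W)]
    (y : DerivedCategory.Q.obj (Z ⊗ W) ⟶ DerivedCategory.Q.obj (E ⊗ W)) :
    ∃ z : Z ⟶ E, DerivedCategory.Q.map (z ▷ W) = y := by
  obtain ⟨f, rfl⟩ := PerfLocal.exists_lift (R := A) y
  obtain ⟨z, hz⟩ := PerfLocal.exists_lift (R := A)
    (DerivedCategory.Q.map (tpHom f) ≫ inv (DerivedCategory.Q.map (etaCx E W)))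
  refine ⟨z, Q_eq_of_homotopy ((nonempty_homotopy_tpHom_iff _ _).1 ?_)⟩
  refine DTenLib.homotopic_of_Q_map ?_
  rw [tpHom_whisker, Functor.map_comp, hz, Category.assoc, IsIso.inv_hom_id, Category.comp_id]

theorem whisker_injective {E : DRing.Cx A} [Z.IsKProjective] [(Z ⊗ W).IsKProjective] [QuasiIso (etaCx E W)]
    {z z' : Z ⟶ E} (h : DerivedCategory.Q.map (z ▷ W) = DerivedCategory.Q.map (z' ▷ W)) :
    DerivedCategory.Q.map z = DerivedCategory.Q.map z' := by
  have h1 := Q_eq_of_homotopy ((nonempty_homotopy_tpHom_iff _ _).2 (DTenLib.homotopic_of_Q_map h))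
  rw [tpHom_whisker, tpHom_whisker, Functor.map_comp, Functor.map_comp] at h1
  exact (cancel_mono _).1 h1

end

end Groth.Agent.Shriek
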