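import Groth.Agent.Shriek.NormLoc
import Groth.Agent.DualCx.LocalizeDual
import Groth.Prelude.Def_DualSh

/-!
The normalized localisation of `shriekVia` at a closed point over the closed point.
-/

set_option autoImplicit false
set_option linter.style.haveILetI false
set_option maxHeartbeats 1000000
universe u

namespace Groth.Agent.Shriek

open CategoryTheory CategoryTheory.Limits DerivedCategory TensorProduct IsLocalRing
open Groth.Agent.DualCx Groth.Agent.DualFlat

attribute [local instance] HasDerivedCategory.standard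

noncomputable section

variable {R : Type u} [CommRing R] [IsNoetherianRing R] {n : ℕ}

theorem isDualizing_poly [DRing.HasLBaseChange (algebraMap R (MvPolynomial (Fin n) R))] {ω : Dual.D R}
    (hω : Dual.IsDualizing R ω) :
    Dual.IsDualizing (MvPolynomial (Fin n) R)
      ((DRing.LBaseChange (algebraMap R (MvPolynomial (Fin n) R))).obj ω) :=
  DualFlat.isDualizing_lBaseChange_finiteType (MvPolynomial (Fin n) R) ω (fun P _ => by
    haveI : Algebra.Smooth R (MvPolynomial (Fin n) R) := ⟨inferInstance, inferInstance⟩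
    haveI := GeomProp.isRegularLocalRing_fibLocRing_of_smooth R (MvPolynomial (Fin n) R) P
    exact Goren.isGorenstein_of_regular _) hω

/-- The residue degree of a polynomial base change at a closed point over the closed point is `n`. -/
theorem subsingleton_T_poly [IsLocalRing R] [DRing.HasLBaseChange (algebraMap R (MvPolynomial (Fin n) R))]
    {ω : Dual.D R} (hω : Dual.IsDualizing R ω) (hn : Dual.IsNormalized R ω)
    (M : Ideal (MvPolynomial (Fin n) R)) [M.IsMaximal]
    (hM : M.comap (algebraMap R (MvPolynomial (Fin n) R)) = maximalIdeal R) (j : ℤ) (hj : j ≠ n) :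
    Subsingleton (T ((DRing.LBaseChange (algebraMap R (MvPolynomial (Fin n) R))).obj ω)
      (MvPolynomial (Fin n) R ⧸ M) j) := by
  let P := MvPolynomial (Fin n) R
  obtain ⟨a, b, hab⟩ := bounded_of_dualizing (isDualizing_poly (n := n) hω)
  refine (subsingleton_T_max_iff M _ (fun i hi => hab i (Or.inl hi)) j).1 ?_
  haveI := isLocalHom_polyLoc M hM
  haveI : Module.Flat P (Localization.AtPrime M) := IsLocalization.flat (Localization.AtPrime M) M.primeCompl
  haveI : Module.Flat R (Localization.AtPrime M) := Module.Flat.trans R P (Localization.AtPrime M)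
  obtain ⟨ec⟩ := DualFlat.nonempty_locD_comp (algebraMap R P) (algebraMap P (Localization.AtPrime M))
    (algebraMap R (Localization.AtPrime M))
    (IsScalarTower.algebraMap_eq R P (Localization.AtPrime M)).symm ω
  let e : KB (Localization.AtPrime M) ((DRing.LBaseChange (algebraMap R P)).obj ω) ≅
      KB (A := R) (Localization.AtPrime M) ω :=
    (locD (algebraMap P (Localization.AtPrime M))).mapIso (lBaseChangeObjIso (algebraMap R P) ω) ≪≫ ec
  exact (Iso.homCongr (Iso.refl _) ((CategoryTheory.shiftFunctor _ j).mapIso e)).subsingleton_congr.2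
    (residue_degree_KB (Localization.AtPrime M) ω hω hn (gorenstein_fib_poly M hM) (dim_fib_poly M hM) j hj)

variable {A : Type u} [CommRing A] [IsNoetherianRing A] [Algebra R A]

theorem shriekVia_normalized [IsLocalRing R] (ψ : MvPolynomial (Fin n) R →ₐ[R] A) (hψ : Function.Surjective ψ)
    [DRing.HasLBaseChange (algebraMap R (MvPolynomial (Fin n) R))] (Rψ : Dual.D (MvPolynomial (Fin n) R) ⥤ Dual.D A)
    (adj : DRing.restrictD ψ.toRingHom ⊣ Rψ) (m : Ideal A) [m.IsMaximal]
    (hm : m.comap (algebraMap R A) = maximalIdeal R) {ω : Dual.D R} (hω : Dual.IsDualizing R ω)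
    (hn : Dual.IsNormalized R ω) [DRing.HasLBaseChange (algebraMap A (Localization.AtPrime m))] :
    Dual.IsDualizing (Localization.AtPrime m)
        ((DRing.LBaseChange (algebraMap A (Localization.AtPrime m))).obj (Dual2.shriekVia n Rψ ω)) ∧
      Dual.IsNormalized (Localization.AtPrime m)
        ((DRing.LBaseChange (algebraMap A (Localization.AtPrime m))).obj (Dual2.shriekVia n Rψ ω)) := by
  let P := MvPolynomial (Fin n) R
  letI : Algebra P A := ψ.toRingHom.toAlgebra
  haveI : Module.Finite P A := Module.Finite.of_surjective (Algebra.linearMap P A) hψ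
  let L := (DRing.LBaseChange (algebraMap R P)).obj ω
  have hX : Dual.IsDualizing A (Rψ.obj L) := DualCx.isDualizing_rightAdjoint (isDualizing_poly (n := n) hω) adj
  have hS : Dual.IsDualizing A (Dual2.shriekVia n Rψ ω) := DualCx.isDualizing_shift hX n
  refine ⟨DualCx.Loc.isDualizing_lBaseChange (B := Localization.AtPrime m) m.primeCompl hS, fun i hi => ?_⟩
  obtain ⟨a, b, hab⟩ := bounded_of_dualizing hX
  let B := Localization.AtPrime m
  let M : Ideal P := m.comap ψ.toRingHom
  haveI : M.IsMaximal := Ideal.comap_isMaximal_of_surjective ψ.toRingHom hψ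
  have hM : M.comap (algebraMap R P) = maximalIdeal R := by
    rw [← hm, Ideal.comap_comap]
    exact congrArg (fun g : R →+* A => m.comap g) ψ.comp_algebraMap
  have h1 : Subsingleton (T (Rψ.obj L) (A ⧸ m) ((n : ℤ) + i)) := by
    refine (DualCx.isRA_counit (A := P) (B := A) adj L).subsingleton_T (A ⧸ m) _ ?_
    let f : P →ₗ[P] ((DualCx.res P A).obj (ModuleCat.of A (A ⧸ m)) : ModuleCat.{u} P) :=
      LinearMap.toSpanSingleton P _ (Ideal.Quotient.mk m 1 : A ⧸ m)
    have hf : ∀ x : P, f x = (Ideal.Quotient.mk m (ψ x) : A ⧸ m) := fun x => by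
      show algebraMap P A x • (Ideal.Quotient.mk m (1 : A) : A ⧸ m) = Ideal.Quotient.mk m (ψ x)
      rw [← Ideal.Quotient.mk_eq_mk, ← Submodule.Quotient.mk_smul, smul_eq_mul, mul_one]
      rfl
    have hfs : Function.Surjective f := fun y => by
      obtain ⟨z, hz⟩ := Ideal.Quotient.mk_surjective (y : A ⧸ m)
      obtain ⟨x, rfl⟩ := hψ z
      exact ⟨x, (hf x).trans hz⟩
    have hk : LinearMap.ker f = M := by
      ext x
      rw [LinearMap.mem_ker, hf]
      exact Ideal.Quotient.eq_zero_iff_mem
    exact (DualCx.subsingleton_congr ((Submodule.quotEquivOfEq _ _ hk.symm).trans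
      (f.quotKerEquivOfSurjective hfs))).1 (subsingleton_T_poly hω hn M hM _ (by lia))
  have h2 : Subsingleton (T (KB B (Rψ.obj L)) (B ⧸ maximalIdeal B) ((n : ℤ) + i)) :=
    (subsingleton_T_max_iff m _ (fun k hk => hab k (Or.inl hk)) _).2 h1
  refine (Iso.homCongr (Iso.refl _) ((CategoryTheory.shiftFunctor (Dual.D B) i).mapIso
    (lBaseChangeObjIso (algebraMap A B) (Dual2.shriekVia n Rψ ω) ≪≫
      ((locD (algebraMap A B)).commShiftIso (n : ℤ)).app (Rψ.obj L)))).subsingleton_congr.2 ?_
  exact (Iso.homCongr (Iso.refl _) ((shiftFunctorAdd' (Dual.D B) (n : ℤ) i ((n : ℤ) + i) rfl).app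
    (KB B (Rψ.obj L)))).subsingleton_congr.1 h2

end

end Groth.Agent.Shriek
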