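import Groth.Agent.Shriek.EndSelf
import Groth.Agent.Shriek.NormVia
import Groth.Agent.Goren.Basic

/-!
Properties of the upper shriek of the base for flat algebras.
-/

set_option autoImplicit false
set_option linter.style.haveILetI false
set_option maxHeartbeats 1000000
set_option backward.isDefEq.respectTransparency false
universe u

namespace Groth.Agent.Shriek

open CategoryTheory CategoryTheory.Limits MonoidalCategory HomologicalComplex TensorProduct

attribute [local instance] HasDerivedCategory.standard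

noncomputable section

theorem isDualizing_field (k : Type u) [Field k] : Dual.IsDualizing k (Dual.inD k k) := by
  haveI : IsRegularLocalRing k := inferInstance
  obtain ⟨N, hN⟩ := (Goren.isGorenstein_of_regular k).exists_hasInjectiveDimensionLT
  haveI := hN
  exact DualCx.isDualizing_self N

theorem polyD_self (R : Type u) [CommRing R] (n : ℕ) :
    Nonempty ((polyD R n).obj (Dual.inD R R) ≅ Dual.inD (MvPolynomial (Fin n) R) (MvPolynomial (Fin n) R)) := by
  let P := MvPolynomial (Fin n) R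
  let eE : (DualCx.ext (algebraMap R P)).obj (ModuleCat.of R R) ≅ ModuleCat.of P P :=
    DRingKP.extendTensorIso R ≪≫ (TensorProduct.AlgebraTensorModule.rid R P P).toModuleIso
  exact ⟨DualCx.locInD (algebraMap R P) R ≪≫ (DerivedCategory.singleFunctor (ModuleCat.{u} P) 0).mapIso eE⟩

/-- upper shrieks of fields are dualizing -/
theorem Shr.isDualizing_of_field {k A : Type u} [Field k] [CommRing A] [Algebra k A] [IsNoetherianRing A] {n : ℕ}
    {ψ : MvPolynomial (Fin n) k →ₐ[k] A} (hψ : Function.Surjective ψ) {W : Dual.D A}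
    (h : Shr ψ W (Dual.inD k k)) : Dual.IsDualizing A W := by
  let P := MvPolynomial (Fin n) k
  haveI := DRingKP.hasLBaseChange (algebraMap k P)
  have hL : Dual.IsDualizing P (((polyD k n).obj (Dual.inD k k))⟦(n : ℤ)⟧) :=
    DualCx.isDualizing_shift (DualCx.isDualizing_of_iso (DualCx.lBaseChangeObjIso (algebraMap k P) (Dual.inD k k))
      (isDualizing_poly (n := n) (isDualizing_field k))) n
  letI : Algebra P A := ψ.toRingHom.toAlgebra
  haveI : Module.Finite P A := Module.Finite.of_surjective (Algebra.linearMap P A) hψ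
  obtain ⟨Rr⟩ := DualCx.nonempty_rep hL
  haveI := Rr.isKInjective
  obtain ⟨e⟩ := RA.unique (φ := ψ.toRingHom) ⟨_, DualCx.isRA_coJ (B := A) Rr.J Rr.iso⟩ h
  exact DualCx.isDualizing_of_iso e (DualCx.isDualizing_coJ Rr hL)

variable {R A : Type u} [CommRing R] [CommRing A] [Algebra R A] [Module.Flat R A] [Algebra.FinitePresentation R A]
  {n : ℕ} {ψ : MvPolynomial (Fin n) R →ₐ[R] A} (hψ : Function.Surjective ψ)

include hψ in
theorem Shr.self_props {W : Dual.D A} (h : Shr ψ W (Dual.inD R R)) :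
    (∃ a b : ℤ, ∀ i : ℤ, (i < a ∨ b < i) → Subsingleton (Dual.HD A W i)) ∧
      DRing.HasFiniteTorDimCx R ((DRing.restrictD (algebraMap R A)).obj W) ∧
      (Function.Bijective (fun a : A => a • 𝟙 W) ∧ ∀ i : ℤ, i ≠ 0 → Subsingleton (W ⟶ W⟦i⟧)) := by
  let P := MvPolynomial (Fin n) R
  obtain ⟨eP⟩ := polyD_self R n
  have h' : RA ψ.toRingHom W ((Dual.inD P P)⟦(n : ℤ)⟧) :=
    RA.of_iso h (Iso.refl _) ((shiftFunctor _ (n : ℤ)).mapIso eP)
  have hperf := isPerfectModule_pres ψ hψ
  let W₀ := DerivedCategory.Q.objPreimage W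
  let eW := DerivedCategory.Q.objObjPreimageIso W
  obtain ⟨d, -, ⟨e⟩⟩ := exists_rep ψ.toRingHom hperf (W := W₀) (-(n : ℤ))
    (RA.of_iso h' eW.symm (freeShiftIso P (n : ℤ)).symm)
  let D0 := d.D ⊗ freeAt P (-(n : ℤ))
  have hzero : ∀ i : ℤ, (i < -d.b - n ∨ -d.a - n < i) → IsZero (D0.X i) := fun i hi =>
    DRingKP.tensor_vanishes i fun p q hpq => by
      by_cases hp : p < -d.b ∨ -d.a < p
      · exact Or.inl (d.hzeroD p hp)
      · exact Or.inr (isZero_single_obj_X _ _ _ _ (by omega))
  refine ⟨⟨-d.b - n, -d.a - n, fun i hi => ModuleCat.subsingleton_of_isZero ?_⟩, ?_,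
    end_self ψ.toRingHom hψ hperf _ h'⟩
  · refine IsZero.of_iso ?_ (((DerivedCategory.homologyFunctor (ModuleCat.{u} A) i).mapIso eW).symm ≪≫
      (DerivedCategory.homologyFunctorFactors (ModuleCat.{u} A) i).app W₀)
    refine (exactAt_iff_isZero_homology _ _).1 ?_
    have h1 : ((DTen.resCx ψ.toRingHom).obj W₀).ExactAt i :=
      (exactAt_iff_isZero_homology _ _).2 (IsZero.of_iso ((exactAt_iff_isZero_homology _ _).1
        (ShortComplex.exact_of_isZero_X₂ _ (hzero i hi) : D0.ExactAt i))
        (((DerivedCategory.homologyFunctorFactors (ModuleCat.{u} P) i).app _).symm ≪≫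
          (DerivedCategory.homologyFunctor (ModuleCat.{u} P) i).mapIso e ≪≫
          (DerivedCategory.homologyFunctorFactors (ModuleCat.{u} P) i).app D0))
    rw [exactAt_iff] at h1 ⊢
    exact (ShortComplex.exact_map_iff_of_faithful _ (ModuleCat.restrictScalars.{u} ψ.toRingHom)).1 h1
  · refine ⟨-d.b - n, -d.a - n, (DTen.resCx (algebraMap R P)).obj D0,
      fun i hi => (ModuleCat.restrictScalars.{u} (algebraMap R P)).map_isZero (hzero i hi), fun i => ?_, ⟨?_⟩⟩
    · haveI : Module.Projective P (D0.X i) :=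
        (DRingKP.tensor_finiteProjective (b := -d.a) (c := -(n : ℤ)) (fun i hi => d.hzeroD i (Or.inr hi))
          (vanishesAbove_freeAt (R := P) (-(n : ℤ))) d.hprojD (termwiseFiniteProjective_freeAt (-(n : ℤ))) i).2
      letI : Module R (D0.X i) := Module.compHom _ (algebraMap R P)
      haveI : IsScalarTower R P (D0.X i) := IsScalarTower.of_algebraMap_smul fun _ _ => rfl
      exact (Module.Flat.trans R P (D0.X i) : Module.Flat R (D0.X i))
    · exact ((DTen.resFactors (algebraMap R P)).app D0).symm ≪≫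
        (DRing.restrictD (algebraMap R P)).mapIso (e.symm ≪≫ ((DTen.resFactors ψ.toRingHom).app W₀).symm ≪≫
          (DRing.restrictD ψ.toRingHom).mapIso eW) ≪≫
        (restrictDComp (algebraMap R P) ψ.toRingHom (algebraMap R A) ψ.comp_algebraMap).app W

include hψ in
theorem isDualizing_shriekVia_fibre [IsNoetherianRing A] [DRing.HasLBaseChange (algebraMap R (MvPolynomial (Fin n) R))]
    (Rψ : Dual.D (MvPolynomial (Fin n) R) ⥤ Dual.D A) (adj : DRing.restrictD ψ.toRingHom ⊣ Rψ)
    (k : Type u) [Field k] [Algebra R k]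
    [DRing.HasLBaseChange (Algebra.TensorProduct.includeRight : A →ₐ[R] k ⊗[R] A).toRingHom] :
    Dual.IsDualizing (k ⊗[R] A) ((DRing.LBaseChange (Algebra.TensorProduct.includeRight :
      A →ₐ[R] k ⊗[R] A).toRingHom).obj (Dual2.shriekVia n Rψ (Dual.inD R R))) := by
  haveI : IsNoetherianRing (k ⊗[R] A) := Algebra.FiniteType.isNoetherianRing k (k ⊗[R] A)
  obtain ⟨W, hW, ⟨eW⟩⟩ := DTenLib.exists_kFlat_rep (Dual2.shriekVia n Rψ (Dual.inD R R))
  have h1 : Shr ψ (DerivedCategory.Q.obj W) (Dual.inD R R) :=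
    RA.of_iso (shr_shriekVia ψ Rψ adj (Dual.inD R R)) eW.symm (Iso.refl _)
  exact DualCx.isDualizing_of_iso ((lbcKFlatIso _ hW).symm ≪≫ (DRing.LBaseChange _).mapIso eW)
    (Shr.isDualizing_of_field (bcPres_surjective hψ) (Shr.baseChange_self (R' := k) hψ hW h1))

end

end Groth.Agent.Shriek
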