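import Groth.Agent.Shriek.BCShr
import Groth.Agent.Shriek.SelfProps
import Groth.Agent.DRingKP.Restrict
import Groth.Agent.DRingKP.TorAmp
import Groth.Prelude.Def_DualSh

/-!
The upper shriek of the base is a relative dualizing complex.
-/

set_option autoImplicit false
set_option linter.style.haveILetI false
set_option maxHeartbeats 1000000
set_option backward.isDefEq.respectTransparency false
universe u

namespace Groth.Agent.Shriek

open CategoryTheory CategoryTheory.Limits MonoidalCategory TensorProduct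

attribute [local instance] HasDerivedCategory.standard

noncomputable section

variable {R A : Type u} [CommRing R] [CommRing A] [Algebra R A] [Module.Flat R A] [Algebra.FinitePresentation R A]
  {n : ℕ} {ψ : MvPolynomial (Fin n) R →ₐ[R] A}

theorem Shr.isPseudoCoherent' (hψ : Function.Surjective ψ) {W : Dual.D A} (h : Shr ψ W (Dual.inD R R)) :
    DRing.IsPseudoCoherent' A W := by
  let P := MvPolynomial (Fin n) R
  obtain ⟨eP⟩ := polyD_self R n
  have h' : RA ψ.toRingHom W ((Dual.inD P P)⟦(n : ℤ)⟧) :=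
    RA.of_iso h (Iso.refl _) ((shiftFunctor _ (n : ℤ)).mapIso eP)
  have hperf := isPerfectModule_pres ψ hψ
  let W₀ := DerivedCategory.Q.objPreimage W
  let eW := DerivedCategory.Q.objObjPreimageIso W
  obtain ⟨d, -, ⟨e⟩⟩ := exists_rep ψ.toRingHom hperf (W := W₀) (-(n : ℤ))
    (RA.of_iso h' eW.symm (freeShiftIso P (n : ℤ)).symm)
  letI : Algebra P A := ψ.toRingHom.toAlgebra
  refine (DRingKP.pc'_res_iff (A := P) (B := A) (DRingKP.pc'_of_isPerfect hperf) W).2
    (DRingKP.pc'_of_isPerfect ⟨d.D ⊗ freeAt P (-(n : ℤ)), -d.b - n, -d.a - n,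
      fun i hi => DRingKP.tensor_vanishes i fun p q hpq => ?_,
      fun i => DRingKP.tensor_finiteProjective (b := -d.a) (c := -(n : ℤ)) (fun i hi => d.hzeroD i (Or.inr hi))
        (vanishesAbove_freeAt (R := P) (-(n : ℤ))) d.hprojD (termwiseFiniteProjective_freeAt (-(n : ℤ))) i,
      ⟨e.symm ≪≫ ((DTen.resFactors ψ.toRingHom).app W₀).symm ≪≫ (DRing.restrictD ψ.toRingHom).mapIso eW⟩⟩)
  by_cases hp : p < -d.b ∨ -d.a < p
  · exact Or.inl (d.hzeroD p hp)
  · exact Or.inr (HomologicalComplex.isZero_single_obj_X _ _ _ _ (by omega))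

theorem Shr.isRelPerfect (hψ : Function.Surjective ψ) {W : Dual.D A} (h : Shr ψ W (Dual.inD R R)) :
    Dual2.IsRelPerfect R A W :=
  ⟨h.isPseudoCoherent' hψ, (h.self_props hψ).2.1⟩

theorem Shr.rigid (hψ : Function.Surjective ψ) {W : Dual.D A} (h : Shr ψ W (Dual.inD R R))
    [DRing.HasLBaseChange (Algebra.TensorProduct.includeLeftRingHom : A →+* A ⊗[R] A)] :
    RA (Algebra.TensorProduct.lmul' R (S := A)).toRingHom (Dual.inD A A)
      ((DRing.LBaseChange (Algebra.TensorProduct.includeLeftRingHom : A →+* A ⊗[R] A)).obj W) := by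
  obtain ⟨W₀, hW₀, ⟨eW⟩⟩ := DTenLib.exists_kFlat_rep W
  let A'' := A ⊗[R] A
  let μ : A'' →+* A := (Algebra.TensorProduct.lmul' R (S := A)).toRingHom
  let ir : A →+* A'' := (Algebra.TensorProduct.includeRight : A →ₐ[R] A ⊗[R] A).toRingHom
  let il : A →+* A'' := Algebra.TensorProduct.includeLeftRingHom
  let σ : A'' →+* A'' := (Algebra.TensorProduct.comm R A A).toAlgHom.toRingHom
  have hσ : σ.comp σ = RingHom.id A'' := RingHom.ext fun z => by
    show Algebra.TensorProduct.comm R A A (Algebra.TensorProduct.comm R A A z) = z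
    induction z using TensorProduct.induction_on with
    | zero => simp
    | tmul a b => simp
    | add x y hx hy => rw [map_add, map_add, hx, hy]
  have hμσ : μ.comp σ = μ := RingHom.ext fun z => by
    show Algebra.TensorProduct.lmul' R (S := A) (Algebra.TensorProduct.comm R A A z) =
      Algebra.TensorProduct.lmul' R (S := A) z
    induction z using TensorProduct.induction_on with
    | zero => simp
    | tmul a b => simp [mul_comm]
    | add x y hx hy => rw [map_add, map_add, map_add, hx, hy]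
  let X := DerivedCategory.Q.obj ((DTen.extCx ir).obj W₀)
  have hX : Shr (bcPres (R' := A) ψ) X (Dual.inD A A) :=
    Shr.baseChange_self (R' := A) hψ hW₀ (RA.of_iso h eW.symm (Iso.refl _))
  obtain ⟨V, hV⟩ := RA.exists_of μ X
  have hcomp : μ.comp (bcPres (R' := A) ψ).toRingHom = MvPolynomial.eval fun i => ψ (MvPolynomial.X i) := by
    refine MvPolynomial.ringHom_ext (fun a => ?_) fun i => ?_
    · show Algebra.TensorProduct.lmul' R (S := A) (bcPres (R' := A) ψ (MvPolynomial.C a)) = _
      rw [bcPres, MvPolynomial.aeval_C, MvPolynomial.eval_C, Algebra.TensorProduct.algebraMap_apply]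
      simp
    · show Algebra.TensorProduct.lmul' R (S := A) (bcPres (R' := A) ψ (MvPolynomial.X i)) = _
      rw [bcPres, MvPolynomial.aeval_X, MvPolynomial.eval_X]
      simp
  obtain ⟨eV⟩ := RA.unique (RA.comp hX hV _ hcomp) (RA.eval A n (fun i => ψ (MvPolynomial.X i)) (Dual.inD A A))
  haveI := preservesFiniteLimits_of_flat σ (flat_of_inverse σ σ hσ hσ)
  have h2 := RA.comp (RA.of_ringIso σ σ hσ hσ X) (RA.of_iso hV eV (Iso.refl _)) μ hμσ
  have hil : σ.comp ir = il := RingHom.ext fun a => by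
    show Algebra.TensorProduct.comm R A A ((1 : A) ⊗ₜ[R] a) = a ⊗ₜ[R] (1 : A)
    simp
  exact RA.of_iso h2 (Iso.refl _) (DualCx.locQ σ _ ≪≫ DerivedCategory.Q.mapIso (extComp ir σ il hil W₀) ≪≫
    (lbcKFlatIso il hW₀).symm ≪≫ (DRing.LBaseChange il).mapIso eW)

theorem Shr.isRelDualizing (hψ : Function.Surjective ψ) {W : Dual.D A} (h : Shr ψ W (Dual.inD R R))
    [DRing.HasLBaseChange (Algebra.TensorProduct.includeLeftRingHom : A →+* A ⊗[R] A)]
    (Rμ : Dual.D (A ⊗[R] A) ⥤ Dual.D A)
    (adjμ : DRing.restrictD (Algebra.TensorProduct.lmul' R (S := A)).toRingHom ⊣ Rμ) :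
    Dual2.IsRelDualizing R A Rμ W :=
  ⟨h.isRelPerfect hψ, RA.unique (RA.of_adj adjμ _) (h.rigid hψ)⟩

end

end Groth.Agent.Shriek
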