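import Groth.Agent.DualFlat.Degree
import Groth.Agent.DualFlat.Apps
import Groth.Agent.DualCx.FiniteMapApps
import Groth.Agent.GLinFree.Dim
import Groth.Agent.GeomProp.SmoothLocal
import Mathlib.RingTheory.RegularLocalRing.Polynomial
import Mathlib.RingTheory.Localization.Algebra

/-!
The residue degree at a maximal ideal of a polynomial ring, and localisation at a maximal ideal.
-/

set_option autoImplicit false
set_option linter.style.haveILetI false
set_option maxHeartbeats 1000000
universe u

namespace Groth.Agent.Shriek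

open CategoryTheory CategoryTheory.Limits DerivedCategory TensorProduct IsLocalRing
open Groth.Agent.DualCx Groth.Agent.DualFlat

attribute [local instance] HasDerivedCategory.standard

noncomputable section

section Poly

variable {R : Type u} [CommRing R] [IsNoetherianRing R] [IsLocalRing R] {n : ℕ}
  (M : Ideal (MvPolynomial (Fin n) R)) [M.IsMaximal]

theorem isLocalHom_polyLoc (hM : M.comap (algebraMap R (MvPolynomial (Fin n) R)) = maximalIdeal R) :
    IsLocalHom (algebraMap R (Localization.AtPrime M)) := ⟨fun a ha => by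
  by_contra h
  have h1 : algebraMap R (MvPolynomial (Fin n) R) a ∈ M := Ideal.mem_comap.1 (hM.symm ▸ (mem_maximalIdeal _).2 h)
  rw [IsScalarTower.algebraMap_apply R (MvPolynomial (Fin n) R) (Localization.AtPrime M),
    IsLocalization.AtPrime.isUnit_to_map_iff (Localization.AtPrime M) M] at ha
  exact ha h1⟩

theorem exists_fib_equiv (hM : M.comap (algebraMap R (MvPolynomial (Fin n) R)) = maximalIdeal R) :
    ∃ (M' : Ideal (MvPolynomial (Fin n) (ResidueField R))) (_ : M'.IsMaximal),
      Nonempty (Localization.AtPrime M' ≃+* Fib (A := R) (Localization.AtPrime M)) := by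
  let θ : MvPolynomial (Fin n) R →+* MvPolynomial (Fin n) (ResidueField R) := MvPolynomial.map (residue R)
  have hθ : Function.Surjective θ := MvPolynomial.map_surjective _ residue_surjective
  have hker : RingHom.ker θ = (maximalIdeal R).map (algebraMap R (MvPolynomial (Fin n) R)) := by
    rw [MvPolynomial.ker_map, ker_residue]; rfl
  have hle : RingHom.ker θ ≤ M := by rw [hker, Ideal.map_le_iff_le_comap, hM]
  have hcomap : (M.map θ).comap θ = M := by
    rw [Ideal.comap_map_of_surjective' _ hθ, sup_eq_left.2 hle]
  haveI hmax : (M.map θ).IsMaximal := by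
    refine (Ideal.map_eq_top_or_isMaximal_of_surjective θ hθ ‹M.IsMaximal›).resolve_left fun h => ?_
    exact (Ideal.IsMaximal.ne_top (I := M) ‹_›) (by rw [← hcomap, h, Ideal.comap_top])
  have hT : M.primeCompl.map θ = (M.map θ).primeCompl := by
    ext y
    constructor
    · rintro ⟨x, hx, rfl⟩ hy
      exact hx (hcomap ▸ (Ideal.mem_comap.2 hy : x ∈ (M.map θ).comap θ))
    · intro hy
      obtain ⟨x, rfl⟩ := hθ y
      exact ⟨x, fun hx => hy (Ideal.mem_map_of_mem θ hx), rfl⟩
  haveI : IsLocalization (M.primeCompl.map θ) (Localization.AtPrime (M.map θ)) := by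
    rw [hT]; infer_instance
  let g : Localization.AtPrime M →+* Localization.AtPrime (M.map θ) :=
    IsLocalization.map (Localization.AtPrime (M.map θ)) θ (hT ▸ Submonoid.le_comap_map M.primeCompl)
  have hg : Function.Surjective g :=
    IsLocalization.map_surjective_of_surjective (M := M.primeCompl) (S := Localization.AtPrime M)
      (Q := Localization.AtPrime (M.map θ)) hθ
  have hgker : RingHom.ker g = (maximalIdeal R).map (algebraMap R (Localization.AtPrime M)) := by
    rw [IsScalarTower.algebraMap_eq R (MvPolynomial (Fin n) R) (Localization.AtPrime M), ← Ideal.map_map, ← hker]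
    exact IsLocalization.ker_map (M := M.primeCompl) (S := Localization.AtPrime M) _ θ hT
  exact ⟨M.map θ, hmax, ⟨((Ideal.quotEquivOfEq hgker.symm).trans (RingHom.quotientKerEquivOfSurjective hg)).symm⟩⟩

theorem gorenstein_fib_poly (hM : M.comap (algebraMap R (MvPolynomial (Fin n) R)) = maximalIdeal R) :
    LocCoh.IsGorensteinLocalRing (Fib (A := R) (Localization.AtPrime M)) := by
  obtain ⟨M', _, ⟨e⟩⟩ := exists_fib_equiv M hM
  haveI : IsRegularLocalRing (Localization.AtPrime M') :=
    IsRegularRing.isRegularLocalRing_localization M'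
  haveI := Goren.isGorenstein_of_regular (Localization.AtPrime M')
  exact Goren.isGorenstein_of_equiv e

theorem dim_fib_poly (hM : M.comap (algebraMap R (MvPolynomial (Fin n) R)) = maximalIdeal R) :
    ringKrullDim (Fib (A := R) (Localization.AtPrime M)) = (n : ℕ) := by
  obtain ⟨M', _, ⟨e⟩⟩ := exists_fib_equiv M hM
  rw [← ringKrullDim_eq_of_ringEquiv e, IsLocalization.AtPrime.ringKrullDim_eq_height M',
    GLinFree.height_eq_of_isMaximal n M']
  rfl

end Poly

section LocMax

variable {A : Type u} [CommRing A] [IsNoetherianRing A] (m : Ideal A) [m.IsMaximal] (K : Dual.D A)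

/-- Vanishing at a closed point can be tested after localisation. -/
theorem subsingleton_T_max_iff {a : ℤ} (hlow : ∀ i : ℤ, i < a → Subsingleton (Dual.HD A K i)) (j : ℤ) :
    Subsingleton (T (KB (Localization.AtPrime m) K)
        (Localization.AtPrime m ⧸ maximalIdeal (Localization.AtPrime m)) j) ↔
      Subsingleton (T K (A ⧸ m) j) := by
  let B := Localization.AtPrime m
  have hmB : m.map (algebraMap A B) = maximalIdeal B := Localization.AtPrime.map_eq_maximalIdeal
  let eC : EM (A := A) B (A ⧸ m) ≃ₗ[B] B ⧸ maximalIdeal B :=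
    ((tens B _).trans (Algebra.TensorProduct.quotIdealMapEquivTensorQuot B m).toLinearEquiv.symm).trans
      (Submodule.quotEquivOfEq _ _ hmB)
  let eb : B ⊗[A] T K (A ⧸ m) j ≃ₗ[B] T (KB B K) (EM (A := A) B (A ⧸ m)) j :=
    LinearEquiv.ofBijective _ (bT_bijective B K hlow (A ⧸ m) j)
  rw [← DualCx.subsingleton_congr eC, ← eb.toEquiv.subsingleton_congr]
  constructor
  · intro h
    refine subsingleton_of_forall_eq 0 fun x => ?_
    obtain ⟨⟨s, hs⟩, hsx⟩ := (IsLocalizedModule.eq_zero_iff m.primeCompl
      (TensorProduct.mk A B (T K (A ⧸ m) j) 1) (m := x)).1 (Subsingleton.elim _ _)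
    obtain ⟨t, i, hi, hti⟩ := (Ideal.IsMaximal.exists_inv ‹m.IsMaximal› hs :)
    have hix : i • x = 0 := DualCx.smul_eq_zero_of_killed (fun q => by
      obtain ⟨b, rfl⟩ := Ideal.Quotient.mk_surjective q
      rw [← Ideal.Quotient.mk_eq_mk, ← Submodule.Quotient.mk_smul, Submodule.Quotient.mk_eq_zero]
      exact Ideal.mul_mem_right _ _ hi) x
    calc x = (t * s + i) • x := by rw [hti, one_smul]
      _ = 0 := by rw [add_smul, mul_smul, hix, add_zero]; exact (congrArg (t • ·) hsx).trans (smul_zero t)
  · intro h
    infer_instance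

end LocMax

end

end Groth.Agent.Shriek
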