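import Groth.Agent.DualFlat.Degree
import Groth.Agent.DualFlat.Apps
import Groth.Agent.DualCx.FiniteMapApps
import Groth.Agent.CMChart.AffineField
import Groth.Agent.LocalDimBC.Smooth
import Groth.Agent.SyntLib.Open
import Groth.Agent.GeomProp.SmoothLocal
import Groth.Agent.DualCx.LocalizeDual
import Groth.Agent.Shriek.NormLoc
import Groth.Prelude.Def_FlatCA

/-!
The residue degree of a smooth base change of a dualizing complex at any prime.
-/

set_option autoImplicit false
set_option linter.style.haveILetI false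
set_option maxHeartbeats 1000000
universe u

namespace Groth.Agent.Shriek

open CategoryTheory CategoryTheory.Limits DerivedCategory TensorProduct IsLocalRing
open Groth.Agent.DualCx Groth.Agent.DualFlat

attribute [local instance] HasDerivedCategory.standard

noncomputable section

/-- the transcendence degree of a point of an algebra over a field -/
def trdegAt (k S : Type u) [Field k] [CommRing S] [Algebra k S] (Q : Ideal S) [Q.IsPrime] : Cardinal.{u} :=
  Algebra.trdeg k Q.ResidueField

theorem trdegAt_eq {k S L : Type u} [Field k] [CommRing S] [Algebra k S] [Field L] [Algebra k L] (χ : S →ₐ[k] L)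
    (Q : Ideal S) [Q.IsPrime] (hQ : ∀ x, x ∈ Q ↔ χ x = 0) (hgen : ∀ y : L, ∃ a s : S, y = χ a / χ s) :
    trdegAt k S Q = Algebra.trdeg k L := by
  let g : Q.ResidueField →+* L := Ideal.ResidueField.lift Q χ.toRingHom (fun x hx => (hQ x).1 hx) fun x hx =>
    isUnit_iff_ne_zero.2 fun h => hx ((hQ x).2 h)
  have hg : ∀ x, g (algebraMap S Q.ResidueField x) = χ x := fun x => Ideal.ResidueField.lift_algebraMap _ _ _ _ x
  have hbij : Function.Bijective g := by
    refine ⟨g.injective, fun y => ?_⟩
    obtain ⟨a, s, rfl⟩ := hgen y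
    exact ⟨algebraMap S Q.ResidueField a / algebraMap S Q.ResidueField s, by rw [map_div₀, hg, hg]⟩
  refine (AlgEquiv.ofRingEquiv (f := RingEquiv.ofBijective g hbij) fun c => ?_).trdeg_eq
  show g (algebraMap k Q.ResidueField c) = algebraMap k L c
  rw [IsScalarTower.algebraMap_apply k S Q.ResidueField, hg, χ.commutes]

section Prime

variable {A B : Type u} [CommRing A] [CommRing B] [Algebra A B] (p : Ideal A) [p.IsPrime] (q : Ideal B) [q.IsPrime]
  [hq : q.LiesOver p]

/-- The point of the fibre, with the same residue field. -/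
theorem exists_fiber_point :
    ∃ (Q : Ideal (p.Fiber B)) (_ : Q.IsPrime), Q.comap Algebra.TensorProduct.includeRight = q ∧
      @Algebra.trdeg p.ResidueField q.ResidueField _ _
          (Ideal.ResidueField.mapₐ p q (Algebra.ofId A B) hq.over).toRingHom.toAlgebra =
        trdegAt p.ResidueField (p.Fiber B) Q := by
  let j : p.ResidueField →ₐ[A] q.ResidueField := Ideal.ResidueField.mapₐ p q (Algebra.ofId A B) hq.over
  letI : Algebra p.ResidueField q.ResidueField := j.toRingHom.toAlgebra
  let χ : p.Fiber B →ₐ[A] q.ResidueField :=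
    Algebra.TensorProduct.lift j (IsScalarTower.toAlgHom A B q.ResidueField) fun _ _ => Commute.all _ _
  have hχ : ∀ b : B, χ (1 ⊗ₜ[A] b) = algebraMap B q.ResidueField b := fun b => by simp [χ]
  let Q : Ideal (p.Fiber B) := RingHom.ker χ.toRingHom
  haveI hQ : Q.IsPrime := RingHom.ker_isPrime _
  refine ⟨Q, hQ, ?_, ?_⟩
  · ext b
    show χ (1 ⊗ₜ[A] b) = 0 ↔ b ∈ q
    rw [hχ]
    exact Ideal.algebraMap_residueField_eq_zero
  let χ' : p.Fiber B →ₐ[p.ResidueField] q.ResidueField :=
    { χ.toRingHom with
      commutes' := fun c => by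
        show χ (c ⊗ₜ[A] 1) = j c
        simp [χ] }
  refine (trdegAt_eq χ' Q (fun x => Iff.rfl) fun y => ?_).symm
  obtain ⟨a, s, hs, rfl⟩ := IsFractionRing.div_surjective (B ⧸ q) y
  obtain ⟨a, rfl⟩ := Ideal.Quotient.mk_surjective a
  obtain ⟨s, rfl⟩ := Ideal.Quotient.mk_surjective s
  refine ⟨1 ⊗ₜ[A] a, 1 ⊗ₜ[A] s, ?_⟩
  show _ = χ (1 ⊗ₜ[A] a) / χ (1 ⊗ₜ[A] s)
  rw [hχ, hχ]
  rfl

variable {n : ℕ}

theorem exists_fibre_dim (hs : FlatCA.SmoothRelDim n A B) [Algebra.FiniteType A B] (t : ℕ)
    (ht : @Algebra.trdeg p.ResidueField q.ResidueField _ _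
        (Ideal.ResidueField.mapₐ p q (Algebra.ofId A B) hq.over).toRingHom.toAlgebra = (t : Cardinal.{u})) :
    ∃ c : ℕ, c + t = n ∧
      ringKrullDim (Localization.AtPrime q ⧸ p.map (algebraMap A (Localization.AtPrime q))) = c := by
  haveI : AlgebraicGeometry.SmoothOfRelativeDimension n
    (AlgebraicGeometry.Spec.map (CommRingCat.ofHom (algebraMap A B))) := hs
  obtain ⟨Q, hQ, hQq, htr⟩ := exists_fiber_point p q
  obtain ⟨b, δ, hb, hD, hδ⟩ := CMChart.localDim_primeSpectrum (k := p.ResidueField) (⟨Q, hQ⟩ : PrimeSpectrum (p.Fiber B))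
  rw [htr] at ht
  replace ht : δ = t := Nat.cast_inj.1 (hδ.symm.trans ht)
  have h1 := SyntLib.fibreDimAt_eq_localDim p (⟨Q, hQ⟩ : PrimeSpectrum (p.Fiber B))
  rw [LocalDimBC.fibreDimAt_of_smoothOfRelativeDimension n, hD] at h1
  refine ⟨b, by have h2 : n = b + δ := by exact_mod_cast h1
                omega, ?_⟩
  subst hQq
  letI := Localization.AtPrime.algebraOfLiesOver p (Q.comap (Algebra.TensorProduct.includeRight : B →ₐ[A] p.Fiber B))
  rw [← hb]
  exact (ringKrullDim_eq_of_ringEquiv (Ideal.Fiber.localizationAlgEquivQuotient p Q).toRingEquiv).symm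

end Prime

theorem nontrivial_T_KB {A B : Type u} [CommRing A] [CommRing B] [IsNoetherianRing A] [IsNoetherianRing B]
    [IsLocalRing A] [IsLocalRing B] [Algebra A B] [Module.Flat A B] [IsLocalHom (algebraMap A B)] {K : Dual.D A}
    (hK : Dual.IsDualizing A K) (hKB : Dual.IsDualizing B (KB B K)) {d : ℤ}
    (hd : Nontrivial (T K (IsLocalRing.ResidueField A) d))
    (hG : LocCoh.IsGorensteinLocalRing (Fib (A := A) B)) {c : ℕ} (hc : ringKrullDim (Fib (A := A) B) = c) :
    Nontrivial (T (KB B K) (IsLocalRing.ResidueField B) (d + c)) := by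
  obtain ⟨R⟩ := nonempty_rep hK
  obtain ⟨n, hn0, -⟩ := residue_spec hK (maximalIdeal A) R
  obtain rfl : n = d := by
    by_contra h
    exact not_nontrivial_iff_subsingleton.2 (hn0 d (Ne.symm h)) hd
  have hn : Dual.IsNormalized A (K⟦n⟧) := fun i hi =>
    ((Iso.homCongr (Iso.refl _) ((shiftFunctorAdd' (Dual.D A) n i (n + i) rfl).app K)).subsingleton_congr).1
      (hn0 (n + i) (by omega))
  obtain ⟨R'⟩ := nonempty_rep hKB
  obtain ⟨m, hm0, ⟨hm1⟩⟩ := residue_spec hKB (maximalIdeal B) R'
  obtain rfl : m = n + c := by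
    by_contra h
    haveI : Subsingleton (T (KB B K) (B ⧸ maximalIdeal B) m) := by
      have h1 := residue_degree_KB B (K⟦n⟧) (DualCx.isDualizing_shift hK n) hn hG hc (m - n) (by omega)
      exact (Iso.homCongr (Iso.refl _) (((shiftFunctorAdd' (Dual.D B) n (m - n) m (by omega)).app (KB B K)) ≪≫
        (CategoryTheory.shiftFunctor _ (m - n)).mapIso
          (((locD (algebraMap A B)).commShiftIso n).app K).symm)).subsingleton_congr.2 h1
    haveI : Subsingleton (B ⧸ maximalIdeal B) := hm1.symm.toEquiv.subsingleton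
    exact not_subsingleton (B ⧸ maximalIdeal B) inferInstance
  exact hm1.toEquiv.nontrivial (β := B ⧸ maximalIdeal B)

theorem nontrivial_T_smooth {A B : Type u} [CommRing A] [CommRing B] [Algebra A B] [IsNoetherianRing A] {n : ℕ}
    (hs : FlatCA.SmoothRelDim n A B) {ω : Dual.D A} (hω : Dual.IsDualizing A ω) (p : Ideal A) [p.IsPrime]
    (q : Ideal B) [q.IsPrime] [hq : q.LiesOver p]
    [DRing.HasLBaseChange (algebraMap A (Localization.AtPrime p))]
    [DRing.HasLBaseChange (algebraMap A (Localization.AtPrime q))] (d : ℤ)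
    (hd : Nontrivial (T ((DRing.LBaseChange (algebraMap A (Localization.AtPrime p))).obj ω) p.ResidueField d)) (t : ℕ)
    (ht : @Algebra.trdeg p.ResidueField q.ResidueField _ _
        (Ideal.ResidueField.mapₐ p q (Algebra.ofId A B) hq.over).toRingHom.toAlgebra = (t : Cardinal.{u})) :
    Nontrivial (T ((DRing.LBaseChange (algebraMap A (Localization.AtPrime q))).obj ω) q.ResidueField
      (d - (t : ℤ) + (n : ℤ))) := by
  haveI : AlgebraicGeometry.SmoothOfRelativeDimension n
    (AlgebraicGeometry.Spec.map (CommRingCat.ofHom (algebraMap A B))) := hs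
  haveI : Algebra.Smooth A B := RingHom.smooth_algebraMap.1
    ((AlgebraicGeometry.HasRingHomProperty.Spec_iff (P := @AlgebraicGeometry.Smooth)).1
      (AlgebraicGeometry.SmoothOfRelativeDimension.smooth n
        (AlgebraicGeometry.Spec.map (CommRingCat.ofHom (algebraMap A B)))))
  haveI : Algebra.FiniteType A B := inferInstance
  haveI : IsNoetherianRing B := Algebra.FiniteType.isNoetherianRing A B
  haveI : Module.Flat A B := inferInstance
  obtain ⟨c, hct, hc⟩ := exists_fibre_dim p q hs t ht
  have hgor : ∀ (P : Ideal B) [P.IsPrime], LocCoh.IsGorensteinLocalRing (EGA4.FibLocRing A B P) := fun P _ => by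
    haveI := GeomProp.isRegularLocalRing_fibLocRing_of_smooth A B P
    exact Goren.isGorenstein_of_regular _
  haveI := DRingKP.hasLBaseChange (algebraMap A B)
  have hB : Dual.IsDualizing B ((DRing.LBaseChange (algebraMap A B)).obj ω) :=
    DualFlat.isDualizing_lBaseChange_finiteType B ω (fun P _ => hgor P) hω
  obtain rfl : p = q.comap (algebraMap A B) := hq.over
  obtain ⟨hA', hF', hL', ht', ⟨e⟩⟩ := exists_local B ω q
  letI := hA'
  haveI := hF'
  haveI := hL'
  haveI := ht'
  let K := (locD (algebraMap A (Localization.AtPrime (q.comap (algebraMap A B))))).obj ω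
  have hK : Dual.IsDualizing (Localization.AtPrime (q.comap (algebraMap A B))) K :=
    DualCx.isDualizing_of_iso (lBaseChangeObjIso _ ω)
      (DualCx.Loc.isDualizing_lBaseChange (B := Localization.AtPrime (q.comap (algebraMap A B)))
        (q.comap (algebraMap A B)).primeCompl hω)
  haveI := DRingKP.hasLBaseChange (algebraMap B (Localization.AtPrime q))
  have hKB : Dual.IsDualizing (Localization.AtPrime q) (KB (Localization.AtPrime q) K) :=
    DualCx.isDualizing_of_iso ((DRing.LBaseChange _).mapIso (lBaseChangeObjIso (algebraMap A B) ω) ≪≫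
        lBaseChangeObjIso _ _ ≪≫ e.symm)
      (DualCx.Loc.isDualizing_lBaseChange (B := Localization.AtPrime q) q.primeCompl hB)
  have hfib : (maximalIdeal (Localization.AtPrime (q.comap (algebraMap A B)))).map
      (algebraMap _ (Localization.AtPrime q)) =
      (q.comap (algebraMap A B)).map (algebraMap A (Localization.AtPrime q)) := by
    rw [← Localization.AtPrime.map_eq_maximalIdeal, Ideal.map_map, ← IsScalarTower.algebraMap_eq]
  let eF := Ideal.quotEquivOfEq hfib
  have h := nontrivial_T_KB hK hKB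
    (K := K) (d := d) (c := c)
    ((Iso.homCongr (Iso.refl _) ((CategoryTheory.shiftFunctor _ d).mapIso (lBaseChangeObjIso _ ω))).nontrivial_congr.1 hd)
    (by haveI := hgor q; exact Goren.isGorenstein_of_equiv eF.symm)
    ((ringKrullDim_eq_of_ringEquiv eF).trans hc)
  rw [show d - (t : ℤ) + (n : ℤ) = d + (c : ℤ) by omega]
  obtain ⟨e3⟩ := nonempty_locD_comp (algebraMap A (Localization.AtPrime (q.comap (algebraMap A B))))
    (algebraMap (Localization.AtPrime (q.comap (algebraMap A B))) (Localization.AtPrime q))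
    (algebraMap A (Localization.AtPrime q)) (IsScalarTower.algebraMap_eq _ _ _).symm ω
  exact (Iso.homCongr (Iso.refl _) ((CategoryTheory.shiftFunctor _ _).mapIso
    (e3 ≪≫ (lBaseChangeObjIso (algebraMap A (Localization.AtPrime q)) ω).symm))).nontrivial_congr.1 h

end

end Groth.Agent.Shriek
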