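import Groth.Agent.Shriek.LCIDual
import Groth.Agent.Shriek.SmoothDeg
import Groth.Agent.Shriek.RelDual
import Groth.Agent.DualCx.Unique
import Groth.Agent.DualCx.Regular
import Groth.Agent.DRingKP.Fibre
import Groth.Agent.Goren.Ring

/-!
Gorenstein fibres and invertibility of the upper shriek of the base.
-/

set_option autoImplicit false
set_option linter.style.haveILetI false
set_option maxHeartbeats 1000000
set_option backward.isDefEq.respectTransparency false
universe u

namespace Groth.Agent.Shriek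

open CategoryTheory CategoryTheory.Limits DerivedCategory TensorProduct
open Groth.Agent.DualCx Groth.Agent.DualFlat

attribute [local instance] HasDerivedCategory.standard

noncomputable section

section Comp

variable {A B C : Type u} [CommRing A] [CommRing B] [CommRing C]

theorem nonempty_lbcComp (φ : A →+* B) (ψ : B →+* C) (χ : A →+* C) (h : ψ.comp φ = χ)
    [DRing.HasLBaseChange φ] [DRing.HasLBaseChange ψ] [DRing.HasLBaseChange χ] (K : Dual.D A) :
    Nonempty ((DRing.LBaseChange ψ).obj ((DRing.LBaseChange φ).obj K) ≅ (DRing.LBaseChange χ).obj K) := by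
  obtain ⟨K₀, hK₀, ⟨eK⟩⟩ := DTenLib.exists_kFlat_rep K
  exact ⟨(DRing.LBaseChange ψ).mapIso ((DRing.LBaseChange φ).mapIso eK.symm ≪≫ lbcKFlatIso φ hK₀) ≪≫
    lbcKFlatIso ψ (KFlat.isKFlat_extendScalars φ hK₀) ≪≫ DerivedCategory.Q.mapIso (extComp φ ψ χ h K₀) ≪≫
    (lbcKFlatIso χ hK₀).symm ≪≫ (DRing.LBaseChange χ).mapIso eK⟩

def lbcFree (φ : A →+* B) [DRing.HasLBaseChange φ] (k : ℤ) :
    (DRing.LBaseChange φ).obj (DerivedCategory.Q.obj (freeAt A k)) ≅ DerivedCategory.Q.obj (freeAt B k) :=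
  lbcKFlatIso φ (isKFlat_freeAt k) ≪≫ DerivedCategory.Q.mapIso (extFreeIso φ k)

def shiftFree (R : Type u) [CommRing R] (m : ℤ) :
    (Dual.inD R R)⟦m⟧ ≅ DerivedCategory.Q.obj (freeAt R (-m)) := (freeShiftIso R m).symm

def lbcShift (φ : A →+* B) [DRing.HasLBaseChange φ] (m : ℤ) :
    (DRing.LBaseChange φ).obj ((Dual.inD A A)⟦m⟧) ≅ (Dual.inD B B)⟦m⟧ :=
  (DRing.LBaseChange φ).mapIso (shiftFree A m) ≪≫ lbcFree φ (-m) ≪≫ (shiftFree B m).symm

theorem gorenstein_of_shift [IsNoetherianRing A] [IsLocalRing A] (m : ℤ)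
    (h : Dual.IsDualizing A ((Dual.inD A A)⟦m⟧)) : LocCoh.IsGorensteinLocalRing A := by
  have h0 : Dual.IsDualizing A (Dual.inD A A) :=
    DualCx.isDualizing_of_iso ((shiftFunctorCompIsoId (Dual.D A) m (-m) (by omega)).app _)
      (DualCx.isDualizing_shift h (-m))
  exact ⟨DualCx.exists_hasInjectiveDimensionLT h0⟩

/-- A pseudo-coherent object of a local ring whose closed fibre is a shifted field is a shift of the ring. -/
theorem nonempty_iso_of_fibre [IsLocalRing A] {κ : Type u} [Field κ] (φ : A →+* κ)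
    (hφ : IsLocalRing.maximalIdeal A ≤ RingHom.ker φ) {K : Dual.D A} (hK : DRing.IsPseudoCoherent' A K)
    [DRing.HasLBaseChange φ] (m : ℤ) (e : (DRing.LBaseChange φ).obj K ≅ (Dual.inD κ κ)⟦m⟧) :
    Nonempty (K ≅ (Dual.inD A A)⟦m⟧) := by
  haveI := fun (S T : Type u) [CommRing S] [CommRing T] (φ : S →+* T) => DRingKP.hasLBaseChange φ
  have hκ : ∀ i : ℤ, i ≠ -m → Subsingleton (Dual.HD κ ((Dual.inD κ κ)⟦m⟧) i) := fun i hi => by
    obtain ⟨e'⟩ := nonempty_hd_shift (Dual.inD κ κ) m i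
    haveI := DualCx.subsingleton_hd_inD κ (j := m + i) (by omega) (A := κ)
    exact e'.toEquiv.subsingleton
  have hfib : ∀ n : Ideal A, n.IsMaximal → ∀ i : ℤ, (i < -m ∨ -m < i) →
      Subsingleton (Dual.HD (A ⧸ n) ((DRing.LBaseChange (Ideal.Quotient.mk n)).obj K) i) := by
    intro n hn i hi
    obtain rfl := IsLocalRing.eq_maximalIdeal hn
    let k := A ⧸ IsLocalRing.maximalIdeal A
    letI : Field k := Ideal.Quotient.field _
    let j : k →+* κ := Ideal.Quotient.lift _ φ hφ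
    letI : Algebra k κ := j.toAlgebra
    haveI : Module.Flat k κ := inferInstance
    haveI : PreservesFiniteLimits (DualCx.ext (algebraMap k κ)) := DualCx.preservesFiniteLimits_ext
    obtain ⟨ec⟩ := nonempty_lbcComp (Ideal.Quotient.mk (IsLocalRing.maximalIdeal A)) j φ
      (Ideal.Quotient.lift_comp_mk _ _ _) K
    let X := (DRing.LBaseChange (Ideal.Quotient.mk (IsLocalRing.maximalIdeal A))).obj K
    haveI : Subsingleton (Dual.HD κ ((locD (algebraMap k κ)).obj X) i) := by
      haveI := hκ i (by omega)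
      exact ((DerivedCategory.homologyFunctor (ModuleCat.{u} κ) i).mapIso
        ((lBaseChangeObjIso (algebraMap k κ) X).symm ≪≫ ec ≪≫ e)).toLinearEquiv.toEquiv.subsingleton
    let H := (DerivedCategory.homologyFunctor (ModuleCat.{u} k) i).obj X
    haveI : Subsingleton (κ ⊗[k] H) := by
      haveI : Subsingleton ((DerivedCategory.homologyFunctor (ModuleCat.{u} κ) i).obj ((locD (algebraMap k κ)).obj X)) :=
        this
      exact ((locHD (algebraMap k κ) X i).toLinearEquiv.trans (tens κ H)).symm.toEquiv.subsingleton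
    exact (Module.FaithfullyFlat.lTensor_reflects_triviality k κ H)
  obtain ⟨hperf, hamp⟩ := DRingKP.amp_of_fibres hK (-m) (-m) hfib
  obtain ⟨E, hE, hEp, ⟨eE⟩⟩ := DRingKP.exists_finiteProjective_rep hK hamp
  haveI : E.IsStrictlyGE (-m) := (CochainComplex.isStrictlyGE_iff E (-m)).2 fun i hi => hE i (Or.inl hi)
  haveI : E.IsStrictlyLE (-m) := (CochainComplex.isStrictlyLE_iff E (-m)).2 fun i hi => hE i (Or.inr hi)
  obtain ⟨M, ⟨eM⟩⟩ := CochainComplex.exists_iso_single E (-m)
  let eX : M ≅ E.X (-m) :=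
    (HomologicalComplex.singleObjXSelf (ComplexShape.up ℤ) (-m) M).symm ≪≫
      ((HomologicalComplex.eval _ _ (-m)).mapIso eM).symm
  haveI : Module.Finite A M := by haveI := (hEp (-m)).1; exact Module.Finite.equiv eX.toLinearEquiv.symm
  haveI : Module.Projective A M := by haveI := (hEp (-m)).2; exact Module.Projective.of_equiv eX.toLinearEquiv.symm
  haveI : Module.Free A M := Module.free_of_flat_of_isLocalRing
  have hEk : DRing.IsKFlat A E := DRingKP.isKFlat_of_bounded (b := -m) (fun i hi => hE i (Or.inr hi))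
    fun i => by haveI := (hEp i).2; infer_instance
  letI : Algebra A κ := φ.toAlgebra
  let d : ℤ := -m
  let eκ : Dual.inD κ κ⟦m⟧ ≅ DerivedCategory.Q.obj
      ((HomologicalComplex.single (ModuleCat.{u} κ) (ComplexShape.up ℤ) d).obj
        ((ModuleCat.extendScalars.{u, u, u} φ).obj M)) :=
    e.symm ≪≫ (DRing.LBaseChange φ).mapIso eE.symm ≪≫ lbcKFlatIso φ hEk ≪≫
      DerivedCategory.Q.mapIso (((DTen.extCx φ).mapIso eM) ≪≫
        (HomologicalComplex.singleMapHomologicalComplex (ModuleCat.extendScalars.{u, u, u} φ) (ComplexShape.up ℤ) d).app M)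
  let eH : ModuleCat.of κ κ ≅ (ModuleCat.extendScalars.{u, u, u} φ).obj M :=
    ((DerivedCategory.singleFunctorCompHomologyFunctorIso (ModuleCat.{u} κ) d).app _).symm ≪≫
      (DerivedCategory.homologyFunctor (ModuleCat.{u} κ) d).mapIso
        (((DerivedCategory.singleFunctorIsoCompQ (ModuleCat.{u} κ) d).app _) ≪≫ freeShiftIso κ m ≪≫ eκ ≪≫
          ((DerivedCategory.singleFunctorIsoCompQ (ModuleCat.{u} κ) d).app _).symm) ≪≫
      (DerivedCategory.singleFunctorCompHomologyFunctorIso (ModuleCat.{u} κ) d).app _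
  have hr : Module.finrank A M = 1 := by
    have h1 : Module.finrank κ (κ ⊗[A] M) = Module.finrank A M := Module.finrank_baseChange
    rw [← h1]
    exact (LinearEquiv.finrank_eq eH.toLinearEquiv).symm.trans (Module.finrank_self κ)
  let eA : M ≅ ModuleCat.of A A :=
    (LinearEquiv.ofFinrankEq M A (hr.trans (Module.finrank_self A).symm)).toModuleIso
  exact ⟨eE.symm ≪≫ DerivedCategory.Q.mapIso (eM ≪≫ (HomologicalComplex.single _ _ d).mapIso eA) ≪≫ freeShiftIso A m⟩

end Comp

theorem exists_generator_of_free {A : Type u} [CommRing A] (q : Ideal A) [q.IsPrime] (H : Type u) [AddCommGroup H]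
    [Module A H] (e : Localization.AtPrime q ⊗[A] H ≃ₗ[Localization.AtPrime q] Localization.AtPrime q) :
    ∃ x₀ : H, (∀ x : H, ∃ s ∉ q, ∃ a : A, s • x = a • x₀) ∧ (∀ a : A, a • x₀ = 0 → ∃ s ∉ q, s * a = 0) := by
  let B := Localization.AtPrime q
  let ι := TensorProduct.mk A B H 1
  obtain ⟨⟨z₀, s₀⟩, hz₀⟩ := IsLocalizedModule.surj q.primeCompl ι (e.symm 1)
  have hs₀ : IsUnit (algebraMap A B s₀) := IsLocalization.map_units B s₀
  have hez₀ : e (ι z₀) = algebraMap A B s₀ := by
    rw [← hz₀, Submonoid.smul_def, ← algebraMap_smul B (s₀ : A), map_smul, LinearEquiv.apply_symm_apply, smul_eq_mul,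
      mul_one]
  refine ⟨z₀, fun x => ?_, fun a ha => ?_⟩
  · obtain ⟨v, hv⟩ := hs₀.exists_left_inv
    obtain ⟨⟨a, s⟩, has⟩ := IsLocalization.surj q.primeCompl (e (ι x) * v)
    have h1 : ι ((s : A) • x) = ι (a • z₀) := e.injective (by
      rw [map_smul ι, map_smul ι, ← algebraMap_smul B (s : A) (ι x), ← algebraMap_smul B a (ι z₀), map_smul,
        map_smul, hez₀, smul_eq_mul, smul_eq_mul]
      calc algebraMap A B s * e (ι x) = (e (ι x) * v * algebraMap A B s) * algebraMap A B s₀ := by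
            linear_combination -(algebraMap A B s * e (ι x)) * hv
        _ = algebraMap A B a * algebraMap A B s₀ := by rw [has])
    obtain ⟨u, hu⟩ := (IsLocalizedModule.eq_iff_exists q.primeCompl ι).1 h1
    exact ⟨(u : A) * s, fun h => (u * s).2 h, (u : A) * a, by rw [mul_smul, mul_smul]; exact hu⟩
  · have h3 : algebraMap A B (a * s₀) = 0 := by
      rw [map_mul, ← hez₀, ← smul_eq_mul, ← map_smul e, algebraMap_smul, ← map_smul ι, ha, map_zero, map_zero]
    obtain ⟨u, hu⟩ := (IsLocalization.map_eq_zero_iff q.primeCompl B _).1 h3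
    exact ⟨(u : A) * s₀, fun h => (u * s₀).2 h, by rw [← hu]; ring⟩

variable {R A : Type u} [CommRing R] [CommRing A] [Algebra R A] [IsNoetherianRing R] [IsNoetherianRing A]
  [Module.Flat R A] [Algebra.FinitePresentation R A] {n : ℕ} {ψ : MvPolynomial (Fin n) R →ₐ[R] A}
  [hL : ∀ f : A, DRing.HasLBaseChange (algebraMap A (Localization.Away f))]

theorem shriekVia_of_gorenstein_fibres (hψ : Function.Surjective ψ)
    [DRing.HasLBaseChange (algebraMap R (MvPolynomial (Fin n) R))] (Rψ : Dual.D (MvPolynomial (Fin n) R) ⥤ Dual.D A)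
    (adj : DRing.restrictD ψ.toRingHom ⊣ Rψ)
    (hG : ∀ p : PrimeSpectrum R, LocCoh.IsGorensteinRing (A ⊗[R] p.asIdeal.ResidueField)) (q : PrimeSpectrum A) :
    ∃ (f : A) (_ : f ∉ q.asIdeal) (m : ℤ),
      Nonempty ((DRing.LBaseChange (algebraMap A (Localization.Away f))).obj (Dual2.shriekVia n Rψ (Dual.inD R R)) ≅
        (Dual.inD (Localization.Away f) (Localization.Away f))⟦m⟧) := by
  haveI := fun (S T : Type u) [CommRing S] [CommRing T] (φ : S →+* T) => DRingKP.hasLBaseChange φ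
  let W := Dual2.shriekVia n Rψ (Dual.inD R R)
  have hW : Shr ψ W (Dual.inD R R) := shr_shriekVia ψ Rψ adj _
  let p := q.asIdeal.under R
  haveI : q.asIdeal.LiesOver p := ⟨rfl⟩
  obtain ⟨Q, hQ, hQq, -⟩ := exists_fiber_point p q.asIdeal
  haveI := hQ
  let k := p.ResidueField
  let F := p.Fiber A
  haveI : IsNoetherianRing F := Algebra.FiniteType.isNoetherianRing k F
  let ir : A →+* F := (Algebra.TensorProduct.includeRight : A →ₐ[R] k ⊗[R] A).toRingHom
  have hG' : LocCoh.IsGorensteinRing F :=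
    Goren.isGorensteinRing_of_equiv _ _ (Algebra.TensorProduct.comm R A k).toRingEquiv (hG ⟨p, inferInstance⟩)
  let FQ := Localization.AtPrime Q
  haveI : LocCoh.IsGorensteinLocalRing FQ := hG'.isGorensteinLocalRing_localization Q
  have hF : Dual.IsDualizing F ((DRing.LBaseChange ir).obj W) := isDualizing_shriekVia_fibre hψ Rψ adj k
  have hFQ := DualCx.Loc.isDualizing_lBaseChange (B := FQ) Q.primeCompl hF
  obtain ⟨r, hr⟩ := SerreReg.exists_dim_nat FQ
  obtain ⟨m, ⟨em⟩⟩ := DualCx.exists_shift_iso (DualCx.gorenstein_normalized hr).1 hFQ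
  let Aq := Localization.AtPrime q.asIdeal
  let κ := IsLocalRing.ResidueField FQ
  let g : Aq →+* FQ := Localization.localRingHom q.asIdeal Q ir hQq.symm
  let φ : Aq →+* κ := (IsLocalRing.residue FQ).comp g
  have hφ : IsLocalRing.maximalIdeal Aq ≤ RingHom.ker φ := fun x hx => by
    haveI : IsLocalHom g := Localization.isLocalHom_localRingHom _ _ _ _
    rw [RingHom.mem_ker]
    exact (IsLocalRing.residue_eq_zero_iff _).2 (map_nonunit g x hx)
  let Kq := (DRing.LBaseChange (algebraMap A Aq)).obj W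
  have hKq : DRing.IsPseudoCoherent' Aq Kq := DRingKP.pc'_iff.2 fun i =>
    DRingKP.pc_lBaseChange (algebraMap A Aq) W i (DRingKP.pc'_iff.1 (hW.isPseudoCoherent' hψ) i)
  obtain ⟨e1⟩ := nonempty_lbcComp (algebraMap A Aq) φ (φ.comp (algebraMap A Aq)) rfl W
  obtain ⟨e2⟩ := nonempty_lbcComp (B := F) (C := FQ) ir (algebraMap F FQ) ((algebraMap F FQ).comp ir) rfl W
  obtain ⟨e3⟩ := nonempty_lbcComp ((algebraMap F FQ).comp ir) (IsLocalRing.residue FQ) (φ.comp (algebraMap A Aq))
    (by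
      rw [RingHom.comp_assoc]
      exact congrArg _ (RingHom.ext fun a => (Localization.localRingHom_to_map q.asIdeal Q ir hQq.symm a).symm)) W
  let emm : (DRing.LBaseChange (algebraMap F FQ)).obj ((DRing.LBaseChange ir).obj W) ≅
      (Dual.inD FQ FQ)⟦(r : ℤ) + m⟧ :=
    em ≪≫ ((shiftFunctorAdd' (Dual.D FQ) (r : ℤ) m ((r : ℤ) + m) rfl).app _).symm
  obtain ⟨eK⟩ := nonempty_iso_of_fibre φ hφ hKq ((r : ℤ) + m) (e1 ≪≫ e3.symm ≪≫
    (DRing.LBaseChange (IsLocalRing.residue FQ)).mapIso (e2.symm ≪≫ emm) ≪≫ lbcShift _ _)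
  obtain ⟨a, b, hab⟩ := (hW.self_props hψ).1
  let c : ℤ := -((r : ℤ) + m)
  haveI : Module.Flat A Aq := IsLocalization.flat Aq q.asIdeal.primeCompl
  have hH : ∀ j, Nonempty (Aq ⊗[A] Dual.HD A W j ≃ₗ[Aq] Dual.HD Aq ((Dual.inD Aq Aq)⟦(r : ℤ) + m⟧) j) := fun j =>
    ⟨((locHD (algebraMap A Aq) W j).toLinearEquiv.trans (tens Aq _)).symm.trans
      ((DerivedCategory.homologyFunctor (ModuleCat.{u} Aq) j).mapIso
        ((lBaseChangeObjIso _ W).symm ≪≫ eK)).toLinearEquiv⟩
  obtain ⟨eH⟩ := hH c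
  obtain ⟨es⟩ := nonempty_hd_shift (Dual.inD Aq Aq) ((r : ℤ) + m) c
  obtain ⟨x₀, hgen, hann⟩ := exists_generator_of_free q.asIdeal (Dual.HD A W c)
    (eH.trans (es.trans (((DerivedCategory.homologyFunctor (ModuleCat.{u} Aq) ((r : ℤ) + m + c))).mapIso
      (Iso.refl (Dual.inD Aq Aq))).toLinearEquiv |>.trans (by
        rw [show (r : ℤ) + m + c = 0 by omega]
        exact ((DerivedCategory.singleFunctorCompHomologyFunctorIso (ModuleCat.{u} Aq) 0).app (ModuleCat.of Aq Aq)).toLinearEquiv)))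
  refine exists_away_single hab (fun j => ?_) q.asIdeal c x₀ (fun j hj x => ?_) hgen hann
  · letI : Algebra (MvPolynomial (Fin n) R) A := ψ.toRingHom.toAlgebra
    haveI : Module.Finite (MvPolynomial (Fin n) R) A :=
      Module.Finite.of_surjective (Algebra.linearMap (MvPolynomial (Fin n) R) A) hψ
    obtain ⟨eP⟩ := polyD_self R n
    obtain ⟨c', hc'⟩ : RA ψ.toRingHom W ((Dual.inD (MvPolynomial (Fin n) R) (MvPolynomial (Fin n) R))⟦(n : ℤ)⟧) :=
      RA.of_iso hW (Iso.refl _) ((CategoryTheory.shiftFunctor _ (n : ℤ)).mapIso eP)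
    refine IsRA.finite_hd (A := MvPolynomial (Fin n) R) (B := A) (W := W) (c := c') hc' (fun i => ?_)
      (a := -(n : ℤ)) (fun i hi => ?_) j
    · obtain ⟨e⟩ := nonempty_hd_shift (Dual.inD (MvPolynomial (Fin n) R) (MvPolynomial (Fin n) R)) (n : ℤ) i
      haveI := finite_hd_inD (A := MvPolynomial (Fin n) R) (MvPolynomial (Fin n) R) ((n : ℤ) + i)
      exact Module.Finite.equiv e.symm
    · obtain ⟨e⟩ := nonempty_hd_shift (Dual.inD (MvPolynomial (Fin n) R) (MvPolynomial (Fin n) R)) (n : ℤ) i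
      haveI := DualCx.subsingleton_hd_inD (A := MvPolynomial (Fin n) R) (MvPolynomial (Fin n) R) (j := (n : ℤ) + i) (by omega)
      exact e.toEquiv.subsingleton
  · obtain ⟨eH⟩ := hH j
    obtain ⟨es⟩ := nonempty_hd_shift (Dual.inD Aq Aq) ((r : ℤ) + m) j
    haveI := DualCx.subsingleton_hd_inD Aq (j := (r : ℤ) + m + j) (by omega) (A := Aq)
    haveI : Subsingleton (Aq ⊗[A] Dual.HD A W j) := (eH.trans es).toEquiv.subsingleton
    obtain ⟨⟨s, hs⟩, hsx⟩ := (IsLocalizedModule.eq_zero_iff q.asIdeal.primeCompl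
      (TensorProduct.mk A Aq (Dual.HD A W j) 1) (m := x)).1 (Subsingleton.elim _ _)
    exact ⟨s, hs, hsx⟩

theorem gorenstein_fibres_of_shriekVia (hψ : Function.Surjective ψ)
    [DRing.HasLBaseChange (algebraMap R (MvPolynomial (Fin n) R))] (Rψ : Dual.D (MvPolynomial (Fin n) R) ⥤ Dual.D A)
    (adj : DRing.restrictD ψ.toRingHom ⊣ Rψ)
    (h : ∀ q : PrimeSpectrum A, ∃ (f : A) (_ : f ∉ q.asIdeal) (m : ℤ),
      Nonempty ((DRing.LBaseChange (algebraMap A (Localization.Away f))).obj (Dual2.shriekVia n Rψ (Dual.inD R R)) ≅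
        (Dual.inD (Localization.Away f) (Localization.Away f))⟦m⟧)) (p : PrimeSpectrum R) :
    LocCoh.IsGorensteinRing (A ⊗[R] p.asIdeal.ResidueField) := by
  haveI := fun (S T : Type u) [CommRing S] [CommRing T] (φ : S →+* T) => DRingKP.hasLBaseChange φ
  let W := Dual2.shriekVia n Rψ (Dual.inD R R)
  let k := p.asIdeal.ResidueField
  let F := k ⊗[R] A
  haveI : IsNoetherianRing F := Algebra.FiniteType.isNoetherianRing k F
  refine Goren.isGorensteinRing_of_equiv _ _ (Algebra.TensorProduct.comm R k A).toRingEquiv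
    { isGorensteinLocalRing_localization := fun Q _ => ?_ }
  let ir : A →+* F := (Algebra.TensorProduct.includeRight : A →ₐ[R] k ⊗[R] A).toRingHom
  obtain ⟨f, hf, m, ⟨e⟩⟩ := h ⟨Q.comap ir, inferInstance⟩
  let FQ := Localization.AtPrime Q
  let χ : A →+* FQ := (algebraMap F FQ).comp ir
  have hu : IsUnit (χ f) := IsLocalization.map_units FQ (⟨ir f, hf⟩ : Q.primeCompl)
  let g : Localization.Away f →+* FQ := IsLocalization.Away.lift f hu
  obtain ⟨e1⟩ := nonempty_lbcComp (algebraMap A (Localization.Away f)) g χ (IsLocalization.Away.lift_comp f hu) W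
  obtain ⟨e2⟩ := nonempty_lbcComp (B := F) (C := FQ) ir (algebraMap F FQ) χ rfl W
  exact gorenstein_of_shift m (DualCx.isDualizing_of_iso
    (e2 ≪≫ e1.symm ≪≫ (DRing.LBaseChange g).mapIso e ≪≫ lbcShift g m)
    (DualCx.Loc.isDualizing_lBaseChange (B := FQ) Q.primeCompl
      (isDualizing_shriekVia_fibre hψ Rψ adj k)))

end

end Groth.Agent.Shriek
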