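import Groth.Agent.DualCx.FiniteMap
import Groth.Agent.KInj.Existence

/-!
The universal property of `RHom_A(B, L)` for a ring map `A → B`.
-/

set_option autoImplicit false
set_option linter.style.haveILetI false
set_option maxHeartbeats 1000000
universe u

namespace Groth.Agent.Shriek

open CategoryTheory CategoryTheory.Limits DerivedCategory
open Groth.Agent.DualCx

attribute [local instance] HasDerivedCategory.standard

noncomputable section

variable {A B C : Type u} [CommRing A] [CommRing B] [CommRing C]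

/-- restriction of scalars on modules -/
abbrev rs (φ : A →+* B) : ModuleCat.{u} B ⥤ ModuleCat.{u} A := ModuleCat.restrictScalars.{u} φ

/-- the comparison attached to a candidate counit -/
def tr (φ : A →+* B) {W : Dual.D B} {L : Dual.D A} (c : (DRing.restrictD φ).obj W ⟶ L) (X : Dual.D B)
    (v : X ⟶ W) : (DRing.restrictD φ).obj X ⟶ L :=
  (DRing.restrictD φ).map v ≫ c

theorem tr_comp (φ : A →+* B) {W : Dual.D B} {L : Dual.D A} (c : (DRing.restrictD φ).obj W ⟶ L) {X X' : Dual.D B}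
    (g : X' ⟶ X) (v : X ⟶ W) : tr φ c X' (g ≫ v) = (DRing.restrictD φ).map g ≫ tr φ c X v := by
  simp [tr, Functor.map_comp]

/-- `c` exhibits `W` as `RHom_A(B, L)` -/
def IsU (φ : A →+* B) {W : Dual.D B} {L : Dual.D A} (c : (DRing.restrictD φ).obj W ⟶ L) : Prop :=
  ∀ X : Dual.D B, Function.Bijective (tr φ c X)

/-- `W` is `RHom_A(B, L)` -/
def RA (φ : A →+* B) (W : Dual.D B) (L : Dual.D A) : Prop :=
  ∃ c : (DRing.restrictD φ).obj W ⟶ L, IsU φ c

theorem RA.of_adj {φ : A →+* B} {R : Dual.D A ⥤ Dual.D B} (adj : DRing.restrictD φ ⊣ R) (L : Dual.D A) :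
    RA φ (R.obj L) L :=
  ⟨adj.counit.app L, fun X => by
    have h := (adj.homEquiv X L).symm.bijective
    convert h using 1
    funext v
    exact (adj.homEquiv_counit X L v).symm⟩

theorem RA.unique {φ : A →+* B} {W W' : Dual.D B} {L : Dual.D A} (h : RA φ W L) (h' : RA φ W' L) :
    Nonempty (W ≅ W') := by
  obtain ⟨c, hc⟩ := h
  obtain ⟨c', hc'⟩ := h'
  obtain ⟨u, hu⟩ := (hc' W).2 c
  obtain ⟨v, hv⟩ := (hc W').2 c'
  have hu' : (DRing.restrictD φ).map u ≫ c' = c := hu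
  have hv' : (DRing.restrictD φ).map v ≫ c = c' := hv
  refine ⟨⟨u, v, (hc W).1 ?_, (hc' W').1 ?_⟩⟩
  · rw [tr_comp]; simp [tr, hv', hu']
  · rw [tr_comp]; simp [tr, hv', hu']

theorem RA.of_iso {φ : A →+* B} {W W' : Dual.D B} {L L' : Dual.D A} (h : RA φ W L) (e : W ≅ W') (f : L ≅ L') :
    RA φ W' L' := by
  obtain ⟨c, hc⟩ := h
  refine ⟨(DRing.restrictD φ).map e.inv ≫ c ≫ f.hom, fun X => ?_⟩
  have heq : tr φ ((DRing.restrictD φ).map e.inv ≫ c ≫ f.hom) X =
      (fun y => y ≫ f.hom) ∘ tr φ c X ∘ fun v => v ≫ e.inv := by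
    funext v
    simp [tr, Functor.map_comp]
  rw [heq]
  exact Function.Bijective.comp ⟨fun a b h => (cancel_mono f.hom).1 h, fun y => ⟨y ≫ f.inv, by simp⟩⟩
    ((hc X).comp ⟨fun a b h => (cancel_mono e.inv).1 h, fun y => ⟨y ≫ e.hom, by simp⟩⟩)

theorem RA.shift {φ : A →+* B} {W : Dual.D B} {L : Dual.D A} (h : RA φ W L) (n : ℤ) : RA φ (W⟦n⟧) (L⟦n⟧) := by
  letI := φ.toAlgebra
  obtain ⟨c, hc⟩ := h
  exact ⟨((DRing.restrictD φ).commShiftIso n).hom.app W ≫ c⟦n⟧',
    fun X => IsRA.raMap_bijective (A := A) (B := B) (c := c) hc n X⟩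

/-- right adjoints exist objectwise -/
theorem RA.exists_of (φ : A →+* B) (L : Dual.D A) : ∃ W : Dual.D B, RA φ W L := by
  letI := φ.toAlgebra
  obtain ⟨J, f, hJ, hf, -, -⟩ := KInj.exists_kInjective (DerivedCategory.Q.objPreimage L)
  haveI := hJ
  haveI := hf
  let e : DerivedCategory.Q.obj J ≅ L :=
    (asIso (DerivedCategory.Q.map f)).symm ≪≫ DerivedCategory.Q.objObjPreimageIso L
  exact ⟨_, _, isRA_coJ (A := A) (B := B) J e⟩

theorem homEquiv_natural {W W' : Dual.D B} (u : W ⟶ W') (i : ℤ) (x : T W B i) :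
    DualCx.homEquiv W' i (x ≫ u⟦i⟧') =
      ((DerivedCategory.homologyFunctor (ModuleCat.{u} B) i).map u).hom (DualCx.homEquiv W i x) := by
  let H := DerivedCategory.homologyFunctor (ModuleCat.{u} B) 0
  let f₀ := (DerivedCategory.singleFunctorCompHomologyFunctorIso (ModuleCat.{u} B) 0).inv.app (ModuleCat.of B B)
  have h : (H.shiftIso i 0 i (by lia)).hom.app W ≫ (DerivedCategory.homologyFunctor (ModuleCat.{u} B) i).map u =
      H.map (u⟦i⟧') ≫ (H.shiftIso i 0 i (by lia)).hom.app W' :=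
    ((H.shiftIso i 0 i (by lia)).hom.naturality u).symm
  show ((H.shiftIso i 0 i _).hom.app W').hom ((f₀ ≫ H.map (x ≫ u⟦i⟧')).hom (1 : B)) =
    ((DerivedCategory.homologyFunctor (ModuleCat.{u} B) i).map u).hom
      (((H.shiftIso i 0 i _).hom.app W).hom ((f₀ ≫ H.map x).hom (1 : B)))
  rw [H.map_comp]
  exact (LinearMap.congr_fun (congrArg ModuleCat.Hom.hom h) _).symm

/-- A map which induces bijections on maps out of the shifts of the ring is an isomorphism. -/
theorem isIso_of_gen {W W' : Dual.D B} (u : W ⟶ W')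
    (h : ∀ i : ℤ, Function.Bijective (fun v : (Dual.inD B B)⟦i⟧ ⟶ W => v ≫ u)) : IsIso u := by
  refine (DerivedCategory.isIso_iff _ u).2 fun j => ?_
  have hb : Function.Bijective fun x : T W B j => x ≫ u⟦j⟧' := by
    let adj := (shiftEquiv (Dual.D B) j).symm.toAdjunction
    have h1 : (fun x : T W B j => x ≫ u⟦j⟧') = adj.homEquiv _ W' ∘
        (fun v : (Dual.inD B B)⟦-j⟧ ⟶ W => v ≫ u) ∘ (adj.homEquiv _ W).symm := funext fun x =>
      ((adj.homEquiv_naturality_right ((adj.homEquiv _ W).symm x) u).trans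
        (congrArg (fun y => y ≫ u⟦j⟧') ((adj.homEquiv _ W).apply_symm_apply x))).symm
    rw [h1]
    exact (adj.homEquiv _ W').bijective.comp ((h (-j)).comp (adj.homEquiv _ W).symm.bijective)
  rw [ConcreteCategory.isIso_iff_bijective]
  have h2 : ((DerivedCategory.homologyFunctor (ModuleCat.{u} B) j).map u).hom =
      (DualCx.homEquiv W' j) ∘ (fun x : T W B j => x ≫ u⟦j⟧') ∘ (DualCx.homEquiv W j).symm := by
    funext y
    exact ((homEquiv_natural u j _).trans (congrArg _ ((DualCx.homEquiv W j).apply_symm_apply y))).symm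
  show Function.Bijective ((DerivedCategory.homologyFunctor (ModuleCat.{u} B) j).map u).hom
  rw [h2]
  exact (DualCx.homEquiv W' j).bijective.comp (hb.comp (DualCx.homEquiv W j).symm.bijective)

/-- It suffices to test on the shifts of the ring. -/
theorem RA.of_gen {φ : A →+* B} {W : Dual.D B} {L : Dual.D A} (c : (DRing.restrictD φ).obj W ⟶ L)
    (h : ∀ i : ℤ, Function.Bijective (tr φ c ((Dual.inD B B)⟦i⟧))) : RA φ W L := by
  obtain ⟨W₀, c₀, h₀⟩ := RA.exists_of φ L
  obtain ⟨u, hu⟩ := (h₀ W).2 c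
  have hu' : (DRing.restrictD φ).map u ≫ c₀ = c := hu
  haveI := isIso_of_gen u fun i => by
    have h1 : tr φ c ((Dual.inD B B)⟦i⟧) = tr φ c₀ _ ∘ fun v => v ≫ u := funext fun v => by
      simp [tr, ← hu']
    exact (Function.Bijective.of_comp_iff' (h₀ _) _).1 (h1 ▸ h i)
  exact RA.of_iso ⟨c₀, h₀⟩ (asIso u).symm (Iso.refl L)

section Comp

/-- two restrictions in a row -/
def restrictDComp (φ : A →+* B) (ψ : B →+* C) (χ : A →+* C) (h : ψ.comp φ = χ) :
    DRing.restrictD ψ ⋙ DRing.restrictD φ ≅ DRing.restrictD χ :=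
  Localization.liftNatIso DerivedCategory.Q (HomologicalComplex.quasiIso (ModuleCat.{u} C) (ComplexShape.up ℤ))
    (DerivedCategory.Q ⋙ DRing.restrictD ψ ⋙ DRing.restrictD φ) (DerivedCategory.Q ⋙ DRing.restrictD χ) _ _
    ((Functor.associator _ _ _).symm ≪≫ Functor.isoWhiskerRight (rs ψ).mapDerivedCategoryFactors _ ≪≫
      Functor.associator _ _ _ ≪≫ Functor.isoWhiskerLeft _ (rs φ).mapDerivedCategoryFactors ≪≫
      (Functor.associator _ _ _).symm ≪≫
      Functor.isoWhiskerRight (NatIso.mapHomologicalComplex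
        (ModuleCat.restrictScalarsComp'.{u} φ ψ χ h.symm).symm (ComplexShape.up ℤ)) DerivedCategory.Q ≪≫
      (rs χ).mapDerivedCategoryFactors.symm)

theorem RA.comp {φ : A →+* B} {ψ : B →+* C} {W₁ : Dual.D B} {W₂ : Dual.D C} {L : Dual.D A}
    (h₁ : RA φ W₁ L) (h₂ : RA ψ W₂ W₁) (χ : A →+* C) (h : ψ.comp φ = χ) : RA χ W₂ L := by
  obtain ⟨c₁, hc₁⟩ := h₁
  obtain ⟨c₂, hc₂⟩ := h₂
  let e := restrictDComp φ ψ χ h
  refine ⟨e.inv.app W₂ ≫ (DRing.restrictD φ).map c₂ ≫ c₁, fun X => ?_⟩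
  have heq : tr χ (e.inv.app W₂ ≫ (DRing.restrictD φ).map c₂ ≫ c₁) X =
      (fun y => e.inv.app X ≫ y) ∘ tr φ c₁ _ ∘ tr ψ c₂ X := by
    funext v
    show (DRing.restrictD χ).map v ≫ e.inv.app W₂ ≫ (DRing.restrictD φ).map c₂ ≫ c₁ =
      e.inv.app X ≫ (DRing.restrictD φ).map ((DRing.restrictD ψ).map v ≫ c₂) ≫ c₁
    rw [Functor.map_comp, Category.assoc]
    exact e.inv.naturality_assoc v _
  rw [heq]
  exact Function.Bijective.comp
    ⟨fun a b h => (cancel_epi (e.inv.app X)).1 h, fun y => ⟨e.hom.app X ≫ y, by simp⟩⟩ ((hc₁ _).comp (hc₂ X))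

end Comp

end

end Groth.Agent.Shriek
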