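import Groth.Agent.Shriek.Poly
import Groth.Prelude.Def_DualSh
import Mathlib.Algebra.MvPolynomial.Equiv

/-!
The upper shriek does not depend on the presentation.
-/

set_option autoImplicit false
set_option linter.style.haveILetI false
set_option maxHeartbeats 1000000
universe u

namespace Groth.Agent.Shriek

open CategoryTheory CategoryTheory.Limits DerivedCategory MvPolynomial
open Groth.Agent.DualCx

attribute [local instance] HasDerivedCategory.standard

noncomputable section

variable {R A : Type u} [CommRing R] [CommRing A] [Algebra R A]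

/-- `W` computes the upper shriek along the presentation `ψ`. -/
def Shr {n : ℕ} (ψ : MvPolynomial (Fin n) R →ₐ[R] A) (W : Dual.D A) (K : Dual.D R) : Prop :=
  RA ψ.toRingHom W (((polyD R n).obj K)⟦(n : ℤ)⟧)

theorem shr_shriekVia {n : ℕ} (ψ : MvPolynomial (Fin n) R →ₐ[R] A)
    [DRing.HasLBaseChange (algebraMap R (MvPolynomial (Fin n) R))] (Rψ : Dual.D (MvPolynomial (Fin n) R) ⥤ Dual.D A)
    (adj : DRing.restrictD ψ.toRingHom ⊣ Rψ) (K : Dual.D R) : Shr ψ (Dual2.shriekVia n Rψ K) K :=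
  RA.of_iso ((RA.of_adj adj _).shift (n : ℤ)) (Iso.refl _)
    ((shiftFunctor _ (n : ℤ)).mapIso (lBaseChangeObjIso (algebraMap R (MvPolynomial (Fin n) R)) K))

/-- Adding variables to a presentation. -/
theorem Shr.add_vars {n : ℕ} {ψ : MvPolynomial (Fin n) R →ₐ[R] A} {W : Dual.D A} {K : Dual.D R} (h : Shr ψ W K)
    (m : ℕ) (f : Fin m → MvPolynomial (Fin n) R) :
    RA (ψ.toRingHom.comp (MvPolynomial.eval f)) W
      (((locD (algebraMap R (MvPolynomial (Fin m) (MvPolynomial (Fin n) R)))).obj K)⟦((n + m : ℕ) : ℤ)⟧) := by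
  let P := MvPolynomial (Fin n) R
  obtain ⟨ec⟩ := DualFlat.nonempty_locD_comp (algebraMap R P) (algebraMap P (MvPolynomial (Fin m) P))
    (algebraMap R (MvPolynomial (Fin m) P)) (IsScalarTower.algebraMap_eq _ _ _).symm K
  refine RA.of_iso (RA.comp (RA.eval P m f (((polyD R n).obj K)⟦(n : ℤ)⟧)) h _ rfl) (Iso.refl W) ?_
  exact (shiftFunctor _ (m : ℤ)).mapIso
      (((locD (algebraMap P (MvPolynomial (Fin m) P))).commShiftIso (n : ℤ)).app _ ≪≫
        (shiftFunctor _ (n : ℤ)).mapIso ec) ≪≫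
    ((shiftFunctorAdd' (Dual.D (MvPolynomial (Fin m) P)) (n : ℤ) (m : ℤ) ((n + m : ℕ) : ℤ) (by lia)).app _).symm

theorem eval_comp_algebraMap {n m : ℕ} (ψ : MvPolynomial (Fin n) R →ₐ[R] A) (f : Fin m → MvPolynomial (Fin n) R) (r : R) :
    ψ.toRingHom.comp (MvPolynomial.eval f) (MvPolynomial.C (MvPolynomial.C r)) = algebraMap R A r := by
  show ψ (MvPolynomial.eval f (MvPolynomial.C (MvPolynomial.C r))) = _
  rw [MvPolynomial.eval_C]
  exact ψ.commutes r

/-- Independence of the presentation. -/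
theorem Shr.unique {n m : ℕ} {ψ : MvPolynomial (Fin n) R →ₐ[R] A} {ψ' : MvPolynomial (Fin m) R →ₐ[R] A}
    (hψ : Function.Surjective ψ) (hψ' : Function.Surjective ψ') {W W' : Dual.D A} {K : Dual.D R}
    (h : Shr ψ W K) (h' : Shr ψ' W' K) : Nonempty (W ≅ W') := by
  choose f hf using fun i => hψ (ψ' (MvPolynomial.X i))
  choose g hg using fun i => hψ' (ψ (MvPolynomial.X i))
  have h1 := h.add_vars m f
  have h2 := h'.add_vars n g
  let T := MvPolynomial (Fin m) (MvPolynomial (Fin n) R)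
  let T' := MvPolynomial (Fin n) (MvPolynomial (Fin m) R)
  let θ : T' →+* T := (MvPolynomial.commAlgEquiv R (Fin n) (Fin m)).toRingEquiv.toRingHom
  let θ' : T →+* T' := (MvPolynomial.commAlgEquiv R (Fin n) (Fin m)).toRingEquiv.symm.toRingHom
  have hθ : θ'.comp θ = RingHom.id T' := RingHom.ext fun x => (MvPolynomial.commAlgEquiv R (Fin n) (Fin m)).symm_apply_apply x
  have hθ' : θ.comp θ' = RingHom.id T := RingHom.ext fun x => (MvPolynomial.commAlgEquiv R (Fin n) (Fin m)).apply_symm_apply x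
  haveI := preservesFiniteLimits_of_flat θ' (flat_of_inverse θ' θ hθ' hθ)
  obtain ⟨ec⟩ := DualFlat.nonempty_locD_comp (algebraMap R T) θ' (algebraMap R T')
    (RingHom.ext fun r => (MvPolynomial.commAlgEquiv R (Fin n) (Fin m)).symm.commutes r) K
  have h3 : RA θ ((locD (algebraMap R T)).obj K) ((locD (algebraMap R T')).obj K) :=
    RA.of_iso (RA.of_ringIso θ θ' hθ hθ' _) (Iso.refl _) ec
  have hcomp : (ψ.toRingHom.comp (MvPolynomial.eval f)).comp θ = ψ'.toRingHom.comp (MvPolynomial.eval g) := by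
    refine MvPolynomial.ringHom_ext (fun p => ?_) fun i => ?_
    · have hh : ((ψ.toRingHom.comp (MvPolynomial.eval f)).comp θ).comp MvPolynomial.C =
          (ψ'.toRingHom.comp (MvPolynomial.eval g)).comp MvPolynomial.C := by
        refine MvPolynomial.ringHom_ext (fun r => ?_) fun j => ?_
        · show ψ (MvPolynomial.eval f (MvPolynomial.commAlgEquiv R (Fin n) (Fin m) (MvPolynomial.C (MvPolynomial.C r)))) =
            ψ' (MvPolynomial.eval g (MvPolynomial.C (MvPolynomial.C r)))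
          simp
        · show ψ (MvPolynomial.eval f (MvPolynomial.commAlgEquiv R (Fin n) (Fin m) (MvPolynomial.C (MvPolynomial.X j)))) =
            ψ' (MvPolynomial.eval g (MvPolynomial.C (MvPolynomial.X j)))
          simp [hf]
      exact RingHom.congr_fun hh p
    · show ψ (MvPolynomial.eval f (MvPolynomial.commAlgEquiv R (Fin n) (Fin m) (MvPolynomial.X i))) =
        ψ' (MvPolynomial.eval g (MvPolynomial.X i))
      simp [hg]
  have h4 := RA.of_iso (RA.comp (h3.shift ((n + m : ℕ) : ℤ)) h1 _ hcomp) (Iso.refl W)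
    ((shiftFunctorAdd' (Dual.D T') (0 : ℤ) ((n + m : ℕ) : ℤ) ((m + n : ℕ) : ℤ) (by lia)).app _ ≪≫
      (shiftFunctor _ ((n + m : ℕ) : ℤ)).mapIso ((shiftFunctorZero (Dual.D T') ℤ).app _)).symm
  exact RA.unique h4 h2

end

end Groth.Agent.Shriek
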