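import Groth.Agent.Shriek.Finite

/-!
Composition of upper shrieks.
-/

set_option autoImplicit false
set_option linter.style.haveILetI false
set_option maxHeartbeats 1000000
universe u

namespace Groth.Agent.Shriek

open CategoryTheory CategoryTheory.Limits DerivedCategory MvPolynomial
open Groth.Agent.DualCx

attribute [local instance] HasDerivedCategory.standard

noncomputable section

variable {R A : Type u} [CommRing R] [CommRing A] [Algebra R A]

/-- A presentation in two steps is a presentation. -/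
theorem Shr.of_iterate {n m : ℕ} {W : Dual.D A} {K : Dual.D R}
    (χ : MvPolynomial (Fin m) (MvPolynomial (Fin n) R) →ₐ[R] A) (hχ : Function.Surjective χ)
    (h : RA χ.toRingHom W
      (((locD (algebraMap R (MvPolynomial (Fin m) (MvPolynomial (Fin n) R)))).obj K)⟦((n + m : ℕ) : ℤ)⟧)) :
    ∃ (k : ℕ) (ψ : MvPolynomial (Fin k) R →ₐ[R] A), Function.Surjective ψ ∧ Shr ψ W K := by
  let e : MvPolynomial (Fin (m + n)) R ≃ₐ[R] MvPolynomial (Fin m) (MvPolynomial (Fin n) R) :=
    (MvPolynomial.renameEquiv R finSumFinEquiv.symm).trans (MvPolynomial.sumAlgEquiv R (Fin m) (Fin n))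
  let θ : MvPolynomial (Fin (m + n)) R →+* MvPolynomial (Fin m) (MvPolynomial (Fin n) R) := e.toRingEquiv.toRingHom
  let θ' : MvPolynomial (Fin m) (MvPolynomial (Fin n) R) →+* MvPolynomial (Fin (m + n)) R :=
    e.toRingEquiv.symm.toRingHom
  have hθ : θ'.comp θ = RingHom.id _ := RingHom.ext fun x => e.symm_apply_apply x
  have hθ' : θ.comp θ' = RingHom.id _ := RingHom.ext fun x => e.apply_symm_apply x
  haveI := preservesFiniteLimits_of_flat θ' (flat_of_inverse θ' θ hθ' hθ)
  obtain ⟨ec⟩ := DualFlat.nonempty_locD_comp (algebraMap R (MvPolynomial (Fin m) (MvPolynomial (Fin n) R))) θ'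
    (algebraMap R (MvPolynomial (Fin (m + n)) R)) (RingHom.ext fun r => e.symm.commutes r) K
  refine ⟨m + n, χ.comp e.toAlgHom, hχ.comp e.surjective, ?_⟩
  have h3 := (RA.of_iso (RA.of_ringIso θ θ' hθ hθ'
    ((locD (algebraMap R (MvPolynomial (Fin m) (MvPolynomial (Fin n) R)))).obj K)) (Iso.refl _) ec).shift
      ((n + m : ℕ) : ℤ)
  exact RA.of_iso (RA.comp h3 h (χ.comp e.toAlgHom).toRingHom rfl) (Iso.refl W)
    ((shiftFunctorAdd' (Dual.D _) (0 : ℤ) ((n + m : ℕ) : ℤ) ((m + n : ℕ) : ℤ) (by lia)).app _ ≪≫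
      (shiftFunctor _ ((n + m : ℕ) : ℤ)).mapIso ((shiftFunctorZero (Dual.D _) ℤ).app _)).symm

/-- Base change of a presentation along a flat map. -/
theorem Shr.baseChange_poly [IsNoetherianRing R] {n : ℕ} {ψ : MvPolynomial (Fin n) R →ₐ[R] A} (hψ : Function.Surjective ψ)
    {W : Dual.D A} {K : Dual.D R} (h : Shr ψ W K) {a : ℤ} (hK : ∀ i : ℤ, i < a → Subsingleton (Dual.HD R K i))
    (m : ℕ) :
    letI := ψ.toRingHom.toAlgebra
    RA (MvPolynomial.map ψ.toRingHom : MvPolynomial (Fin m) (MvPolynomial (Fin n) R) →+* MvPolynomial (Fin m) A)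
      ((locD (algebraMap A (MvPolynomial (Fin m) A))).obj W)
      ((locD (algebraMap (MvPolynomial (Fin n) R) (MvPolynomial (Fin m) (MvPolynomial (Fin n) R)))).obj
        (((polyD R n).obj K)⟦(n : ℤ)⟧)) := by
  letI := ψ.toRingHom.toAlgebra
  letI : Algebra (MvPolynomial (Fin m) (MvPolynomial (Fin n) R)) (MvPolynomial (Fin m) A) :=
    MvPolynomial.algebraMvPolynomial
  haveI : Module.Finite (MvPolynomial (Fin n) R) A :=
    Module.Finite.of_surjective (Algebra.linearMap (MvPolynomial (Fin n) R) A) hψ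
  have hlow : ∀ i : ℤ, i < a - n → Subsingleton (Dual.HD (MvPolynomial (Fin n) R) (((polyD R n).obj K)⟦(n : ℤ)⟧) i) :=
    fun i hi => by
    obtain ⟨e⟩ := nonempty_hd_shift ((polyD R n).obj K) (n : ℤ) i
    haveI : Subsingleton (Dual.HD (MvPolynomial (Fin n) R) ((polyD R n).obj K) ((n : ℤ) + i)) :=
      ModuleCat.subsingleton_of_isZero (isZero_locHD _ (hK _ (by lia)))
    exact e.toEquiv.subsingleton
  exact RA.baseChange (T := MvPolynomial (Fin m) (MvPolynomial (Fin n) R)) (T' := MvPolynomial (Fin m) A) h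
    (fun i => (psi_bijective_self (R := A) (MvPolynomial (Fin m) A) W i).2)
    (fun i => psi_bijective_res _ A _ (fun j => DualFlat.bT_bijective _ _ hlow A j) i)

/-- Composition. -/
theorem Shr.comp [IsNoetherianRing R] {C : Type u} [CommRing C] [Algebra A C] [Algebra R C] [IsScalarTower R A C]
    {n : ℕ} {ψ : MvPolynomial (Fin n) R →ₐ[R] A} (hψ : Function.Surjective ψ) {W : Dual.D A} {K : Dual.D R}
    (h : Shr ψ W K) {a : ℤ} (hK : ∀ i : ℤ, i < a → Subsingleton (Dual.HD R K i))
    {m : ℕ} {χ : MvPolynomial (Fin m) A →ₐ[A] C} (hχ : Function.Surjective χ) {V : Dual.D C} (h' : Shr χ V W) :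
    ∃ (k : ℕ) (θ : MvPolynomial (Fin k) R →ₐ[R] C), Function.Surjective θ ∧ Shr θ V K := by
  let χ' : MvPolynomial (Fin m) (MvPolynomial (Fin n) R) →ₐ[R] C :=
    { χ.toRingHom.comp (MvPolynomial.map ψ.toRingHom) with
      commutes' := fun r => by
        show χ (MvPolynomial.map ψ.toRingHom (MvPolynomial.C (MvPolynomial.C r))) = _
        rw [MvPolynomial.map_C]
        show χ (algebraMap A (MvPolynomial (Fin m) A) (ψ (algebraMap R (MvPolynomial (Fin n) R) r))) = _
        rw [χ.commutes, ψ.commutes, ← IsScalarTower.algebraMap_apply] }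
  refine Shr.of_iterate χ' (hχ.comp (MvPolynomial.map_surjective ψ.toRingHom hψ)) ?_
  let P := MvPolynomial (Fin n) R
  obtain ⟨ec⟩ := DualFlat.nonempty_locD_comp (algebraMap R P) (algebraMap P (MvPolynomial (Fin m) P))
    (algebraMap R (MvPolynomial (Fin m) P)) (IsScalarTower.algebraMap_eq _ _ _).symm K
  refine RA.of_iso (RA.comp ((Shr.baseChange_poly hψ h hK m).shift (m : ℤ)) h' _ rfl) (Iso.refl V) ?_
  exact (shiftFunctor _ (m : ℤ)).mapIso
      (((locD (algebraMap P (MvPolynomial (Fin m) P))).commShiftIso (n : ℤ)).app _ ≪≫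
        (shiftFunctor _ (n : ℤ)).mapIso ec) ≪≫
    ((shiftFunctorAdd' (Dual.D (MvPolynomial (Fin m) P)) (n : ℤ) (m : ℤ) ((n + m : ℕ) : ℤ) (by lia)).app _).symm

end

end Groth.Agent.Shriek
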