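import Groth.Agent.DRingKP.TorAmp
import Groth.Agent.FlatCx.Tensor

/-!
Tor amplitude from cyclic modules.
-/

set_option autoImplicit false
set_option linter.style.haveILetI false
universe u

namespace Groth.Agent.Shriek

open CategoryTheory Limits DerivedCategory MonoidalCategory HomologicalComplex Groth.Agent.DRingKP
open scoped TensorProduct

attribute [local instance] HasDerivedCategory.standard

noncomputable section

variable {A : Type u} [CommRing A]

/-- cokernels of differentials are flat below the range -/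
theorem flat_coker_cyclic {F : DRing.Cx A} (hF : DRing.TermwiseFlat F) (a : ℤ)
    (h : ∀ I : Ideal A, IsZero (((tR (ModuleCat.of A (A ⧸ I))).obj F).homology (a - 1))) :
    Module.Flat A (F.X a ⧸ LinearMap.range (F.d (a - 1) a).hom) := by
  rw [Module.Flat.iff_lTensor_injective]
  intro I _
  let d := (F.d (a - 1) a).hom
  let π := (LinearMap.range d).mkQ
  haveI := hF a
  let μ : ∀ (N : Type u) [AddCommGroup N] [Module A N], N ⊗[A] I →ₗ[A] N := fun N _ _ =>
    (TensorProduct.rid A N).toLinearMap ∘ₗ LinearMap.lTensor N I.subtype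
  have hμnat : ∀ {N N' : Type u} [AddCommGroup N] [Module A N] [AddCommGroup N'] [Module A N']
      (f : N →ₗ[A] N') (x : N ⊗[A] I), μ N' (f.rTensor I x) = f (μ N x) := by
    intro N N' _ _ _ _ f x
    induction x using TensorProduct.induction_on with
    | zero => simp
    | tmul n i => simp [μ]
    | add x y hx hy => simp [hx, hy]
  refine (injective_iff_map_eq_zero _).2 fun x hx => ?_
  obtain ⟨y, rfl⟩ := LinearMap.rTensor_surjective I (Submodule.mkQ_surjective (LinearMap.range d)) x
  have hy : π (μ _ y) = 0 := by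
    rw [← hμnat]
    show (TensorProduct.rid A _) (LinearMap.lTensor _ I.subtype _) = 0
    rw [hx, map_zero]
  obtain ⟨z, hz⟩ := (Submodule.Quotient.mk_eq_zero _).1 hy
  -- `μ` hits `I • ⊤`
  have hrange : ∀ (N : Type u) [AddCommGroup N] [Module A N] (n : N), n ∈ I • (⊤ : Submodule A N) →
      ∃ t, μ N t = n := by
    intro N _ _ n hn
    refine Submodule.smul_induction_on hn (fun r hr n _ => ⟨n ⊗ₜ ⟨r, hr⟩, by simp [μ]⟩) ?_
    rintro _ _ ⟨t, rfl⟩ ⟨t', rfl⟩
    exact ⟨t + t', map_add _ _ _⟩
  have hμmem : ∀ (t : F.X a ⊗[A] I), μ _ t ∈ I • (⊤ : Submodule A (F.X a)) := by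
    intro t
    induction t using TensorProduct.induction_on with
    | zero => simp
    | tmul n i =>
      simp only [μ, LinearMap.comp_apply, LinearMap.lTensor_tmul, LinearEquiv.coe_coe, TensorProduct.rid_tmul]
      exact Submodule.smul_mem_smul i.2 trivial
    | add t t' ht ht' => rw [map_add]; exact add_mem ht ht'
  let Q : ModuleCat.{u} A := ModuleCat.of A (A ⧸ I)
  have hcyc : (F.d (a - 1) a).hom.rTensor (A ⧸ I) (z ⊗ₜ (1 : A ⧸ I)) = 0 := by
    refine (TensorProduct.tensorQuotEquivQuotSMul (F.X a) I).injective ?_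
    rw [LinearMap.rTensor_tmul, map_zero, show (1 : A ⧸ I) = Ideal.Quotient.mk I 1 from rfl,
      TensorProduct.tensorQuotEquivQuotSMul_tmul_mk, one_smul, Submodule.Quotient.mk_eq_zero]
    exact hz ▸ hμmem y
  have hex : (((tR Q).obj F).sc' (a - 2) (a - 1) a).Exact :=
    (((tR Q).obj F).exactAt_iff' (a - 2) (a - 1) a (by simp; lia) (by simp)).1
      ((HomologicalComplex.exactAt_iff_isZero_homology _ _).2 (h I))
  obtain ⟨w', hw'⟩ := (ShortComplex.moduleCat_exact_iff _).1 hex (z ⊗ₜ (1 : A ⧸ I)) hcyc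
  have hsurj : ∀ (N : Type u) [AddCommGroup N] [Module A N] (t : N ⊗[A] (A ⧸ I)),
      ∃ n : N, n ⊗ₜ (1 : A ⧸ I) = t := by
    intro N _ _ t
    induction t using TensorProduct.induction_on with
    | zero => exact ⟨0, TensorProduct.zero_tmul _ _⟩
    | tmul n q =>
      obtain ⟨r, rfl⟩ := Ideal.Quotient.mk_surjective q
      exact ⟨r • n, by rw [TensorProduct.smul_tmul]; congr 1; simp [Algebra.smul_def]⟩
    | add t t' ht ht' =>
      obtain ⟨n, rfl⟩ := ht; obtain ⟨n', rfl⟩ := ht'
      exact ⟨n + n', TensorProduct.add_tmul _ _ _⟩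
  obtain ⟨w, rfl⟩ := hsurj (F.X (a - 2)) w'
  replace hw' : ((F.d (a - 2) (a - 1)).hom w) ⊗ₜ[A] (1 : A ⧸ I) = z ⊗ₜ (1 : A ⧸ I) := hw'
  have hmem : z - (F.d (a - 2) (a - 1)).hom w ∈ I • (⊤ : Submodule A (F.X (a - 1))) := by
    rw [← Submodule.Quotient.mk_eq_zero]
    have := congrArg (TensorProduct.tensorQuotEquivQuotSMul (F.X (a - 1)) I) hw'
    simp only [show (1 : A ⧸ I) = Ideal.Quotient.mk I 1 from rfl,
      TensorProduct.tensorQuotEquivQuotSMul_tmul_mk, one_smul] at this
    rw [Submodule.Quotient.mk_sub, ← this, sub_self]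
  obtain ⟨ζ, hζ⟩ := hrange _ _ hmem
  have hinj : Function.Injective (μ (F.X a)) :=
    (TensorProduct.rid A (F.X a)).injective.comp
      (Module.Flat.lTensor_preserves_injective_linearMap I.subtype I.injective_subtype)
  have hyζ : y = d.rTensor I ζ := by
    refine hinj ?_
    rw [hμnat, hζ, map_sub, ← hz]
    have : d ((F.d (a - 2) (a - 1)).hom w) = 0 :=
      LinearMap.congr_fun (congrArg ModuleCat.Hom.hom (F.d_comp_d (a - 2) (a - 1) a)) w
    rw [this, sub_zero]
  rw [hyζ, ← LinearMap.rTensor_comp_apply, LinearMap.range_mkQ_comp, LinearMap.rTensor_zero,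
    LinearMap.zero_apply]

/-- the cokernel of a differential -/
abbrev Cok (F : DRing.Cx A) (i j : ℤ) : Type u := F.X j ⧸ LinearMap.range (F.d i j).hom

theorem exists_dbar {F : DRing.Cx A} {i j k : ℤ} (hij : i + 1 = j) (hjk : j + 1 = k) (hex : F.ExactAt j) :
    ∃ e : Cok F i j →ₗ[A] F.X k, e ∘ₗ (LinearMap.range (F.d i j).hom).mkQ = (F.d j k).hom ∧
      Function.Injective e ∧ LinearMap.range e = LinearMap.range (F.d j k).hom := by
  have hex' := (ShortComplex.moduleCat_exact_iff _).1
    ((F.exactAt_iff' i j k (by simp; lia) (by simp; lia)).1 hex)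
  refine ⟨Submodule.liftQ _ (F.d j k).hom ?_, Submodule.liftQ_mkQ _ _ _, ?_, Submodule.range_liftQ _ _ _⟩
  · rintro _ ⟨x, rfl⟩
    exact LinearMap.congr_fun (congrArg ModuleCat.Hom.hom (F.d_comp_d i j k)) x
  · rw [← LinearMap.ker_eq_bot, Submodule.ker_liftQ_eq_bot']
    exact le_antisymm (by rintro _ ⟨x, rfl⟩; exact LinearMap.congr_fun (congrArg ModuleCat.Hom.hom (F.d_comp_d i j k)) x)
      fun x hx => (hex' x hx : _)

theorem isZero_tR_of_flat {F : DRing.Cx A} {i j k : ℤ} (hij : i + 1 = j) (hjk : j + 1 = k) (hex : F.ExactAt j)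
    [Module.Flat A (Cok F j k)] (M : ModuleCat.{u} A) : IsZero (((tR M).obj F).homology j) := by
  obtain ⟨e, he, hinj, hrange⟩ := exists_dbar hij hjk hex
  let g := (LinearMap.range (F.d j k).hom).mkQ
  have hexg : Function.Exact e g := LinearMap.exact_iff.2 (by rw [Submodule.ker_mkQ, hrange])
  have h1 := FlatCx.rTensor_injective_of_flat_quotient hinj hexg (Submodule.mkQ_surjective _) M
  refine (exactAt_iff_isZero_homology _ _).1 ?_
  rw [HomologicalComplex.exactAt_iff' _ i j k (by simp; lia) (by simp; lia), ShortComplex.moduleCat_exact_iff]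
  intro x hx
  have hx' : (F.d j k).hom.rTensor M x = 0 := hx
  rw [← he, LinearMap.rTensor_comp_apply] at hx'
  have hx'' := h1 (hx'.trans (map_zero _).symm)
  exact (rTensor_exact M (LinearMap.exact_map_mkQ_range (F.d i j).hom) (Submodule.mkQ_surjective _) x).1 hx''

theorem flat_cok_high {F : DRing.Cx A} (hF : DRing.TermwiseFlat F) {b c : ℤ} (hc : DRing.VanishesAbove F c)
    (hhi : ∀ i, b < i → F.ExactAt i) : ∀ (m : ℕ) (i j : ℤ), i + 1 = j → b < j → c < j + m → Module.Flat A (Cok F i j) := by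
  intro m
  induction m with
  | zero =>
    intro i j _ _ hcj
    haveI := ModuleCat.subsingleton_of_isZero (hc j (by simpa using hcj))
    infer_instance
  | succ m ih =>
    intro i j hij hbj hcj
    haveI := ih j (j + 1) rfl (by lia) (by push_cast at hcj; lia)
    obtain ⟨e, he, hinj, hrange⟩ := exists_dbar hij rfl (hhi j hbj)
    haveI := hF (j + 1)
    exact FlatCx.flat_of_flat_quotient hinj (g := (LinearMap.range (F.d j (j + 1)).hom).mkQ)
      (LinearMap.exact_iff.2 (by rw [Submodule.ker_mkQ, hrange])) (Submodule.mkQ_surjective _)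

/-- A bounded complex of flat modules has tor amplitude in `[a, b]` if its cohomology vanishes outside, and below `a`
also after tensoring with cyclic modules. -/
theorem amp_of_cyclic {F : DRing.Cx A} (hF : DRing.TermwiseFlat F) {a b c : ℤ} (hc : DRing.VanishesAbove F c)
    (hhi : ∀ i, b < i → F.ExactAt i) (hlo : ∀ i, i < a → F.ExactAt i)
    (h : ∀ (I : Ideal A) (i : ℤ), i < a → IsZero (((tR (ModuleCat.of A (A ⧸ I))).obj F).homology i))
    {K : Dual.D A} (e : DRing.toD F ≅ K) : DRing.HasTorAmplitudeIn A a b K := by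
  refine amp_iff_torVan.2 ⟨F, c, hc, hF, ⟨e⟩, fun M i hi => ?_⟩
  rcases hi with hi | hi
  · have hflat := flat_coker_cyclic hF (i + 1) fun I => by
      rw [show i + 1 - 1 = i by lia]; exact h I i hi
    rw [show i + 1 - 1 = i by lia] at hflat
    haveI := hflat
    exact isZero_tR_of_flat (i := i - 1) (k := i + 1) (by lia) rfl (hlo i hi) M
  · haveI := flat_cok_high hF hc hhi (c - i).toNat i (i + 1) rfl (by lia) (by lia)
    exact isZero_tR_of_flat (i := i - 1) (k := i + 1) (by lia) rfl (hhi i hi) M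

end

end Groth.Agent.Shriek
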