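import Groth.Agent.Shriek.Comp
import Mathlib.RingTheory.Flat.Stability

/-!
Flat base change of upper shrieks.
-/

set_option autoImplicit false
set_option linter.style.haveILetI false
set_option maxHeartbeats 1000000
universe u

namespace Groth.Agent.Shriek

open CategoryTheory CategoryTheory.Limits DerivedCategory MvPolynomial TensorProduct
open Groth.Agent.DualCx

attribute [local instance] HasDerivedCategory.standard
attribute [local instance] MvPolynomial.algebraMvPolynomial

noncomputable section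

variable {R R' A : Type u} [CommRing R] [CommRing R'] [CommRing A] [Algebra R R'] [Algebra R A]

/-- The base change of a presentation. -/
def bcPres {n : ℕ} (ψ : MvPolynomial (Fin n) R →ₐ[R] A) : MvPolynomial (Fin n) R' →ₐ[R'] R' ⊗[R] A :=
  MvPolynomial.aeval fun i => (1 : R') ⊗ₜ[R] ψ (MvPolynomial.X i)

theorem bcPres_map {n : ℕ} (ψ : MvPolynomial (Fin n) R →ₐ[R] A) :
    (bcPres (R' := R') ψ).toRingHom.comp (MvPolynomial.map (algebraMap R R')) =
      (Algebra.TensorProduct.includeRight : A →ₐ[R] R' ⊗[R] A).toRingHom.comp ψ.toRingHom := by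
  refine MvPolynomial.ringHom_ext (fun r => ?_) fun i => ?_
  · show bcPres (R' := R') ψ (MvPolynomial.map (algebraMap R R') (MvPolynomial.C r)) = _
    rw [MvPolynomial.map_C, bcPres, MvPolynomial.aeval_C]
    show algebraMap R' (R' ⊗[R] A) (algebraMap R R' r) = (1 : R') ⊗ₜ[R] ψ (algebraMap R _ r)
    rw [ψ.commutes, ← IsScalarTower.algebraMap_apply, Algebra.TensorProduct.algebraMap_apply,
      Algebra.algebraMap_eq_smul_one, Algebra.algebraMap_eq_smul_one, smul_tmul]
  · show bcPres (R' := R') ψ (MvPolynomial.map (algebraMap R R') (MvPolynomial.X i)) = _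
    rw [MvPolynomial.map_X, bcPres, MvPolynomial.aeval_X]
    rfl

theorem bcPres_surjective {n : ℕ} {ψ : MvPolynomial (Fin n) R →ₐ[R] A} (hψ : Function.Surjective ψ) :
    Function.Surjective (bcPres (R' := R') ψ) := fun x => by
  induction x using TensorProduct.induction_on with
  | zero => exact ⟨0, map_zero _⟩
  | add x y hx hy =>
    obtain ⟨p, rfl⟩ := hx
    obtain ⟨q, rfl⟩ := hy
    exact ⟨p + q, map_add _ _ _⟩
  | tmul r a =>
    obtain ⟨p, rfl⟩ := hψ a
    refine ⟨MvPolynomial.C r * MvPolynomial.map (algebraMap R R') p, ?_⟩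
    rw [map_mul, show bcPres (R' := R') ψ (MvPolynomial.map (algebraMap R R') p) = (1 : R') ⊗ₜ[R] ψ p from
      RingHom.congr_fun (bcPres_map ψ) p, bcPres, MvPolynomial.aeval_C, Algebra.TensorProduct.algebraMap_apply,
      Algebra.TensorProduct.tmul_mul_tmul, mul_one, one_mul]
    rfl

theorem flat_poly [Module.Flat R R'] (n : ℕ) : Module.Flat (MvPolynomial (Fin n) R) (MvPolynomial (Fin n) R') :=
  Module.Flat.isBaseChange R (MvPolynomial (Fin n) R) R' _
    (Algebra.IsPushout.out (R := R) (S := MvPolynomial (Fin n) R) (R' := R') (S' := MvPolynomial (Fin n) R'))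

/-- Flat base change. -/
theorem Shr.flatBaseChange [IsNoetherianRing R] [Module.Flat R R']
    [PreservesFiniteLimits (DualCx.ext (Algebra.TensorProduct.includeRight : A →ₐ[R] R' ⊗[R] A).toRingHom)]
    {n : ℕ} {ψ : MvPolynomial (Fin n) R →ₐ[R] A} (hψ : Function.Surjective ψ) {W : Dual.D A} {K : Dual.D R}
    (h : Shr ψ W K) {a : ℤ} (hK : ∀ i : ℤ, i < a → Subsingleton (Dual.HD R K i)) :
    Shr (bcPres (R' := R') ψ) ((locD (Algebra.TensorProduct.includeRight : A →ₐ[R] R' ⊗[R] A).toRingHom).obj W)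
      ((locD (algebraMap R R')).obj K) := by
  let P := MvPolynomial (Fin n) R
  let P' := MvPolynomial (Fin n) R'
  letI : Algebra P A := ψ.toRingHom.toAlgebra
  letI : Algebra P' (R' ⊗[R] A) := (bcPres (R' := R') ψ).toRingHom.toAlgebra
  letI : Algebra A (R' ⊗[R] A) := (Algebra.TensorProduct.includeRight : A →ₐ[R] R' ⊗[R] A).toRingHom.toAlgebra
  letI : Algebra P (R' ⊗[R] A) :=
    ((Algebra.TensorProduct.includeRight : A →ₐ[R] R' ⊗[R] A).toRingHom.comp ψ.toRingHom).toAlgebra
  haveI : IsScalarTower P A (R' ⊗[R] A) := IsScalarTower.of_algebraMap_eq fun _ => rfl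
  haveI : IsScalarTower P P' (R' ⊗[R] A) := IsScalarTower.of_algebraMap_eq fun p =>
    (RingHom.congr_fun (bcPres_map ψ) p).symm
  haveI : IsScalarTower R P A := IsScalarTower.of_algebraMap_eq fun r => (ψ.commutes r).symm
  haveI : IsScalarTower R A (R' ⊗[R] A) := IsScalarTower.of_algebraMap_eq fun r =>
    ((Algebra.TensorProduct.includeRight : A →ₐ[R] R' ⊗[R] A).commutes r).symm
  haveI : IsScalarTower R' P' (R' ⊗[R] A) := IsScalarTower.of_algebraMap_eq fun r =>
    ((bcPres (R' := R') ψ).commutes r).symm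
  haveI : IsScalarTower R P (R' ⊗[R] A) := IsScalarTower.of_algebraMap_eq fun r => by
    rw [IsScalarTower.algebraMap_apply R A (R' ⊗[R] A), IsScalarTower.algebraMap_apply R P A]
    rfl
  haveI : IsScalarTower R P' (R' ⊗[R] A) := IsScalarTower.of_algebraMap_eq fun r => by
    rw [IsScalarTower.algebraMap_apply R R' (R' ⊗[R] A), IsScalarTower.algebraMap_apply R R' P',
      ← IsScalarTower.algebraMap_apply R' P' (R' ⊗[R] A)]
  haveI h1 : Algebra.IsPushout R A R' (R' ⊗[R] A) :=
    Algebra.IsPushout.symm (inferInstance : Algebra.IsPushout R R' A (R' ⊗[R] A))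
  haveI : Algebra.IsPushout R P R' P' := inferInstance
  haveI h2 : Algebra.IsPushout P P' A (R' ⊗[R] A) :=
    ((Algebra.IsPushout.comp_iff (R := R) (S := P) (R' := R') (S' := P') (T := A) (T' := R' ⊗[R] A)).1 h1).symm
  haveI : Module.Flat P P' := flat_poly n
  haveI : Module.Finite P A := Module.Finite.of_surjective (Algebra.linearMap P A) hψ
  haveI : Module.Flat A (R' ⊗[R] A) := Module.Flat.isBaseChange P A P' _ (h2.symm).out
  have hlow : ∀ i : ℤ, i < a - n → Subsingleton (Dual.HD P (((polyD R n).obj K)⟦(n : ℤ)⟧) i) :=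
    fun i hi => by
    obtain ⟨e⟩ := nonempty_hd_shift ((polyD R n).obj K) (n : ℤ) i
    haveI : Subsingleton (Dual.HD P ((polyD R n).obj K) ((n : ℤ) + i)) :=
      ModuleCat.subsingleton_of_isZero (isZero_locHD _ (hK _ (by lia)))
    exact e.toEquiv.subsingleton
  have hb := RA.baseChange (S := P) (T := P') (B := A) (T' := R' ⊗[R] A) h
    (fun i => (psi_bijective_self (R := A) (R' ⊗[R] A) W i).2)
    (fun i => psi_bijective_res P' A _ (fun j => DualFlat.bT_bijective _ _ hlow A j) i)
  haveI : Module.Flat R P' := Module.Flat.trans R R' P'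
  obtain ⟨e1⟩ := DualFlat.nonempty_locD_comp (algebraMap R P) (algebraMap P P') (algebraMap R P')
    (IsScalarTower.algebraMap_eq _ _ _).symm K
  obtain ⟨e2⟩ := DualFlat.nonempty_locD_comp (algebraMap R R') (algebraMap R' P') (algebraMap R P')
    (IsScalarTower.algebraMap_eq _ _ _).symm K
  exact RA.of_iso hb (Iso.refl _)
    (((locD (algebraMap P P')).commShiftIso (n : ℤ)).app _ ≪≫ (shiftFunctor _ (n : ℤ)).mapIso (e1 ≪≫ e2.symm))

end

end Groth.Agent.Shriek
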