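import Groth.Agent.Shriek.PairApps
import Groth.Agent.Shriek.Indep
import Groth.Agent.DTenLib.BaseAdj
import Groth.Agent.PCMor.Ring

/-!
For flat `A`, the upper shriek is the tensor product with the upper shriek of the base.
-/

set_option autoImplicit false
set_option linter.style.haveILetI false
set_option maxHeartbeats 1000000
set_option backward.isDefEq.respectTransparency false
universe u

namespace Groth.Agent.Shriek

open CategoryTheory CategoryTheory.Limits MonoidalCategory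

attribute [local instance] HasDerivedCategory.standard

noncomputable section

/-- `R[n] ⊗ C = C[n]` -/
theorem nonempty_freeAt_tensor (S : Type u) [CommRing S] (n : ℤ) (C : DRing.Cx S) :
    Nonempty (DerivedCategory.Q.obj (freeAt S (-n) ⊗ C) ≅ (DerivedCategory.Q.obj C)⟦n⟧) := by
  let I : DRing.Cx S := 𝟙_ (DRing.Cx S)
  let e1 : freeAt S (-n) ≅ I⟦n⟧ :=
    (((CochainComplex.singleFunctors (ModuleCat.{u} S)).shiftIso n (-n) 0 (add_neg_cancel n)).app
      (ModuleCat.of S S)).symm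
  let e2 : (I⟦n⟧ : DRing.Cx S) ⊗ C ≅ (I ⊗ C)⟦n⟧ :=
    CochainComplex.mapBifunctorShift₁Iso I C (curriedTensor (ModuleCat.{u} S)) n
  exact ⟨DerivedCategory.Q.mapIso (whiskerRightIso e1 C ≪≫ e2 ≪≫
      (shiftFunctor (DRing.Cx S) n).mapIso (λ_ C)) ≪≫ (DerivedCategory.Q.commShiftIso n).app C⟩

/-- extension in two steps -/
def extComp {R P A : Type u} [CommRing R] [CommRing P] [CommRing A] (θ : R →+* P) (φ : P →+* A) (χ : R →+* A)
    (h : φ.comp θ = χ) (C : DRing.Cx R) :
    (DTen.extCx φ).obj ((DTen.extCx θ).obj C) ≅ (DTen.extCx χ).obj C :=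
  ((NatIso.mapHomologicalComplex (ModuleCat.extendScalarsComp.{u} θ φ) _).app C).symm ≪≫
    eqToIso (by rw [h])

variable {R A : Type u} [CommRing R] [CommRing A] [Algebra R A]

/-- a flat algebra of finite presentation is perfect over a presentation -/
theorem isPerfectModule_pres [Module.Flat R A] [Algebra.FinitePresentation R A] {n : ℕ}
    (ψ : MvPolynomial (Fin n) R →ₐ[R] A) (hψ : Function.Surjective ψ) :
    letI := ψ.toRingHom.toAlgebra
    DRing.IsPerfectModule (MvPolynomial (Fin n) R) A := by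
  have hflat : (algebraMap R A).Flat := RingHom.flat_algebraMap_iff.2 ‹_›
  have hfp : (algebraMap R A).FinitePresentation := RingHom.finitePresentation_algebraMap.2 ‹_›
  exact (PCMor.pf_of_flat_fp hflat hfp).pfHom (φ := ψ.toRingHom) hψ ψ.comp_algebraMap

theorem Shr.tensor {n : ℕ} {ψ : MvPolynomial (Fin n) R →ₐ[R] A}
    (hA : letI := ψ.toRingHom.toAlgebra; DRing.IsPerfectModule (MvPolynomial (Fin n) R) A)
    {W : DRing.Cx A} (hW : Shr ψ (DerivedCategory.Q.obj W) (Dual.inD R R)) {C : DRing.Cx R}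
    (hC : DRing.IsKFlat R C) :
    Shr ψ (DerivedCategory.Q.obj (W ⊗ (DTen.extCx (algebraMap R A)).obj C)) (DerivedCategory.Q.obj C) := by
  let P := MvPolynomial (Fin n) R
  let eE : (DualCx.ext (algebraMap R P)).obj (ModuleCat.of R R) ≅ ModuleCat.of P P :=
    DRingKP.extendTensorIso R ≪≫ (TensorProduct.AlgebraTensorModule.rid R P P).toModuleIso
  let eI : (polyD R n).obj (Dual.inD R R) ≅ Dual.inD P P :=
    DualCx.locInD (algebraMap R P) R ≪≫ (DerivedCategory.singleFunctor (ModuleCat.{u} P) 0).mapIso eE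
  have h1 : RA ψ.toRingHom (DerivedCategory.Q.obj W) (DerivedCategory.Q.obj (freeAt P (-(n : ℤ)))) :=
    RA.of_iso hW (Iso.refl _) ((shiftFunctor _ (n : ℤ)).mapIso eI ≪≫ (freeShiftIso P (n : ℤ)).symm)
  have h2 := RA.tensor_of_perfect ψ.toRingHom hA h1 (KFlat.isKFlat_extendScalars (algebraMap R P) hC)
  obtain ⟨e⟩ := nonempty_freeAt_tensor P (n : ℤ) ((DTen.extCx (algebraMap R P)).obj C)
  exact RA.of_iso h2
    (DerivedCategory.Q.mapIso (whiskerLeftIso W (extComp (algebraMap R P) ψ.toRingHom (algebraMap R A)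
      ψ.comp_algebraMap C)))
    (e ≪≫ (shiftFunctor _ (n : ℤ)).mapIso (DualCx.locQ (algebraMap R P) C).symm)

/-- The upper shriek of a flat map is `ω ⊗ -`. -/
theorem nonempty_shriekVia_tensor [DRing.HasLBaseChange (algebraMap R A)] {n : ℕ}
    (ψ : MvPolynomial (Fin n) R →ₐ[R] A)
    (hA : letI := ψ.toRingHom.toAlgebra; DRing.IsPerfectModule (MvPolynomial (Fin n) R) A)
    [DRing.HasLBaseChange (algebraMap R (MvPolynomial (Fin n) R))] (Rψ : Dual.D (MvPolynomial (Fin n) R) ⥤ Dual.D A)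
    (adj : DRing.restrictD ψ.toRingHom ⊣ Rψ) (W : DRing.Cx A)
    (hW : Nonempty (DRing.toD W ≅ Dual2.shriekVia n Rψ (Dual.inD R R))) [DRing.HasLTensorCx A W] (K : Dual.D R) :
    Nonempty (Dual2.shriekVia n Rψ K ≅ (DRing.LTensorCx A W).obj ((DRing.LBaseChange (algebraMap R A)).obj K)) := by
  obtain ⟨eW⟩ := hW
  obtain ⟨C, hC, ⟨eC⟩⟩ := DTenLib.exists_kFlat_rep K
  have h1 : Shr ψ (DerivedCategory.Q.obj W) (Dual.inD R R) :=
    RA.of_iso (shr_shriekVia ψ Rψ adj (Dual.inD R R)) eW.symm (Iso.refl _)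
  obtain ⟨e⟩ := RA.unique (shr_shriekVia ψ Rψ adj K)
    (RA.of_iso (Shr.tensor hA h1 hC) (Iso.refl _) ((shiftFunctor _ (n : ℤ)).mapIso ((polyD R n).mapIso eC)))
  haveI : DTen.HasLBase (algebraMap R A) := DTenLib.hasLBase _
  haveI := DTenLib.isIso_cmp_kFlat (algebraMap R A) hC
  have hE := KFlat.isKFlat_extendScalars (algebraMap R A) hC
  letI := DTenLib.braidedCx (A := A)
  exact ⟨e ≪≫ DerivedCategory.Q.mapIso (β_ W _) ≪≫ (DRingKP.lTensorCxIso W hE).symm ≪≫
    (DRing.LTensorCx A W).mapIso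
      ((asIso (DRingKP.cmp (algebraMap R A) C)).symm ≪≫ (DRing.LBaseChange (algebraMap R A)).mapIso eC)⟩

end

end Groth.Agent.Shriek
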