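import Groth.Agent.Shriek.BCPerfect
import Groth.Agent.Shriek.TensorFlat
import Groth.Agent.Shriek.FlatBC
import Groth.Prelude.Def_DTen6

/-!
Arbitrary base change of upper shrieks of flat algebras of finite presentation.
-/

set_option autoImplicit false
set_option linter.style.haveILetI false
set_option maxHeartbeats 2000000
set_option backward.isDefEq.respectTransparency false
universe u

namespace Groth.Agent.Shriek

open CategoryTheory CategoryTheory.Limits MonoidalCategory MvPolynomial TensorProduct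

attribute [local instance] HasDerivedCategory.standard
attribute [local instance] MvPolynomial.algebraMvPolynomial

noncomputable section

/-- the derived base change on a K-flat complex -/
def lbcKFlatIso {R A : Type u} [CommRing R] [CommRing A] (φ : R →+* A) [DRing.HasLBaseChange φ] {C : DRing.Cx R}
    (hC : DRing.IsKFlat R C) :
    (DRing.LBaseChange φ).obj (DerivedCategory.Q.obj C) ≅ DerivedCategory.Q.obj ((DTen.extCx φ).obj C) :=
  haveI : DTen.HasLBase φ := DTenLib.hasLBase φ
  haveI := DTenLib.isIso_cmp_kFlat φ hC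
  asIso (DRingKP.cmp φ C)

section

variable {R A : Type u} [CommRing R] [CommRing A] [Algebra R A]

theorem shr_self_iff {n : ℕ} (ψ : MvPolynomial (Fin n) R →ₐ[R] A) (W : Dual.D A) :
    Shr ψ W (Dual.inD R R) ↔
      RA ψ.toRingHom W (DerivedCategory.Q.obj (freeAt (MvPolynomial (Fin n) R) (-(n : ℤ)))) := by
  let P := MvPolynomial (Fin n) R
  let eE : (DualCx.ext (algebraMap R P)).obj (ModuleCat.of R R) ≅ ModuleCat.of P P :=
    DRingKP.extendTensorIso R ≪≫ (TensorProduct.AlgebraTensorModule.rid R P P).toModuleIso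
  let e := (shiftFunctor _ (n : ℤ)).mapIso (DualCx.locInD (algebraMap R P) R ≪≫
    (DerivedCategory.singleFunctor (ModuleCat.{u} P) 0).mapIso eE) ≪≫ (freeShiftIso P (n : ℤ)).symm
  exact ⟨fun h => RA.of_iso h (Iso.refl _) e, fun h => RA.of_iso h (Iso.refl _) e.symm⟩

end

variable {R R' A : Type u} [CommRing R] [CommRing R'] [CommRing A] [Algebra R R'] [Algebra R A]


theorem Shr.baseChange_self [Module.Flat R A] [Algebra.FinitePresentation R A] {n : ℕ}
    {ψ : MvPolynomial (Fin n) R →ₐ[R] A} (hψ : Function.Surjective ψ) {W : DRing.Cx A} (hW : DRing.IsKFlat A W)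
    (h : Shr ψ (DerivedCategory.Q.obj W) (Dual.inD R R)) :
    Shr (bcPres (R' := R') ψ)
      (DerivedCategory.Q.obj ((DTen.extCx (Algebra.TensorProduct.includeRight : A →ₐ[R] R' ⊗[R] A).toRingHom).obj W))
      (Dual.inD R' R') := by
  let P := MvPolynomial (Fin n) R
  let P' := MvPolynomial (Fin n) R'
  rw [shr_self_iff] at h ⊢
  have hperf := isPerfectModule_pres ψ hψ
  have hP : (algebraMap R P).Flat := RingHom.flat_algebraMap_iff.2 inferInstance
  have hA : (algebraMap R A).Flat := RingHom.flat_algebraMap_iff.2 ‹_›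
  letI : Algebra P A := ψ.toRingHom.toAlgebra
  letI : Algebra P' (R' ⊗[R] A) := (bcPres (R' := R') ψ).toRingHom.toAlgebra
  letI : Algebra A (R' ⊗[R] A) := (Algebra.TensorProduct.includeRight : A →ₐ[R] R' ⊗[R] A).toRingHom.toAlgebra
  letI : Algebra P (R' ⊗[R] A) :=
    ((Algebra.TensorProduct.includeRight : A →ₐ[R] R' ⊗[R] A).toRingHom.comp ψ.toRingHom).toAlgebra
  haveI : IsScalarTower P A (R' ⊗[R] A) := IsScalarTower.of_algebraMap_eq fun _ => rfl
  haveI : IsScalarTower P P' (R' ⊗[R] A) := IsScalarTower.of_algebraMap_eq fun p =>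
    (RingHom.congr_fun (bcPres_map ψ) p).symm
  haveI : IsScalarTower R P A := IsScalarTower.of_algebraMap_eq fun r => (ψ.commutes r).symm
  haveI : IsScalarTower R A (R' ⊗[R] A) := IsScalarTower.of_algebraMap_eq fun r =>
    ((Algebra.TensorProduct.includeRight : A →ₐ[R] R' ⊗[R] A).commutes r).symm
  haveI : IsScalarTower R' P' (R' ⊗[R] A) := IsScalarTower.of_algebraMap_eq fun r =>
    ((bcPres (R' := R') ψ).commutes r).symm
  haveI : IsScalarTower R P (R' ⊗[R] A) := IsScalarTower.of_algebraMap_eq fun r => by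
    rw [IsScalarTower.algebraMap_apply R A (R' ⊗[R] A), IsScalarTower.algebraMap_apply R P A]
    rfl
  haveI : IsScalarTower R P' (R' ⊗[R] A) := IsScalarTower.of_algebraMap_eq fun r => by
    rw [IsScalarTower.algebraMap_apply R R' (R' ⊗[R] A), IsScalarTower.algebraMap_apply R R' P',
      ← IsScalarTower.algebraMap_apply R' P' (R' ⊗[R] A)]
  haveI h1 : Algebra.IsPushout R A R' (R' ⊗[R] A) :=
    Algebra.IsPushout.symm (inferInstance : Algebra.IsPushout R R' A (R' ⊗[R] A))
  haveI h0 : Algebra.IsPushout R P R' P' := inferInstance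
  haveI : Algebra.IsPushout R R' P P' := h0.symm
  haveI h2 : Algebra.IsPushout P P' A (R' ⊗[R] A) :=
    ((Algebra.IsPushout.comp_iff (R := R) (S := P) (R' := R') (S' := P') (T := A) (T' := R' ⊗[R] A)).1 h1).symm
  exact RA.baseChange_perfect R R' (P := P) (P' := P') (A := A) (A' := R' ⊗[R] A) hP hA hperf hW _ h

/-- Arbitrary base change. -/
theorem nonempty_shriekVia_baseChange [Module.Flat R A] [Algebra.FinitePresentation R A] {n : ℕ}
    (ψ : MvPolynomial (Fin n) R →ₐ[R] A) (hψ : Function.Surjective ψ)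
    [DRing.HasLBaseChange (algebraMap R (MvPolynomial (Fin n) R))] (Rψ : Dual.D (MvPolynomial (Fin n) R) ⥤ Dual.D A)
    (adj : DRing.restrictD ψ.toRingHom ⊣ Rψ) {m : ℕ} (ψ' : MvPolynomial (Fin m) R' →ₐ[R'] (R' ⊗[R] A))
    (hψ' : Function.Surjective ψ') [DRing.HasLBaseChange (algebraMap R' (MvPolynomial (Fin m) R'))]
    (Rψ' : Dual.D (MvPolynomial (Fin m) R') ⥤ Dual.D (R' ⊗[R] A)) (adj' : DRing.restrictD ψ'.toRingHom ⊣ Rψ')
    [DRing.HasLBaseChange (Algebra.TensorProduct.includeRight : A →ₐ[R] R' ⊗[R] A).toRingHom]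
    [DRing.HasLBaseChange (algebraMap R R')] (K : Dual.D R) :
    Nonempty ((DRing.LBaseChange (Algebra.TensorProduct.includeRight : A →ₐ[R] R' ⊗[R] A).toRingHom).obj
        (Dual2.shriekVia n Rψ K) ≅ Dual2.shriekVia m Rψ' ((DRing.LBaseChange (algebraMap R R')).obj K)) := by
  let A' := R' ⊗[R] A
  let χ' : A →+* A' := (Algebra.TensorProduct.includeRight : A →ₐ[R] R' ⊗[R] A).toRingHom
  obtain ⟨W, hW, ⟨eW⟩⟩ := DTenLib.exists_kFlat_rep (Dual2.shriekVia n Rψ (Dual.inD R R))
  obtain ⟨C, hC, ⟨eC⟩⟩ := DTenLib.exists_kFlat_rep K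
  have h1 : Shr ψ (DerivedCategory.Q.obj W) (Dual.inD R R) :=
    RA.of_iso (shr_shriekVia ψ Rψ adj (Dual.inD R R)) eW.symm (Iso.refl _)
  obtain ⟨e⟩ := RA.unique (shr_shriekVia ψ Rψ adj K) (RA.of_iso (Shr.tensor (isPerfectModule_pres ψ hψ) h1 hC)
    (Iso.refl _) ((shiftFunctor _ (n : ℤ)).mapIso ((polyD R n).mapIso eC)))
  let C' := (DTen.extCx (algebraMap R R')).obj C
  have hC' : DRing.IsKFlat R' C' := KFlat.isKFlat_extendScalars (algebraMap R R') hC
  have h2 := Shr.tensor (isPerfectModule_pres (bcPres (R' := R') ψ) (bcPres_surjective hψ))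
    (Shr.baseChange_self (R' := R') hψ hW h1) hC'
  let eK : DerivedCategory.Q.obj C' ≅ (DRing.LBaseChange (algebraMap R R')).obj K :=
    (lbcKFlatIso (algebraMap R R') hC).symm ≪≫ (DRing.LBaseChange (algebraMap R R')).mapIso eC
  obtain ⟨e'⟩ := Shr.unique (bcPres_surjective hψ) hψ'
    (RA.of_iso h2 (Iso.refl _) ((shiftFunctor _ (n : ℤ)).mapIso ((polyD R' n).mapIso eK)))
    (shr_shriekVia ψ' Rψ' adj' _)
  have hWC : DRing.IsKFlat A (W ⊗ (DTen.extCx (algebraMap R A)).obj C) :=
    DTenLib.isKFlat_tensor hW (KFlat.isKFlat_extendScalars (algebraMap R A) hC)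
  exact ⟨(DRing.LBaseChange χ').mapIso e ≪≫ lbcKFlatIso χ' hWC ≪≫
    DerivedCategory.Q.mapIso (DTen.extTenCxIso χ' W ((DTen.extCx (algebraMap R A)).obj C) ≪≫
      whiskerLeftIso _ (extComp (algebraMap R A) χ' (algebraMap R A')
        (Algebra.TensorProduct.includeRight : A →ₐ[R] R' ⊗[R] A).comp_algebraMap C ≪≫
          (extComp (algebraMap R R') (algebraMap R' A') (algebraMap R A')
            (IsScalarTower.algebraMap_eq R R' A').symm C).symm)) ≪≫ e'⟩

end

end Groth.Agent.Shriek
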