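import Groth.Agent.Shriek.Grade
import Groth.Agent.Shriek.AmpCrit
import Groth.Agent.Shriek.BCShr
import Groth.Agent.DRingKP.TorMore
import Groth.Agent.S7066
import Mathlib.RingTheory.LocalProperties.Submodule

/-!
Bounds and tor amplitude of the upper shriek of the base for flat algebras.
-/

set_option autoImplicit false
set_option linter.style.haveILetI false
set_option maxHeartbeats 1000000
set_option backward.isDefEq.respectTransparency false
universe u

namespace Groth.Agent.Shriek

open CategoryTheory CategoryTheory.Limits MonoidalCategory HomologicalComplex TensorProduct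

attribute [local instance] HasDerivedCategory.standard

noncomputable section

section Exact

variable {R A : Type u} [CommRing R] [CommRing A]

theorem subsingleton_HD_iff (C : DRing.Cx A) (i : ℤ) :
    Subsingleton (Dual.HD A (DerivedCategory.Q.obj C) i) ↔ C.ExactAt i := by
  rw [exactAt_iff_isZero_homology]
  let e := (DerivedCategory.homologyFunctorFactors (ModuleCat.{u} A) i).app C
  exact ⟨fun h => (ModuleCat.isZero_of_subsingleton
    ((DerivedCategory.homologyFunctor (ModuleCat.{u} A) i).obj (DerivedCategory.Q.obj C))).of_iso e.symm,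
    fun h => ModuleCat.subsingleton_of_isZero (h.of_iso e)⟩

theorem exactAt_resCx_iff (φ : R →+* A) (C : DRing.Cx A) (i : ℤ) :
    ((DTen.resCx φ).obj C).ExactAt i ↔ C.ExactAt i := by
  rw [HomologicalComplex.exactAt_iff ((DTen.resCx φ).obj C) i, HomologicalComplex.exactAt_iff C i]
  exact ShortComplex.exact_map_iff_of_faithful (C.sc i) (ModuleCat.restrictScalars.{u} φ)

theorem exactAt_iff_of_iso {C D : DRing.Cx A} (e : DerivedCategory.Q.obj C ≅ DerivedCategory.Q.obj D) (i : ℤ) :
    C.ExactAt i ↔ D.ExactAt i := by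
  rw [← subsingleton_HD_iff, ← subsingleton_HD_iff]
  exact ((DerivedCategory.homologyFunctor (ModuleCat.{u} A) i).mapIso e).toLinearEquiv.toEquiv.subsingleton_congr

end Exact

variable {R A : Type u} [CommRing R] [CommRing A] [Algebra R A] [Module.Flat R A] [IsNoetherianRing R]
  [Algebra.FinitePresentation R A] {n : ℕ} {ψ : MvPolynomial (Fin n) R →ₐ[R] A}

theorem Shr.subsingleton_HD_pos (hψ : Function.Surjective ψ) {W : Dual.D A} (h : Shr ψ W (Dual.inD R R)) {i : ℤ}
    (hi : 0 < i) : Subsingleton (Dual.HD A W i) := by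
  let P := MvPolynomial (Fin n) R
  obtain ⟨eP⟩ := polyD_self R n
  have h' : RA ψ.toRingHom W ((Dual.inD P P)⟦(n : ℤ)⟧) :=
    RA.of_iso h (Iso.refl _) ((shiftFunctor _ (n : ℤ)).mapIso eP)
  letI : Algebra P A := ψ.toRingHom.toAlgebra
  haveI : IsScalarTower R P A := IsScalarTower.of_algebraMap_eq fun r => (ψ.commutes r).symm
  have h0 : DRing.HasTorAmplitudeIn R (-((0 : ℕ) : ℤ)) 0 (Dual.inD R A) := by
    rw [Nat.cast_zero, neg_zero]; exact (DRingKP.amp_zero_iff_flat A).2 ‹_›
  have hP := S7066.amp_mvPolynomial (A := R) n 0 A h0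
  rw [zero_add] at hP
  obtain ⟨E, hE, hEp, ⟨e⟩⟩ :=
    DRingKP.exists_finiteProjective_rep (DRingKP.pc'_of_isPerfect (isPerfectModule_pres ψ hψ)) hP
  refine subsingleton_of_forall_eq 0 fun x => ?_
  obtain ⟨s, hs, hsx⟩ := exists_kill_HD ψ.toRingHom h' i ⊥ (fun z => ⟨1, Submonoid.mem_bot.2 rfl, by
    haveI : Subsingleton (DualCx.T ((Dual.inD P P)⟦(n : ℤ)⟧) A i) :=
      DRingKP.subsingleton_hom hE (fun k => (hEp k).2) e fun k hk => by
        refine IsZero.of_iso ?_ ((((DerivedCategory.homologyFunctor (ModuleCat.{u} P) 0).shiftIso i k (i + k) rfl).app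
          ((Dual.inD P P)⟦(n : ℤ)⟧)) ≪≫ (((DerivedCategory.homologyFunctor (ModuleCat.{u} P) 0).shiftIso (n : ℤ) (i + k)
            ((n : ℤ) + (i + k)) rfl).app (Dual.inD P P)))
        haveI := DualCx.subsingleton_hd_inD P (j := (n : ℤ) + (i + k)) (by omega) (A := P)
        exact ModuleCat.isZero_of_subsingleton
          ((DerivedCategory.homologyFunctor (ModuleCat.{u} P) ((n : ℤ) + (i + k))).obj (Dual.inD P P))
    exact Subsingleton.elim _ _⟩) x
  rw [Submonoid.mem_bot.1 hs, map_one, one_smul] at hsx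
  exact hsx

omit [Module.Flat R A] [IsNoetherianRing R] [Algebra.FinitePresentation R A] in
theorem fibreDimAt_baseChange (R' : Type u) [CommRing R'] [Algebra R R']
    (hsurj : Function.Surjective (algebraMap R R')) {d : ℕ}
    (h : ∀ q : PrimeSpectrum A,
      FlatMor.fibreDimAt (AlgebraicGeometry.Spec.map (CommRingCat.ofHom (algebraMap R A))) q ≤ (d : WithBot ℕ∞))
    (q' : PrimeSpectrum (R' ⊗[R] A)) :
    FlatMor.fibreDimAt (AlgebraicGeometry.Spec.map (CommRingCat.ofHom (algebraMap R' (R' ⊗[R] A)))) q'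
      ≤ (d : WithBot ℕ∞) := by
  let j : A →+* R' ⊗[R] A := (Algebra.TensorProduct.includeRight : A →ₐ[R] R' ⊗[R] A).toRingHom
  have hj : Function.Surjective j := fun z => by
    induction z with
    | zero => exact ⟨0, map_zero j⟩
    | add a b ha hb => obtain ⟨a, rfl⟩ := ha; obtain ⟨b, rfl⟩ := hb; exact ⟨a + b, map_add j a b⟩
    | tmul r a =>
      obtain ⟨r, rfl⟩ := hsurj r
      refine ⟨r • a, ?_⟩
      show (1 : R') ⊗ₜ[R] (r • a) = algebraMap R R' r ⊗ₜ[R] a
      rw [TensorProduct.tmul_smul, TensorProduct.smul_tmul', Algebra.smul_def, mul_one]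
  let f := AlgebraicGeometry.Spec.map (CommRingCat.ofHom (algebraMap R A))
  let f' := AlgebraicGeometry.Spec.map (CommRingCat.ofHom (algebraMap R' (R' ⊗[R] A)))
  let π := AlgebraicGeometry.Spec.map (CommRingCat.ofHom j)
  let s := AlgebraicGeometry.Spec.map (CommRingCat.ofHom (algebraMap R R'))
  have hsq : π ≫ f = f' ≫ s := by
    rw [← AlgebraicGeometry.Spec.map_comp, ← AlgebraicGeometry.Spec.map_comp, ← CommRingCat.ofHom_comp,
      ← CommRingCat.ofHom_comp]
    congr 2
    exact ((Algebra.TensorProduct.includeRight : A →ₐ[R] R' ⊗[R] A).comp_algebraMap).trans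
      (IsScalarTower.algebraMap_eq R R' (R' ⊗[R] A))
  obtain ⟨U, hU, hchain⟩ := (Unibranch.fibreDimAt_le_iff f (π q')).1 (h (π q'))
  refine (Unibranch.fibreDimAt_le_iff f' q').2 ⟨(TopologicalSpace.Opens.map π.base).obj U, hU, fun k c hc hc' => ?_⟩
  refine hchain k (fun i => π (c i)) (fun i => ⟨(hc i).1, ?_⟩) fun i => ⟨?_, ?_⟩
  · show (π ≫ f) (c i) = (π ≫ f) q'
    rw [hsq]
    show s (f' (c i)) = s (f' q')
    rw [(hc i).2]
  · exact (hc' i).1.map π.continuous
  · exact fun heq => (hc' i).2 (PrimeSpectrum.comap_injective_of_surjective j hj heq)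

/-- the tor amplitude -/
theorem Shr.amp (hψ : Function.Surjective ψ) {W : Dual.D A} (h : Shr ψ W (Dual.inD R R)) {d : ℕ}
    (hd : ∀ q : PrimeSpectrum A,
      FlatMor.fibreDimAt (AlgebraicGeometry.Spec.map (CommRingCat.ofHom (algebraMap R A))) q ≤ (d : WithBot ℕ∞)) :
    DRing.HasTorAmplitudeIn R (-(d : ℤ)) 0 ((DRing.restrictD (algebraMap R A)).obj W) := by
  let P := MvPolynomial (Fin n) R
  obtain ⟨eP⟩ := polyD_self R n
  have h' : RA ψ.toRingHom W ((Dual.inD P P)⟦(n : ℤ)⟧) :=
    RA.of_iso h (Iso.refl _) ((shiftFunctor _ (n : ℤ)).mapIso eP)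
  obtain ⟨W₀, hW₀, ⟨eW⟩⟩ := DTenLib.exists_kFlat_rep W
  obtain ⟨pd, -, ⟨e⟩⟩ := exists_rep ψ.toRingHom (isPerfectModule_pres ψ hψ) (W := W₀) (-(n : ℤ))
    (RA.of_iso h' eW.symm (freeShiftIso P (n : ℤ)).symm)
  let D0 := pd.D ⊗ freeAt P (-(n : ℤ))
  let F : DRing.Cx R := (DTen.resCx (algebraMap R P)).obj D0
  have hFc : DRing.VanishesAbove F (-pd.a - n) := fun i hi => by
    refine (ModuleCat.restrictScalars.{u} (algebraMap R P)).map_isZero (DRingKP.tensor_vanishes i fun p q hpq => ?_)
    by_cases hp : -pd.a < p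
    · exact Or.inl (pd.hzeroD p (Or.inr hp))
    · exact Or.inr (vanishesAbove_freeAt (-(n : ℤ)) q (by omega))
  have hF : DRing.TermwiseFlat F := fun i => by
    haveI : Module.Projective P (D0.X i) :=
      (DRingKP.tensor_finiteProjective (b := -pd.a) (c := -(n : ℤ)) (fun i hi => pd.hzeroD i (Or.inr hi))
        (vanishesAbove_freeAt (R := P) (-(n : ℤ))) pd.hprojD (termwiseFiniteProjective_freeAt (-(n : ℤ))) i).2
    letI : Module R (D0.X i) := Module.compHom _ (algebraMap R P)
    haveI : IsScalarTower R P (D0.X i) := IsScalarTower.of_algebraMap_smul fun _ _ => rfl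
    exact (Module.Flat.trans R P (D0.X i) : Module.Flat R (D0.X i))
  let eF : DerivedCategory.Q.obj F ≅ DerivedCategory.Q.obj ((DTen.resCx (algebraMap R A)).obj W₀) :=
    ((DTen.resFactors (algebraMap R P)).app D0).symm ≪≫
      (DRing.restrictD (algebraMap R P)).mapIso (e.symm ≪≫ ((DTen.resFactors ψ.toRingHom).app W₀).symm) ≪≫
      (restrictDComp (algebraMap R P) ψ.toRingHom (algebraMap R A) ψ.comp_algebraMap).app _ ≪≫
      (DTen.resFactors (algebraMap R A)).app W₀
  let eK : DRing.toD F ≅ (DRing.restrictD (algebraMap R A)).obj W :=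
    eF ≪≫ ((DTen.resFactors (algebraMap R A)).app W₀).symm ≪≫ (DRing.restrictD (algebraMap R A)).mapIso eW
  have hexact : ∀ i, F.ExactAt i ↔ Subsingleton (Dual.HD A W i) := fun i => by
    rw [exactAt_iff_of_iso eF i, exactAt_resCx_iff, ← subsingleton_HD_iff]
    exact ((DerivedCategory.homologyFunctor (ModuleCat.{u} A) i).mapIso eW).toLinearEquiv.toEquiv.subsingleton_congr
  haveI : IsNoetherianRing A := Algebra.FiniteType.isNoetherianRing R A
  have hlow : ∀ i : ℤ, i < -(d : ℤ) → Subsingleton (Dual.HD A W i) := fun i hi =>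
    Module.subsingleton_of_localization_maximal (fun m _ => LocalizedModule m.primeCompl (Dual.HD A W i))
      (fun m _ => LocalizedModule.mkLinearMap m.primeCompl _)
      fun m hm => h.subsingleton_loc_HD hψ ⟨m, hm.isPrime⟩ (hd _) hi
  refine amp_of_cyclic hF hFc (fun i hi => (hexact i).2 (h.subsingleton_HD_pos hψ hi))
    (fun i hi => (hexact i).2 (hlow i hi)) (fun I i hi => ?_) eK
  let R' := R ⧸ I
  let A' := R' ⊗[R] A
  haveI := fun (S T : Type u) [CommRing S] [CommRing T] (φ : S →+* T) => DRingKP.hasLBaseChange φ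
  letI : Algebra A A' := (Algebra.TensorProduct.includeRight : A →ₐ[R] A').toRingHom.toAlgebra
  haveI : IsScalarTower R A A' := IsScalarTower.of_algebraMap_eq fun r =>
    ((Algebra.TensorProduct.includeRight : A →ₐ[R] A').commutes r).symm
  haveI : Algebra.IsPushout R R' A A' := inferInstance
  let W' := (DTen.extCx (algebraMap A A')).obj W₀
  have h1 : Shr (bcPres (R' := R') ψ) (DerivedCategory.Q.obj W') (Dual.inD R' R') :=
    Shr.baseChange_self (R' := R') hψ hW₀ (RA.of_iso h eW.symm (Iso.refl _))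
  have hex' : W'.ExactAt i := (subsingleton_HD_iff W' i).1
    (Module.subsingleton_of_localization_maximal
      (fun m _ => LocalizedModule m.primeCompl (Dual.HD A' (DerivedCategory.Q.obj W') i))
      (fun m _ => LocalizedModule.mkLinearMap m.primeCompl _)
      fun m hm => h1.subsingleton_loc_HD (bcPres_surjective hψ) ⟨m, hm.isPrime⟩
        (fibreDimAt_baseChange R' Ideal.Quotient.mk_surjective hd _) hi)
  let φ := algebraMap R R'
  have hFk : DRing.IsKFlat R F := DRingKP.isKFlat_of_bounded hFc hF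
  have hWk : DRing.IsKFlat R ((DTen.resCx (algebraMap R A)).obj W₀) :=
    isKFlat_resCx (algebraMap R A) (RingHom.flat_algebraMap_iff.2 ‹_›) hW₀
  let eExt : DerivedCategory.Q.obj ((DTen.extCx φ).obj F) ≅
      DerivedCategory.Q.obj ((DTen.resCx (algebraMap R' A')).obj W') :=
    (lbcKFlatIso φ hFk).symm ≪≫ (DRing.LBaseChange φ).mapIso eF ≪≫ lbcKFlatIso φ hWk ≪≫
      DerivedCategory.Q.mapIso (kapCx (P := R) (P' := R') (A := A) (A' := A') W₀)
  have hextF : ((DTen.extCx φ).obj F).ExactAt i := by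
    rw [exactAt_iff_of_iso eExt i, exactAt_resCx_iff]; exact hex'
  refine (exactAt_iff_isZero_homology _ _).1 (HomologicalComplex.ExactAt.of_iso ?_
    ((DRingKP.bcRestrictIso φ F) ≪≫ (NatIso.mapHomologicalComplex
      ((tensoringRight (ModuleCat.{u} R)).mapIso (LinearEquiv.toModuleIso
        ({ toFun := fun x => x, invFun := fun x => x, map_add' := fun _ _ => rfl, map_smul' := fun _ _ => rfl,
           left_inv := fun _ => rfl, right_inv := fun _ => rfl } :
          (ModuleCat.restrictScalars.{u} φ).obj (ModuleCat.of R' R') ≃ₗ[R] R'))) (ComplexShape.up ℤ)).app F))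
  exact (exactAt_resCx_iff φ _ i).2 hextF

end

end Groth.Agent.Shriek
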