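import Groth.Agent.Shriek.BCShr

/-!
The endomorphisms of the relative dualizing complex.
-/

set_option autoImplicit false
set_option linter.style.haveILetI false
set_option maxHeartbeats 1000000
set_option backward.isDefEq.respectTransparency false
universe u

namespace Groth.Agent.Shriek

open CategoryTheory CategoryTheory.Limits MonoidalCategory HomologicalComplex

attribute [local instance] HasDerivedCategory.standard

noncomputable section

section Linear

variable {R : Type u} [CommRing R] (K : DRing.Cx R) {X Y : DRing.Cx R}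

theorem whiskerLeft_add_cx (f g : X ⟶ Y) : K ◁ (f + g) = K ◁ f + K ◁ g := by
  refine HomologicalComplex.hom_ext _ _ fun n => mapBifunctor.hom_ext fun p q h => ?_
  erw [HomologicalComplex.add_f_apply, Preadditive.comp_add, ι_mapBifunctorMap, ι_mapBifunctorMap,
    ι_mapBifunctorMap]
  simp only [HomologicalComplex.id_f, CategoryTheory.Functor.map_id]
  erw [Category.id_comp, Category.id_comp, Category.id_comp]
  rw [HomologicalComplex.add_f_apply, Functor.map_add, Preadditive.add_comp]

theorem whiskerLeft_smul_cx (r : R) (f : X ⟶ Y) : K ◁ (r • f) = r • (K ◁ f) := by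
  refine HomologicalComplex.hom_ext _ _ fun n => mapBifunctor.hom_ext fun p q h => ?_
  erw [HomologicalComplex.smul_f_apply, Linear.comp_smul, ι_mapBifunctorMap, ι_mapBifunctorMap]
  simp only [HomologicalComplex.id_f, CategoryTheory.Functor.map_id]
  erw [Category.id_comp, Category.id_comp]
  rw [HomologicalComplex.smul_f_apply, show ((curriedTensor (ModuleCat.{u} R)).obj (K.X p)).map (r • f.f q) =
    r • ((curriedTensor (ModuleCat.{u} R)).obj (K.X p)).map (f.f q) from MonoidalLinear.whiskerLeft_smul _ _ _,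
    Linear.smul_comp]

variable {F D : DRing.Cx R} [ExactPairing F D] {M : DRing.Cx R}

theorem homEquiv_add (f g : D ⊗ X ⟶ M) :
    tensorLeftHomEquiv X F D M (f + g) = tensorLeftHomEquiv X F D M f + tensorLeftHomEquiv X F D M g := by
  simp [tensorLeftHomEquiv, whiskerLeft_add_cx]

theorem homEquiv_smul (r : R) (f : D ⊗ X ⟶ M) :
    tensorLeftHomEquiv X F D M (r • f) = r • tensorLeftHomEquiv X F D M f := by
  simp [tensorLeftHomEquiv, whiskerLeft_smul_cx]

/-- transposition in the derived category -/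
theorem exists_transpose [X.IsKProjective] [(D ⊗ X).IsKProjective] (hF : DRing.IsKFlat R F)
    (hD : DRing.IsKFlat R D) :
    Nonempty ((DerivedCategory.Q.obj (D ⊗ X) ⟶ DerivedCategory.Q.obj M) ≃ₗ[R]
      (DerivedCategory.Q.obj X ⟶ DerivedCategory.Q.obj (F ⊗ M))) := by
  choose lift hlift using fun v : DerivedCategory.Q.obj (D ⊗ X) ⟶ DerivedCategory.Q.obj M =>
    PerfLocal.exists_lift (R := R) v
  let T := fun v => DerivedCategory.Q.map (tensorLeftHomEquiv X F D M (lift v))
  have hT : ∀ f, T (DerivedCategory.Q.map f) = DerivedCategory.Q.map (tensorLeftHomEquiv X F D M f) := fun f =>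
    homEquiv_Q_congr hF (hlift _)
  refine ⟨LinearEquiv.ofBijective
    { toFun := T
      map_add' := fun v w => ?_
      map_smul' := fun r v => ?_ } ⟨fun v w h => ?_, fun y => ?_⟩⟩
  · conv_lhs => rw [← hlift v, ← hlift w, ← Functor.map_add, hT, homEquiv_add, Functor.map_add]
  · conv_lhs => rw [← hlift v, ← Functor.map_smul, hT, homEquiv_smul, Functor.map_smul]
    rfl
  · have := homEquiv_symm_Q_congr hD h
    rw [Equiv.symm_apply_apply, Equiv.symm_apply_apply, hlift, hlift] at this
    exact this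
  · obtain ⟨g, rfl⟩ := PerfLocal.exists_lift (R := R) y
    exact ⟨DerivedCategory.Q.map ((tensorLeftHomEquiv X F D M).symm g), (hT _).trans (by rw [Equiv.apply_symm_apply])⟩

end Linear

section Rep

variable {R A : Type u} [CommRing R] [CommRing A] (φ : R →+* A)

/-- restricted to the base, the dualizing object is a dual of `A` -/
theorem exists_rep (hperf : letI := φ.toAlgebra; DRing.IsPerfectModule R A) {W : DRing.Cx A} (k : ℤ)
    (h : RA φ (DerivedCategory.Q.obj W) (DerivedCategory.Q.obj (freeAt R k))) :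
    ∃ (d : PerfData φ), (d.D ⊗ freeAt R k).IsKProjective ∧
      Nonempty (DerivedCategory.Q.obj ((DTen.resCx φ).obj W) ≅ DerivedCategory.Q.obj (d.D ⊗ freeAt R k)) := by
  obtain ⟨d⟩ := exists_perfData φ hperf
  letI := d.pair
  haveI := d.hα
  obtain ⟨J, f, hJ, hf, -, -⟩ := KInj.exists_kInjective (freeAt R k)
  haveI := hJ
  haveI := hf
  obtain ⟨c₀, hc₀⟩ := RA.of_iso h (Iso.refl _) (asIso (DerivedCategory.Q.map f))
  obtain ⟨c, hc⟩ := exists_lift_kInj ((DTen.resFactors φ).inv.app W ≫ c₀)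
  have hcQ : cQ φ c = c₀ := by rw [cQ, hc, Iso.hom_inv_id_app_assoc]
  haveI := quasiIso_flatCx (D := d.D) φ d.α c d.hF d.hD d.hFS (hcQ ▸ hc₀)
  haveI : QuasiIso (d.D ◁ f) := DTenLib.isKFlat_comm d.hD f (show QuasiIso f from inferInstance)
  exact ⟨d, DRingKP.isKProjective_of_finiteProjective (-d.a + k)
    (fun i hi => DRingKP.tensor_vanishes i fun p q hpq => by
      by_cases hp : -d.a < p
      · exact Or.inl (d.hzeroD p (Or.inr hp))
      · exact Or.inr (vanishesAbove_freeAt k q (by lia)))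
    (DRingKP.tensor_finiteProjective (b := -d.a) (c := k) (fun i hi => d.hzeroD i (Or.inr hi))
      (vanishesAbove_freeAt k) d.hprojD (termwiseFiniteProjective_freeAt k)),
    ⟨asIso (DerivedCategory.Q.map (flatCx (D := d.D) φ d.α c)) ≪≫ (asIso (DerivedCategory.Q.map (d.D ◁ f))).symm⟩⟩

theorem resD_smul' {X Y : Dual.D A} (p : R) (v : X ⟶ Y) :
    (DRing.restrictD φ).map (φ p • v) = p • (DRing.restrictD φ).map v := by
  letI := φ.toAlgebra
  exact DualCx.resD_smul (A := R) p v

/-- `a ↦ a • 𝟙` is bijective on `RHom_R(A, R[n])`, and it has no self-extensions. -/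
theorem end_self (hφ : Function.Surjective φ) (hperf : letI := φ.toAlgebra; DRing.IsPerfectModule R A)
    {W : Dual.D A} (n : ℤ) (h : RA φ W ((Dual.inD R R)⟦n⟧)) :
    Function.Bijective (fun a : A => a • 𝟙 W) ∧ ∀ i : ℤ, i ≠ 0 → Subsingleton (W ⟶ W⟦i⟧) := by
  letI := φ.toAlgebra
  let W₀ := DerivedCategory.Q.objPreimage W
  let eW := DerivedCategory.Q.objObjPreimageIso W
  obtain ⟨d, hproj, ⟨e⟩⟩ := exists_rep φ hperf (W := W₀) (-n) (RA.of_iso h eW.symm (freeShiftIso R n).symm)
  letI := d.pair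
  haveI := hproj
  haveI := d.hα
  letI := DTenLib.braidedCx (A := R)
  letI : ExactPairing d.F d.D := BraidedCategory.exactPairing_swap d.D d.F
  have hmain : ∀ i : ℤ, ∃ T : (W ⟶ W⟦i⟧) → DualCx.T (Dual.inD R A) R i, Function.Bijective T ∧
      (∀ v w, T (v + w) = T v + T w) ∧ ∀ (p : R) v, T (φ p • v) = p • T v := fun i => by
    obtain ⟨c, hc⟩ := h.shift i
    let X := DerivedCategory.Q.obj (freeAt R (-n))
    let eS : (Dual.inD R R)⟦n⟧⟦i⟧ ≅ DerivedCategory.Q.obj (freeAt R (-(n + i))) :=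
      ((shiftFunctorAdd' (Dual.D R) n i (n + i) rfl).app _).symm ≪≫ (freeShiftIso R (n + i)).symm
    let eR : (DRing.restrictD φ).obj W ≅ DerivedCategory.Q.obj (d.D ⊗ freeAt R (-n)) :=
      (DRing.restrictD φ).mapIso eW.symm ≪≫ (DTen.resFactors φ).app W₀ ≪≫ e
    obtain ⟨Φ⟩ := exists_transpose (F := d.F) (D := d.D) (X := freeAt R (-n)) (M := freeAt R (-(n + i))) d.hF d.hD
    obtain ⟨eF⟩ := nonempty_freeAt_tensor R (n + i) d.F
    obtain ⟨eA⟩ : Nonempty (DerivedCategory.Q.obj d.F ≅ Dual.inD R A) := by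
      let iA : (ModuleCat.restrictScalars φ).obj (ModuleCat.of A A) ≅ ModuleCat.of R A :=
        LinearEquiv.toModuleIso
          { toFun := fun x => x, invFun := fun x => x, map_add' := fun _ _ => rfl,
            map_smul' := fun r x => (Algebra.smul_def (A := A) r x).symm,
            left_inv := fun _ => rfl, right_inv := fun _ => rfl }
      exact ⟨asIso (DerivedCategory.Q.map d.α) ≪≫ DerivedCategory.Q.mapIso
        ((HomologicalComplex.singleMapHomologicalComplex (ModuleCat.restrictScalars.{u} φ) (ComplexShape.up ℤ) 0).app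
          (ModuleCat.of A A) ≪≫ (HomologicalComplex.single _ _ 0).mapIso iA) ≪≫
        ((DerivedCategory.singleFunctorIsoCompQ (ModuleCat.{u} R) 0).app (ModuleCat.of R A)).symm⟩
    let eT : DerivedCategory.Q.obj (d.F ⊗ freeAt R (-(n + i))) ≅ ((Dual.inD R A)⟦i⟧)⟦n⟧ :=
      DerivedCategory.Q.mapIso (β_ _ _) ≪≫ eF ≪≫ (shiftFunctor _ (n + i)).mapIso eA ≪≫
        (shiftFunctorAdd' (Dual.D R) i n (n + i) (add_comm i n)).app _
    let s : ((Dual.inD R R) ⟶ (Dual.inD R A)⟦i⟧) ≃ₗ[R]
        ((Dual.inD R R)⟦n⟧ ⟶ ((Dual.inD R A)⟦i⟧)⟦n⟧) :=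
      LinearEquiv.ofBijective
        { toFun := fun v => v⟦n⟧', map_add' := fun v w => Functor.map_add _, map_smul' := fun r v => Functor.map_smul _ r v }
        ((Functor.FullyFaithful.ofFullyFaithful (shiftFunctor (Dual.D R) n)).map_bijective _ _)
    let rest := (Linear.homCongr R eR eS).trans (Φ.trans
      ((Linear.homCongr R (freeShiftIso R n) eT).trans s.symm))
    refine ⟨fun v => rest (tr φ c W v), rest.bijective.comp (hc W), fun v w => ?_, fun p v => ?_⟩
    · show rest (tr φ c W (v + w)) = _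
      rw [← map_add]
      congr 1
      simp [tr]
    · show rest (tr φ c W (φ p • v)) = _
      rw [← map_smul]
      congr 1
      rw [tr, resD_smul', Linear.smul_comp]
      rfl
  refine ⟨?_, fun i hi => ?_⟩
  · obtain ⟨T, hT, hTadd, hTsmul⟩ := hmain 0
    let Z := Dual.inD R A
    let eH : DualCx.T Z R 0 ≃ₗ[R] A := (DualCx.homEquiv Z 0).trans
      ((DerivedCategory.singleFunctorCompHomologyFunctorIso (ModuleCat.{u} R) 0).app (ModuleCat.of R A)).toLinearEquiv
    let T' : (W ⟶ W⟦(0 : ℤ)⟧) → A := fun v => eH (T v)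
    have hT' : Function.Bijective T' := eH.bijective.comp hT
    have hlin : ∀ (a : A) v, T' (a • v) = a * T' v := fun a v => by
      obtain ⟨p, rfl⟩ := hφ a
      show eH (T _) = _
      rw [hTsmul, map_smul]
      exact Algebra.smul_def p _
    let z := (shiftFunctorZero (Dual.D A) ℤ).app W
    obtain ⟨g, hg⟩ := hT'.2 1
    have hgen : ∀ v : W ⟶ W⟦(0 : ℤ)⟧, v = T' v • g := fun v => hT'.1 (by rw [hlin, hg, mul_one])
    let g0 : W ⟶ W := g ≫ z.hom
    have hgen0 : ∀ v : W ⟶ W, v = T' (v ≫ z.inv) • g0 := fun v => by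
      rw [← cancel_mono z.inv, Linear.smul_comp, Category.assoc, Iso.hom_inv_id, Category.comp_id]
      exact hgen _
    have huv : T' (𝟙 W ≫ z.inv) * T' ((g0 ≫ g0) ≫ z.inv) = 1 := by
      have h1 : g0 = (T' (𝟙 W ≫ z.inv) * T' ((g0 ≫ g0) ≫ z.inv)) • g0 := by
        conv_lhs => rw [← Category.id_comp g0, hgen0 (𝟙 W), Linear.smul_comp, hgen0 (g0 ≫ g0), smul_smul]
      have h2 := congrArg (fun v => T' (v ≫ z.inv)) h1
      simp only [Linear.smul_comp, hlin] at h2
      rw [Category.assoc, Iso.hom_inv_id, Category.comp_id, hg, mul_one] at h2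
      exact h2.symm
    refine ⟨fun a b hab => ?_, fun v => ?_⟩
    · have h1 : T' ((a • 𝟙 W) ≫ z.inv) = T' ((b • 𝟙 W) ≫ z.inv) := congrArg (fun w => T' (w ≫ z.inv)) hab
      rw [Linear.smul_comp, Linear.smul_comp, hlin, hlin] at h1
      exact (IsUnit.of_mul_eq_one _ huv).mul_right_cancel h1
    · refine ⟨T' (v ≫ z.inv) * T' ((g0 ≫ g0) ≫ z.inv), ?_⟩
      show _ • 𝟙 W = v
      rw [hgen0 (𝟙 W), smul_smul, mul_assoc, mul_comm (T' ((g0 ≫ g0) ≫ z.inv)), huv, mul_one]
      exact (hgen0 v).symm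
  · obtain ⟨T, hT, -, -⟩ := hmain i
    haveI : Subsingleton (Dual.HD R (Dual.inD R A) i) := by
      refine ModuleCat.subsingleton_of_isZero ?_
      rcases lt_or_gt_of_ne hi with hi' | hi'
      · exact DerivedCategory.isZero_of_isGE _ 0 i hi'
      · exact DerivedCategory.isZero_of_isLE _ 0 i hi'
    haveI : Subsingleton (DualCx.T (Dual.inD R A) R i) := (DualCx.homEquiv _ _).toEquiv.subsingleton
    exact hT.1.subsingleton

end Rep

end

end Groth.Agent.Shriek
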