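import Groth.Agent.Shriek.Uniq
import Groth.Agent.Shriek.EndSelf

/-!
Consequences of uniqueness.
-/

set_option autoImplicit false
set_option linter.style.haveILetI false
set_option maxHeartbeats 1000000
set_option backward.isDefEq.respectTransparency false
universe u

namespace Groth.Agent.Shriek

open CategoryTheory CategoryTheory.Limits MonoidalCategory TensorProduct

attribute [local instance] HasDerivedCategory.standard

noncomputable section

variable (R A : Type u) [CommRing R] [CommRing A] [Algebra R A] [Module.Flat R A] [Algebra.FinitePresentation R A]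

theorem exists_shr_self : ∃ (n : ℕ) (ψ : MvPolynomial (Fin n) R →ₐ[R] A) (W : Dual.D A),
    Function.Surjective ψ ∧ Shr ψ W (Dual.inD R R) := by
  obtain ⟨n, ψ, hψ, -⟩ := (inferInstance : Algebra.FinitePresentation R A).out
  obtain ⟨W, hW⟩ := RA.exists_of ψ.toRingHom (((polyD R n).obj (Dual.inD R R))⟦(n : ℤ)⟧)
  exact ⟨n, ψ, W, hψ, hW⟩

variable {R A} [DRing.HasLBaseChange (Algebra.TensorProduct.includeLeftRingHom : A →+* A ⊗[R] A)]

/-- A relative dualizing complex computes the upper shriek along any presentation. -/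
theorem shr_of_isRelDualizing {n : ℕ} {ψ : MvPolynomial (Fin n) R →ₐ[R] A} (hψ : Function.Surjective ψ)
    (Rμ : Dual.D (A ⊗[R] A) ⥤ Dual.D A)
    (adjμ : DRing.restrictD (Algebra.TensorProduct.lmul' R (S := A)).toRingHom ⊣ Rμ) {K : Dual.D A}
    (hK : Dual2.IsRelDualizing R A Rμ K) : Shr ψ K (Dual.inD R R) := by
  obtain ⟨W, hW⟩ := RA.exists_of ψ.toRingHom (((polyD R n).obj (Dual.inD R R))⟦(n : ℤ)⟧)
  obtain ⟨e⟩ := nonempty_iso_of_isRelDualizing hψ (W := W) hW Rμ adjμ hK
  exact RA.of_iso hW e.symm (Iso.refl _)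

theorem Shr.end_self' {n : ℕ} {ψ : MvPolynomial (Fin n) R →ₐ[R] A} (hψ : Function.Surjective ψ) {W : Dual.D A}
    (h : Shr ψ W (Dual.inD R R)) :
    Function.Bijective (fun a : A => a • 𝟙 W) ∧ ∀ i : ℤ, i ≠ 0 → Subsingleton (W ⟶ W⟦i⟧) := by
  obtain ⟨eP⟩ := polyD_self R n
  exact end_self ψ.toRingHom hψ (isPerfectModule_pres ψ hψ) (n : ℤ)
    (RA.of_iso h (Iso.refl _) ((shiftFunctor _ (n : ℤ)).mapIso eP))

end

end Groth.Agent.Shriek
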