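import Groth.Agent.Shriek.Comp
import Groth.Agent.Shriek.BCShr
import Groth.Agent.Shriek.SelfProps

/-!
Composition of upper shrieks of flat algebras of finite presentation.
-/

set_option autoImplicit false
set_option linter.style.haveILetI false
set_option maxHeartbeats 1000000
set_option backward.isDefEq.respectTransparency false
universe u

namespace Groth.Agent.Shriek

open CategoryTheory CategoryTheory.Limits MonoidalCategory
open Groth.Agent.DualCx (locD)

attribute [local instance] HasDerivedCategory.standard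
attribute [local instance] MvPolynomial.algebraMvPolynomial

noncomputable section

variable {R A : Type u} [CommRing R] [CommRing A] [Algebra R A] [Module.Flat R A] [Algebra.FinitePresentation R A]

theorem Shr.baseChange_poly_flat {n : ℕ} {ψ : MvPolynomial (Fin n) R →ₐ[R] A} (hψ : Function.Surjective ψ)
    {W : DRing.Cx A} (hW : DRing.IsKFlat A W) (h : Shr ψ (DerivedCategory.Q.obj W) (Dual.inD R R)) (m : ℕ) :
    letI := ψ.toRingHom.toAlgebra
    RA (MvPolynomial.map ψ.toRingHom : MvPolynomial (Fin m) (MvPolynomial (Fin n) R) →+* MvPolynomial (Fin m) A)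
      ((locD (algebraMap A (MvPolynomial (Fin m) A))).obj (DerivedCategory.Q.obj W))
      ((locD (algebraMap (MvPolynomial (Fin n) R) (MvPolynomial (Fin m) (MvPolynomial (Fin n) R)))).obj
        (((polyD R n).obj (Dual.inD R R))⟦(n : ℤ)⟧)) := by
  let P := MvPolynomial (Fin n) R
  let P' := MvPolynomial (Fin m) P
  letI : Algebra P A := ψ.toRingHom.toAlgebra
  haveI : IsScalarTower R P A := IsScalarTower.of_algebraMap_eq fun r => (ψ.commutes r).symm
  letI : Algebra P' (MvPolynomial (Fin m) A) := MvPolynomial.algebraMvPolynomial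
  have hP : (algebraMap R P).Flat := RingHom.flat_algebraMap_iff.2 inferInstance
  have hA : (algebraMap R A).Flat := RingHom.flat_algebraMap_iff.2 ‹_›
  rw [shr_self_iff] at h
  haveI : Algebra.IsPushout R (MvPolynomial (Fin m) R) P P' :=
    (inferInstance : Algebra.IsPushout R P (MvPolynomial (Fin m) R) P').symm
  haveI : Algebra.IsPushout P P' A (MvPolynomial (Fin m) A) :=
    (inferInstance : Algebra.IsPushout P A P' (MvPolynomial (Fin m) A)).symm
  have key := RA.baseChange_perfect R (MvPolynomial (Fin m) R) (P := P) (P' := P') (A := A)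
    (A' := MvPolynomial (Fin m) A) hP hA (isPerfectModule_pres ψ hψ) hW _ h
  haveI := DualCx.preservesFiniteLimits_ext (A := A) (B := MvPolynomial (Fin m) A)
  haveI := DualCx.preservesFiniteLimits_ext (A := P) (B := P')
  obtain ⟨eP⟩ := polyD_self R n
  refine RA.of_iso key (DualCx.locQ (algebraMap A (MvPolynomial (Fin m) A)) W).symm ?_
  exact DerivedCategory.Q.mapIso (extFreeIso (algebraMap P P') (-(n : ℤ))).symm ≪≫
    (DualCx.locQ (algebraMap P P') _).symm ≪≫
    (locD (algebraMap P P')).mapIso (freeShiftIso P (n : ℤ) ≪≫ (shiftFunctor _ (n : ℤ)).mapIso eP.symm)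

theorem Shr.comp_flat {B : Type u} [CommRing B] [Algebra A B] [Algebra R B] [IsScalarTower R A B] [Module.Flat A B]
    [Algebra.FinitePresentation A B] {n : ℕ} {ψ : MvPolynomial (Fin n) R →ₐ[R] A} (hψ : Function.Surjective ψ)
    {C : DRing.Cx A} (hC : DRing.IsKFlat A C) (h : Shr ψ (DerivedCategory.Q.obj C) (Dual.inD R R))
    {m : ℕ} {χ : MvPolynomial (Fin m) A →ₐ[A] B} (hχ : Function.Surjective χ) {L : DRing.Cx B}
    (hL : Shr χ (DerivedCategory.Q.obj L) (Dual.inD A A)) :
    ∃ (k : ℕ) (θ : MvPolynomial (Fin k) R →ₐ[R] B), Function.Surjective θ ∧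
      Shr θ (DerivedCategory.Q.obj (L ⊗ (DTen.extCx (algebraMap A B)).obj C)) (Dual.inD R R) := by
  have h' := Shr.tensor (isPerfectModule_pres χ hχ) hL hC
  let χ' : MvPolynomial (Fin m) (MvPolynomial (Fin n) R) →ₐ[R] B :=
    { χ.toRingHom.comp (MvPolynomial.map ψ.toRingHom) with
      commutes' := fun r => by
        show χ (MvPolynomial.map ψ.toRingHom (MvPolynomial.C (MvPolynomial.C r))) = _
        rw [MvPolynomial.map_C]
        show χ (algebraMap A (MvPolynomial (Fin m) A) (ψ (algebraMap R (MvPolynomial (Fin n) R) r))) = _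
        rw [χ.commutes, ψ.commutes, ← IsScalarTower.algebraMap_apply] }
  refine Shr.of_iterate χ' (hχ.comp (MvPolynomial.map_surjective ψ.toRingHom hψ)) ?_
  let P := MvPolynomial (Fin n) R
  obtain ⟨ec⟩ := DualFlat.nonempty_locD_comp (algebraMap R P) (algebraMap P (MvPolynomial (Fin m) P))
    (algebraMap R (MvPolynomial (Fin m) P)) (IsScalarTower.algebraMap_eq _ _ _).symm (Dual.inD R R)
  refine RA.of_iso (RA.comp ((Shr.baseChange_poly_flat hψ hC h m).shift (m : ℤ)) h' _ rfl) (Iso.refl _) ?_
  exact (shiftFunctor _ (m : ℤ)).mapIso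
      (((locD (algebraMap P (MvPolynomial (Fin m) P))).commShiftIso (n : ℤ)).app _ ≪≫
        (shiftFunctor _ (n : ℤ)).mapIso ec) ≪≫
    ((shiftFunctorAdd' (Dual.D (MvPolynomial (Fin m) P)) (n : ℤ) (m : ℤ) ((n + m : ℕ) : ℤ) (by lia)).app _).symm

end

end Groth.Agent.Shriek
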