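import Groth.Agent.Shriek.BCShr
import Mathlib.AlgebraicGeometry.Morphisms.Flat
import Mathlib.AlgebraicGeometry.Morphisms.OpenImmersion

/-!
The upper shriek of an affine open immersion is the restriction.
-/

set_option autoImplicit false
set_option linter.style.haveILetI false
set_option maxHeartbeats 1000000
set_option backward.isDefEq.respectTransparency false
universe u

namespace Groth.Agent.Shriek

open CategoryTheory CategoryTheory.Limits MonoidalCategory TensorProduct

attribute [local instance] HasDerivedCategory.standard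

noncomputable section

variable {R A : Type u} [CommRing R] [CommRing A] [Algebra R A]

theorem Shr.of_epi [Module.Flat R A] [Algebra.FinitePresentation R A]
    (hepi : (Algebra.TensorProduct.includeLeftRingHom : A →+* A ⊗[R] A) =
      (Algebra.TensorProduct.includeRight : A →ₐ[R] A ⊗[R] A).toRingHom)
    {n : ℕ} {ψ : MvPolynomial (Fin n) R →ₐ[R] A} (hψ : Function.Surjective ψ)
    [DRing.HasLBaseChange (algebraMap R A)] {V : Dual.D A} {K : Dual.D R} (hV : Shr ψ V K) :
    Nonempty (V ≅ (DRing.LBaseChange (algebraMap R A)).obj K) := by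
  let P := MvPolynomial (Fin n) R
  obtain ⟨W₀, hW0⟩ := RA.exists_of ψ.toRingHom (((polyD R n).obj (Dual.inD R R))⟦(n : ℤ)⟧)
  obtain ⟨W, hW, ⟨eW⟩⟩ := DTenLib.exists_kFlat_rep W₀
  obtain ⟨C, hC, ⟨eC⟩⟩ := DTenLib.exists_kFlat_rep K
  have h1 : Shr ψ (DerivedCategory.Q.obj W) (Dual.inD R R) := RA.of_iso hW0 eW.symm (Iso.refl _)
  obtain ⟨e⟩ := RA.unique hV (RA.of_iso (Shr.tensor (isPerfectModule_pres ψ hψ) h1 hC)
    (Iso.refl _) ((shiftFunctor _ (n : ℤ)).mapIso ((polyD R n).mapIso eC)))
  let A' := A ⊗[R] A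
  let ir : A →+* A' := (Algebra.TensorProduct.includeRight : A →ₐ[R] A ⊗[R] A).toRingHom
  let μ : A' →+* A := (Algebra.TensorProduct.lmul' R (S := A)).toRingHom
  have h₂ : μ.comp ir = RingHom.id A := RingHom.ext fun a => by
    show Algebra.TensorProduct.lmul' R (S := A) ((1 : A) ⊗ₜ[R] a) = a
    simp
  have h₁ : ir.comp μ = RingHom.id A' := RingHom.ext fun z => by
    show ir (μ z) = z
    induction z using TensorProduct.induction_on with
    | zero => simp
    | add x y hx hy => rw [map_add, map_add, hx, hy]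
    | tmul a b =>
      have ha : (1 : A) ⊗ₜ[R] a = a ⊗ₜ[R] (1 : A) := (RingHom.congr_fun hepi a).symm
      show (1 : A) ⊗ₜ[R] (Algebra.TensorProduct.lmul' R (S := A) (a ⊗ₜ[R] b)) = a ⊗ₜ[R] b
      rw [Algebra.TensorProduct.lmul'_apply_tmul, show (1 : A) ⊗ₜ[R] (a * b) = ((1 : A) ⊗ₜ[R] a) * ((1 : A) ⊗ₜ[R] b) by
        rw [Algebra.TensorProduct.tmul_mul_tmul, one_mul], ha, Algebra.TensorProduct.tmul_mul_tmul, one_mul, mul_one]
  haveI := preservesFiniteLimits_of_flat ir (flat_of_inverse ir μ h₂ h₁)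
  let C' := (DTen.extCx (algebraMap R A)).obj C
  have hC' : DRing.IsKFlat A C' := KFlat.isKFlat_extendScalars (algebraMap R A) hC
  have h2 := Shr.tensor (isPerfectModule_pres (bcPres (R' := A) ψ) (bcPres_surjective hψ))
    (Shr.baseChange_self (R' := A) hψ hW h1) hC'
  let eX : (DualCx.locD ir).obj (DerivedCategory.Q.obj (W ⊗ (DTen.extCx (algebraMap R A)).obj C)) ≅
      DerivedCategory.Q.obj ((DTen.extCx ir).obj W ⊗ (DTen.extCx (algebraMap A A')).obj C') :=
    DualCx.locQ ir _ ≪≫ DerivedCategory.Q.mapIso (DTen.extTenCxIso ir W ((DTen.extCx (algebraMap R A)).obj C) ≪≫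
      whiskerLeftIso _ (extComp (algebraMap R A) ir (algebraMap R A')
        (Algebra.TensorProduct.includeRight : A →ₐ[R] A ⊗[R] A).comp_algebraMap C ≪≫
          (extComp (algebraMap R A) (algebraMap A A') (algebraMap R A')
            (IsScalarTower.algebraMap_eq R A A').symm C).symm))
  have hcomp : μ.comp (bcPres (R' := A) ψ).toRingHom = MvPolynomial.eval fun i => ψ (MvPolynomial.X i) := by
    refine MvPolynomial.ringHom_ext (fun a => ?_) fun i => ?_
    · show Algebra.TensorProduct.lmul' R (S := A) (bcPres (R' := A) ψ (MvPolynomial.C a)) = _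
      rw [bcPres, MvPolynomial.aeval_C, MvPolynomial.eval_C, Algebra.TensorProduct.algebraMap_apply]
      simp
    · show Algebra.TensorProduct.lmul' R (S := A) (bcPres (R' := A) ψ (MvPolynomial.X i)) = _
      rw [bcPres, MvPolynomial.aeval_X, MvPolynomial.eval_X]
      simp
  have h3 := RA.of_ringIso μ ir h₁ h₂ (DerivedCategory.Q.obj (W ⊗ (DTen.extCx (algebraMap R A)).obj C))
  obtain ⟨eK⟩ := RA.unique (RA.comp h2 (RA.of_iso h3 (Iso.refl _) eX) _ hcomp)
    (RA.eval A n (fun i => ψ (MvPolynomial.X i)) (DerivedCategory.Q.obj C'))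
  exact ⟨e ≪≫ eK ≪≫ (lbcKFlatIso (algebraMap R A) hC).symm ≪≫ (DRing.LBaseChange (algebraMap R A)).mapIso eC⟩

theorem epi_of_isOpenImmersion
    (h : AlgebraicGeometry.IsOpenImmersion (AlgebraicGeometry.Spec.map (CommRingCat.ofHom (algebraMap R A)))) :
    (Algebra.TensorProduct.includeLeftRingHom : A →+* A ⊗[R] A) =
      (Algebra.TensorProduct.includeRight : A →ₐ[R] A ⊗[R] A).toRingHom := by
  haveI := h
  have h2 : (Algebra.TensorProduct.includeLeftRingHom : A →+* A ⊗[R] A).comp (algebraMap R A) =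
      (Algebra.TensorProduct.includeRight : A →ₐ[R] A ⊗[R] A).toRingHom.comp (algebraMap R A) :=
    (IsScalarTower.algebraMap_eq R A (A ⊗[R] A)).symm.trans
      (Algebra.TensorProduct.includeRight : A →ₐ[R] A ⊗[R] A).comp_algebraMap.symm
  have h1 := (cancel_mono (AlgebraicGeometry.Spec.map (CommRingCat.ofHom (algebraMap R A)))).1
    (show AlgebraicGeometry.Spec.map (CommRingCat.ofHom
          (Algebra.TensorProduct.includeLeftRingHom : A →+* A ⊗[R] A)) ≫ _ =
        AlgebraicGeometry.Spec.map (CommRingCat.ofHom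
          (Algebra.TensorProduct.includeRight : A →ₐ[R] A ⊗[R] A).toRingHom) ≫ _ by
      rw [← AlgebraicGeometry.Spec.map_comp, ← AlgebraicGeometry.Spec.map_comp, ← CommRingCat.ofHom_comp,
        ← CommRingCat.ofHom_comp, h2])
  exact congrArg CommRingCat.Hom.hom (AlgebraicGeometry.Spec.map_injective h1)

end

end Groth.Agent.Shriek
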