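import Groth.Agent.Shriek.BaseChange
import Groth.Agent.Shriek.Indep
import Mathlib.RingTheory.AdjoinRoot
import Mathlib.RingTheory.TensorProduct.MvPolynomial

/-!
The upper shriek of a finite map.
-/

set_option autoImplicit false
set_option linter.style.haveILetI false
set_option maxHeartbeats 1000000
universe u

namespace Groth.Agent.Shriek

open CategoryTheory CategoryTheory.Limits DerivedCategory MvPolynomial
open Groth.Agent.DualCx

attribute [local instance] HasDerivedCategory.standard

noncomputable section

/-- A finite algebra is a quotient of a finite free one. -/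
theorem exists_free_cover (R A : Type u) [CommRing R] [CommRing A] [Algebra R A] [Module.Finite R A] (s : Finset A) :
    ∃ (B₀ : Type u) (_ : CommRing B₀) (_ : Algebra R B₀) (_ : Module.Free R B₀) (_ : Module.Finite R B₀)
      (q : B₀ →ₐ[R] A), ∀ x ∈ s, x ∈ q.range := by
  classical
  induction s using Finset.induction_on with
  | empty => exact ⟨R, inferInstance, inferInstance, inferInstance, inferInstance, Algebra.ofId R A, by simp⟩
  | insert a s _ ih =>
    obtain ⟨B₀, _, _, _, _, q, hq⟩ := ih
    obtain ⟨p, hp, hpa⟩ : IsIntegral R a := IsIntegral.of_finite R a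
    let f : Polynomial B₀ := p.map (algebraMap R B₀)
    have hf : f.Monic := hp.map _
    haveI : Module.Free B₀ (AdjoinRoot f) := Module.Free.of_basis (AdjoinRoot.powerBasis' hf).basis
    haveI : Module.Finite B₀ (AdjoinRoot f) := Module.Finite.of_basis (AdjoinRoot.powerBasis' hf).basis
    have h0 : f.eval₂ q.toRingHom a = 0 := by
      rw [Polynomial.eval₂_map, show q.toRingHom.comp (algebraMap R B₀) = algebraMap R A from q.comp_algebraMap]
      exact hpa
    let l : AdjoinRoot f →ₐ[R] A :=
      { AdjoinRoot.lift q.toRingHom a h0 with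
        commutes' := fun r => by
          show AdjoinRoot.lift q.toRingHom a h0 (algebraMap R (AdjoinRoot f) r) = _
          rw [IsScalarTower.algebraMap_apply R B₀ (AdjoinRoot f), AdjoinRoot.algebraMap_eq, AdjoinRoot.lift_of]
          exact q.commutes r }
    refine ⟨AdjoinRoot f, inferInstance, inferInstance, Module.Free.trans (S := B₀),
      Module.Finite.trans B₀ (AdjoinRoot f), l, fun x hx => ?_⟩
    rcases Finset.mem_insert.1 hx with rfl | hx
    · exact ⟨AdjoinRoot.root f, AdjoinRoot.lift_root h0⟩
    · obtain ⟨y, rfl⟩ := hq x hx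
      exact ⟨AdjoinRoot.of f y, AdjoinRoot.lift_of h0⟩

variable {R : Type u} [CommRing R]

theorem psi_bijective_self (T : Type u) [CommRing T] [Algebra R T] [Module.Flat R T] (L : Dual.D R) (i : ℤ) :
    Function.Bijective (psi T ((Dual.inD R R)⟦i⟧) L) :=
  psi_bijective_of_bT T (DualFlat.bT_bijective_self T L) i

theorem psi_bijective_res (T : Type u) [CommRing T] [Algebra R T] [Module.Flat R T] (B : Type u) [CommRing B]
    [Algebra R B] (L : Dual.D R) (h : ∀ j : ℤ, Function.Bijective (DualFlat.bT T L B j)) (i : ℤ) :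
    Function.Bijective (psi T ((DRing.restrictD (algebraMap R B)).obj ((Dual.inD B B)⟦i⟧)) L) :=
  psi_bijective_congr T
    (((DRing.restrictD (algebraMap R B)).commShiftIso i).app (Dual.inD B B) ≪≫ (shiftFunctor (Dual.D R) i).mapIso
      (((DualCx.res R B).mapDerivedCategorySingleFunctor 0).app (ModuleCat.of B B) ≪≫
        (DerivedCategory.singleFunctor (ModuleCat.{u} R) 0).mapIso (DualCx.resSelf (A := R) (B := B)))).symm
    (Iso.refl L) (psi_bijective_of_bT T h i)

variable {A : Type u} [CommRing A] [Algebra R A]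

/-- For a finite map the upper shriek is the right adjoint of restriction. -/
theorem Shr.of_finite [Module.Finite R A] {W : Dual.D A} {K : Dual.D R} (h : RA (algebraMap R A) W K) :
    ∃ (n : ℕ) (ψ : MvPolynomial (Fin n) R →ₐ[R] A), Function.Surjective ψ ∧ Shr ψ W K := by
  classical
  obtain ⟨G, hG⟩ := Module.finite_def.1 (inferInstance : Module.Finite R A)
  obtain ⟨B₀, _, _, _, _, q, hq⟩ := exists_free_cover R A G
  let n := G.card
  let a : Fin n → A := fun i => (G.equivFin.symm i : A)
  choose b hb using fun i : Fin n => hq (a i) (G.equivFin.symm i).2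
  refine ⟨n, MvPolynomial.aeval a, ?_, ?_⟩
  · rw [← AlgHom.range_eq_top, eq_top_iff]
    intro x _
    have hx : x ∈ Submodule.span R (G : Set A) := hG.symm ▸ Submodule.mem_top
    refine (Submodule.span_le (p := Subalgebra.toSubmodule (MvPolynomial.aeval a).range)).2 ?_ hx
    intro y hy
    exact ⟨MvPolynomial.X (G.equivFin ⟨y, hy⟩), by simp [a]⟩
  obtain ⟨W₀, h₀⟩ := RA.exists_of (algebraMap R B₀) K
  obtain ⟨W₁, h₁⟩ := RA.exists_of q.toRingHom W₀
  obtain ⟨eW⟩ := RA.unique (RA.comp h₀ h₁ (algebraMap R A) q.comp_algebraMap) h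
  letI : Algebra (MvPolynomial (Fin n) R) (MvPolynomial (Fin n) B₀) := MvPolynomial.algebraMvPolynomial
  have hb1 := RA.baseChange (T := MvPolynomial (Fin n) R) (T' := MvPolynomial (Fin n) B₀) h₀
    (fun i => (psi_bijective_self (R := B₀) (MvPolynomial (Fin n) B₀) W₀ i).2)
    (fun i => psi_bijective_res (MvPolynomial (Fin n) R) B₀ K (fun j => DualFlat.bT_bijective_congr _ K
      ((Module.Free.chooseBasis R B₀).reindex (Fintype.equivFin _)).equivFun.symm j (DualFlat.bT_bijective_pow _ K j _)) i)
  have h2 := (RA.eval B₀ n b W₀)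
  have h3 := RA.comp (hb1.shift (n : ℤ)) (RA.comp h2 h₁ _ rfl) (MvPolynomial.aeval a).toRingHom ?_
  · exact RA.of_iso h3 eW (Iso.refl _)
  · refine MvPolynomial.ringHom_ext (fun r => ?_) fun i => ?_
    · show q (MvPolynomial.eval b (MvPolynomial.map (algebraMap R B₀) (MvPolynomial.C r))) = _
      simp
    · show q (MvPolynomial.eval b (MvPolynomial.map (algebraMap R B₀) (MvPolynomial.X i))) = _
      simp only [MvPolynomial.map_X, MvPolynomial.eval_X, MvPolynomial.aeval_X, AlgHom.toRingHom_eq_coe, RingHom.coe_coe]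
      exact hb i

end

end Groth.Agent.Shriek
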