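import Groth.Agent.Shriek.FibHeight
import Groth.Agent.Shriek.SelfProps
import Groth.Agent.DualCx.Self
import Groth.Agent.DualCx.Apps
import Groth.Agent.DualFlat.Iso
import Mathlib.RingTheory.Depth.Rees
import Mathlib.Algebra.Module.LocalizedModule.Basic

/-!
The cohomology of `RHom_P(A, P[n])` vanishes below minus the fibre dimension.
-/

set_option autoImplicit false
set_option linter.style.haveILetI false
set_option maxHeartbeats 1000000
set_option backward.isDefEq.respectTransparency false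
universe u

namespace Groth.Agent.Shriek

open CategoryTheory CategoryTheory.Limits DerivedCategory TensorProduct RingTheory.Sequence IsLocalRing
open Groth.Agent.DualCx Groth.Agent.DualFlat

attribute [local instance] HasDerivedCategory.standard

noncomputable section

theorem subsingleton_T_of_regular {B : Type u} [CommRing B] [IsNoetherianRing B] [IsLocalRing B] (N : Type u)
    [AddCommGroup N] [Module B N] [Module.Finite B N] (rs : List B) (hw : IsWeaklyRegular B rs)
    (hm : ∀ r ∈ rs, r ∈ maximalIdeal B) (hkill : ∀ r ∈ rs, ∀ y : N, r • y = 0) {j : ℤ} (hj : j < rs.length) :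
    Subsingleton (T (Dual.inD B B) N j) := by
  rcases lt_or_ge j 0 with h | h
  · exact subsingleton_neg h
  lift j to ℕ using h
  rw [subsingleton_iff_ext]
  refine ModuleCat.subsingleton_ext_of_exists_isRegular (Ideal.ofList rs) (ModuleCat.of B N) ?_ (ModuleCat.of B B) ?_
    rs (fun r hr => Ideal.subset_span hr)
    ((IsLocalRing.isRegular_iff_isWeaklyRegular_of_subset_maximalIdeal hm).2 hw) j (by exact_mod_cast hj)
  · rw [Module.support_eq_zeroLocus]
    exact PrimeSpectrum.zeroLocus_anti_mono (Ideal.span_le.2 fun r hr =>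
      Module.mem_annihilator.2 (hkill r hr))
  · rw [show (Ideal.ofList rs • ⊤ : Submodule B (ModuleCat.of B B)) = Ideal.ofList rs from Ideal.mul_top _]
    exact lt_of_le_of_lt (Ideal.span_le.2 hm) (lt_top_iff_ne_top.2 (Ideal.IsMaximal.ne_top inferInstance))

theorem exists_kill_of_subsingleton {P : Type u} [CommRing P] [IsNoetherianRing P] (Q : Ideal P) [Q.IsPrime]
    (N : Type u) [AddCommGroup N] [Module P N] [Module.Finite P N] (j : ℤ)
    (h : Subsingleton (T (Dual.inD (Localization.AtPrime Q) (Localization.AtPrime Q))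
      (Localization.AtPrime Q ⊗[P] N) j)) (x : T (Dual.inD P P) N j) : ∃ s ∈ Q.primeCompl, s • x = 0 := by
  let B := Localization.AtPrime Q
  haveI : Module.Flat P B := IsLocalization.flat B Q.primeCompl
  let K := Dual.inD P P
  let eK : KB B K ≅ Dual.inD B B :=
    locInD (algebraMap P B) P ≪≫ (DerivedCategory.singleFunctor (ModuleCat.{u} B) 0).mapIso
      ((tens B P).trans (TensorProduct.AlgebraTensorModule.rid P B B)).toModuleIso
  let eb : B ⊗[P] T K N j ≃ₗ[B] T (KB B K) (EM (A := P) B N) j :=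
    LinearEquiv.ofBijective _ (bT_bijective B K (a := 0)
      (fun i hi => subsingleton_hd_inD P (ne_of_lt hi)) N j)
  haveI : Subsingleton (B ⊗[P] T K N j) := by
    rw [eb.toEquiv.subsingleton_congr, DualCx.subsingleton_congr (tens B N)]
    exact (Iso.homCongr (Iso.refl _) ((CategoryTheory.shiftFunctor _ j).mapIso eK)).subsingleton_congr.2 h
  obtain ⟨⟨s, hs⟩, hsx⟩ := (IsLocalizedModule.eq_zero_iff Q.primeCompl (TensorProduct.mk P B (T K N j) 1) (m := x)).1
    (Subsingleton.elim _ _)
  exact ⟨s, hs, hsx⟩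

variable {P A : Type u} [CommRing P] [CommRing A]

theorem exists_kill_HD (φ : P →+* A) {W : Dual.D A} {L : Dual.D P} (h : RA φ W L) (j : ℤ) (S : Submonoid P)
    (hT : letI := φ.toAlgebra; ∀ z : T L A j, ∃ s ∈ S, s • z = 0) (x : Dual.HD A W j) :
    ∃ s ∈ S, φ s • x = 0 := by
  letI := φ.toAlgebra
  obtain ⟨c, hc⟩ := h
  have hc' : IsRA (A := P) (B := A) W L c := hc
  let e0 : Dual.inD P A ≅ (resD P A).obj (Dual.inD A A) :=
    (DerivedCategory.singleFunctor (ModuleCat.{u} P) 0).mapIso (resSelf (A := P) (B := A)).symm ≪≫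
      (((res P A).mapDerivedCategorySingleFunctor 0).app (ModuleCat.of A A)).symm
  let v : T W A j := (DualCx.homEquiv W j).symm x
  obtain ⟨s, hs, hsz⟩ := hT (e0.hom ≫ raMap c j _ v)
  refine ⟨s, hs, ?_⟩
  have h0 : ∀ y, raMap c j (Dual.inD A A) y = 0 → y = 0 := fun y hy =>
    (hc'.raMap_bijective j _).1 (hy.trans (by simp [raMap]))
  have h1 : algebraMap P A s • v = 0 := h0 _ (by
    rw [raMap_smul]
    rw [← Linear.comp_smul] at hsz
    exact (cancel_epi e0.hom).1 (hsz.trans comp_zero.symm))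
  have h2 : DualCx.homEquiv W j (algebraMap P A s • v) = 0 := by rw [h1, map_zero]
  rw [map_smul, LinearEquiv.apply_symm_apply] at h2
  exact h2

variable {R : Type u} [CommRing R] [IsNoetherianRing R] [Algebra R A] {n : ℕ} {ψ : MvPolynomial (Fin n) R →ₐ[R] A}

theorem Shr.subsingleton_loc_HD (hψ : Function.Surjective ψ) {W : Dual.D A} (h : Shr ψ W (Dual.inD R R))
    (q : PrimeSpectrum A) {d : ℕ}
    (hd : FlatMor.fibreDimAt (AlgebraicGeometry.Spec.map (CommRingCat.ofHom (algebraMap R A))) q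
      ≤ (d : WithBot ℕ∞)) {i : ℤ} (hi : i < -(d : ℤ)) :
    Subsingleton (LocalizedModule q.asIdeal.primeCompl (Dual.HD A W i)) := by
  let Pp := MvPolynomial (Fin n) R
  let Q : Ideal Pp := q.asIdeal.comap ψ.toRingHom
  obtain ⟨eP⟩ := polyD_self R n
  have h' : RA ψ.toRingHom W ((Dual.inD Pp Pp)⟦(n : ℤ)⟧) :=
    RA.of_iso h (Iso.refl _) ((shiftFunctor _ (n : ℤ)).mapIso eP)
  letI : Algebra Pp A := ψ.toRingHom.toAlgebra
  haveI : Module.Finite Pp A := Module.Finite.of_surjective (Algebra.linearMap Pp A) hψ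
  obtain ⟨rs, hw, hlen, hI⟩ := exists_regular_of_fibreDimAt ψ hψ q hd
  let B := Localization.AtPrime Q
  have hIQ : RingHom.ker ψ.toRingHom ≤ Q := fun a ha => by
    show ψ.toRingHom a ∈ q.asIdeal
    rw [RingHom.mem_ker.1 ha]; exact q.asIdeal.zero_mem
  have hker : ∀ r ∈ rs, ∀ y : B ⊗[Pp] A, r • y = 0 := fun r hr y => by
    revert y
    refine Submodule.span_induction (p := fun r _ => ∀ y : B ⊗[Pp] A, r • y = 0) ?_ ?_ ?_ ?_ (hI r hr)
    · rintro _ ⟨a, ha, rfl⟩ y
      induction y with
      | zero => rw [smul_zero]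
      | add y y' hy hy' => rw [smul_add, hy, hy', add_zero]
      | tmul b c =>
        rw [algebraMap_smul, ← TensorProduct.tmul_smul]
        rw [show a • c = 0 by rw [Algebra.smul_def, RingHom.algebraMap_toAlgebra, RingHom.mem_ker.1 ha, zero_mul],
          TensorProduct.tmul_zero]
    · intro y; rw [zero_smul]
    · intro a b _ _ ha hb y; rw [add_smul, ha, hb, add_zero]
    · intro a b _ hb y; rw [smul_eq_mul, mul_smul, hb, smul_zero]
  have hmem : ∀ r ∈ rs, r ∈ maximalIdeal B := fun r hr => by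
    rw [← Localization.AtPrime.map_eq_maximalIdeal]
    exact Ideal.map_mono hIQ (hI r hr)
  have hsub : Subsingleton (T (Dual.inD B B) (B ⊗[Pp] A) ((n : ℤ) + i)) :=
    subsingleton_T_of_regular _ rs hw hmem hker (by rw [hlen]; omega)
  rw [LocalizedModule.subsingleton_iff]
  intro x
  obtain ⟨s, hs, hsx⟩ := exists_kill_HD ψ.toRingHom h' i Q.primeCompl (fun z => by
    let e := Linear.homCongr Pp (Iso.refl (Dual.inD Pp A))
      ((shiftFunctorAdd' (Dual.D Pp) (n : ℤ) i ((n : ℤ) + i) rfl).app (Dual.inD Pp Pp)).symm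
    obtain ⟨s, hs, hz⟩ := exists_kill_of_subsingleton Q A ((n : ℤ) + i) hsub (e z)
    exact ⟨s, hs, e.injective (by rw [map_smul, hz, map_zero])⟩) x
  exact ⟨ψ.toRingHom s, hs, hsx⟩

end

end Groth.Agent.Shriek
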