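import Groth.Agent.Shriek.LCILocal
import Groth.Agent.DRingKP.Modules
import Mathlib.Algebra.Module.FinitePresentation
import Mathlib.RingTheory.TensorProduct.Basic

/-!
For a locally complete intersection, the upper shriek of the base is locally a shift of the ring.
-/

set_option autoImplicit false
set_option linter.style.haveILetI false
set_option maxHeartbeats 1000000
set_option backward.isDefEq.respectTransparency false
universe u

namespace Groth.Agent.Shriek

open CategoryTheory CategoryTheory.Limits DerivedCategory TensorProduct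
open Groth.Agent.DualCx Groth.Agent.DualFlat

attribute [local instance] HasDerivedCategory.standard

noncomputable section

theorem exists_annihilator {A : Type u} [CommRing A] (q : Ideal A) [q.IsPrime] (M : Type u) [AddCommGroup M]
    [Module A M] [Module.Finite A M] (h : ∀ x : M, ∃ s ∉ q, s • x = 0) : ∃ s ∉ q, ∀ x : M, s • x = 0 := by
  obtain ⟨S, hS⟩ := Module.Finite.fg_top (R := A) (M := M)
  choose t ht htx using h
  refine ⟨∏ x ∈ S, t x, fun hm => ?_, fun x => ?_⟩
  · obtain ⟨x, -, hx⟩ := (‹q.IsPrime›).prod_mem_iff.1 hm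
    exact ht x hx
  · have hx : x ∈ Submodule.span A (S : Set M) := hS ▸ Submodule.mem_top
    refine Submodule.span_induction (p := fun x _ => (∏ y ∈ S, t y) • x = 0) (fun y hy => ?_) (smul_zero _)
      (fun a b _ _ ha hb => by rw [smul_add, ha, hb, add_zero]) (fun r a _ ha => by rw [smul_comm, ha, smul_zero]) hx
    classical
    rw [← Finset.prod_erase_mul S t hy, mul_smul, htx, smul_zero]

theorem exists_away_single {A : Type u} [CommRing A] [IsNoetherianRing A] {W : Dual.D A} {lo hi : ℤ}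
    (hbd : ∀ i : ℤ, (i < lo ∨ hi < i) → Subsingleton (Dual.HD A W i))
    (hfin : ∀ i : ℤ, Module.Finite A (Dual.HD A W i)) (q : Ideal A) [q.IsPrime] (c : ℤ) (x₀ : Dual.HD A W c)
    (hoff : ∀ j : ℤ, j ≠ c → ∀ x : Dual.HD A W j, ∃ s ∉ q, s • x = 0)
    (hgen : ∀ x : Dual.HD A W c, ∃ s ∉ q, ∃ a : A, s • x = a • x₀)
    (hann : ∀ a : A, a • x₀ = 0 → ∃ s ∉ q, s * a = 0)
    [hL : ∀ f : A, DRing.HasLBaseChange (algebraMap A (Localization.Away f))] :
    ∃ (f : A) (_ : f ∉ q) (m : ℤ), Nonempty ((DRing.LBaseChange (algebraMap A (Localization.Away f))).obj W ≅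
      (Dual.inD (Localization.Away f) (Localization.Away f))⟦m⟧) := by
  classical
  let H := Dual.HD A W c
  haveI : Module.Finite A H := hfin c
  haveI : Module.FinitePresentation A H := Module.finitePresentation_of_finite A H
  let l : A →ₗ[A] H := LinearMap.toSpanSingleton A H x₀
  let fA := LocalizedModule.mkLinearMap q.primeCompl A
  let fH := LocalizedModule.mkLinearMap q.primeCompl H
  have hl : Function.Bijective (IsLocalizedModule.map q.primeCompl fA fH l) := by
    refine ⟨(injective_iff_map_eq_zero _).2 fun z hz => ?_, fun w => ?_⟩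
    · obtain ⟨⟨a, s⟩, rfl⟩ := IsLocalizedModule.mk'_surjective q.primeCompl fA z
      simp only [Function.uncurry_apply_pair, IsLocalizedModule.map_mk', IsLocalizedModule.mk'_eq_zero'] at hz ⊢
      obtain ⟨u, hu⟩ := hz
      obtain ⟨t, ht, hta⟩ := hann ((u : A) * a) (by rw [mul_smul]; exact hu)
      exact ⟨⟨t * u, fun h => (‹q.IsPrime›.mem_or_mem h).elim ht u.2⟩, by
        show (t * (u : A)) • a = 0
        rw [smul_eq_mul, mul_assoc]; exact hta⟩
    · obtain ⟨⟨x, s⟩, rfl⟩ := IsLocalizedModule.mk'_surjective q.primeCompl fH w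
      obtain ⟨t, ht, a, hta⟩ := hgen x
      refine ⟨IsLocalizedModule.mk' fA a (s * ⟨t, ht⟩), ?_⟩
      rw [Function.uncurry_apply_pair, IsLocalizedModule.map_mk', show l a = t • x from hta.symm]
      exact IsLocalizedModule.mk'_cancel_right (f := fH) x s (⟨t, ht⟩ : q.primeCompl)
  obtain ⟨g, hg, hgbij⟩ := exists_bijective_map_powers q.primeCompl fA fH l hl
  choose k hk hkill using fun j : ℤ => show ∃ s ∉ q, j ≠ c → ∀ x : Dual.HD A W j, s • x = 0 by
    by_cases hj : j = c
    · exact ⟨1, fun h => ‹q.IsPrime›.ne_top ((Ideal.eq_top_iff_one q).2 h), fun h => absurd hj h⟩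
    · haveI := hfin j
      obtain ⟨s, hs, h⟩ := exists_annihilator q _ (hoff j hj)
      exact ⟨s, hs, fun _ => h⟩
  let f := g * ∏ j ∈ Finset.Icc lo hi, k j
  have hf : f ∉ q := fun h => (‹q.IsPrime›.mem_or_mem h).elim hg fun h' => by
    obtain ⟨j, -, hj⟩ := (‹q.IsPrime›).prod_mem_iff.1 h'
    exact hk j hj
  refine ⟨f, hf, -c, ?_⟩
  let Af := Localization.Away f
  haveI : Module.Flat A Af := IsLocalization.flat Af (Submonoid.powers f)
  let φ := algebraMap A Af
  let V := (locD φ).obj W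
  have hz : ∀ j : ℤ, j ≠ c → IsZero ((DerivedCategory.homologyFunctor (ModuleCat.{u} Af) j).obj V) := fun j hj => by
    by_cases hjr : j < lo ∨ hi < j
    · exact isZero_locHD φ (hbd j hjr)
    have hfz : ∀ x : Dual.HD A W j, f • x = 0 := fun x => by
      have hmem : j ∈ Finset.Icc lo hi := Finset.mem_Icc.2 ⟨by omega, by omega⟩
      show (g * ∏ i ∈ Finset.Icc lo hi, k i) • x = 0
      rw [← Finset.prod_erase_mul _ k hmem, ← mul_assoc, mul_smul, hkill j hj x, smul_zero]
    haveI : Subsingleton (Af ⊗[A] Dual.HD A W j) := by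
      refine subsingleton_of_forall_eq 0 fun z => ?_
      obtain ⟨v, hv⟩ := (IsLocalization.map_units Af (⟨f, Submonoid.mem_powers f⟩ : Submonoid.powers f)).exists_left_inv
      have h0 : algebraMap A Af f • z = 0 := by
        induction z using TensorProduct.induction_on with
        | zero => rw [smul_zero]
        | add x y hx hy => rw [smul_add, hx, hy, add_zero]
        | tmul b x => rw [algebraMap_smul, ← TensorProduct.tmul_smul, hfz, TensorProduct.tmul_zero]
      calc z = (v * algebraMap A Af f) • z := by rw [hv, one_smul]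
        _ = 0 := by rw [mul_smul, h0, smul_zero]
    haveI : Subsingleton ((ext φ).obj ((DerivedCategory.homologyFunctor (ModuleCat.{u} A) j).obj W)) :=
      (tens Af ((DerivedCategory.homologyFunctor (ModuleCat.{u} A) j).obj W)).toEquiv.subsingleton
    exact (ModuleCat.isZero_of_subsingleton _).of_iso (locHD φ W j)
  let e1 : LocalizedModule (Submonoid.powers f) A ≃ₗ[Af] LocalizedModule (Submonoid.powers f) H :=
    LinearEquiv.ofBijective _ (hgbij f (dvd_mul_right _ _))
  let eH : (DerivedCategory.homologyFunctor (ModuleCat.{u} Af) c).obj V ≅ ModuleCat.of Af Af :=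
    locHD φ W c ≪≫ ((tens Af H).trans ((LocalizedModule.equivTensorProduct (Submonoid.powers f) H).symm.trans
      (e1.symm.trans ((LocalizedModule.equivTensorProduct (Submonoid.powers f) A).trans
        (TensorProduct.AlgebraTensorModule.rid A Af Af))))).toModuleIso
  haveI : V.IsGE c := (DerivedCategory.isGE_iff _ c).2 fun j hj => hz j hj.ne
  haveI : V.IsLE c := (DerivedCategory.isLE_iff _ c).2 fun j hj => hz j hj.ne'
  obtain ⟨M, ⟨eM⟩⟩ := DerivedCategory.exists_iso_singleFunctor_obj_of_isGE_of_isLE V c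
  let eM' : M ≅ ModuleCat.of Af Af :=
    ((DerivedCategory.singleFunctorCompHomologyFunctorIso (ModuleCat.{u} Af) c).app M).symm ≪≫
      ((DerivedCategory.homologyFunctor (ModuleCat.{u} Af) c).mapIso eM).symm ≪≫ eH
  exact ⟨lBaseChangeObjIso φ W ≪≫ eM ≪≫ (DerivedCategory.singleFunctor (ModuleCat.{u} Af) c).mapIso eM' ≪≫
    (DRingKP.singleShiftIso (ModuleCat.of Af Af) c).symm⟩

theorem Shr.bounded_of_perfect {R A : Type u} [CommRing R] [CommRing A] [Algebra R A] {n : ℕ}
    {ψ : MvPolynomial (Fin n) R →ₐ[R] A}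
    (hperf : letI := ψ.toRingHom.toAlgebra; DRing.IsPerfectModule (MvPolynomial (Fin n) R) A)
    {W : Dual.D A} (h : Shr ψ W (Dual.inD R R)) :
    ∃ a b : ℤ, ∀ i : ℤ, (i < a ∨ b < i) → Subsingleton (Dual.HD A W i) := by
  let P := MvPolynomial (Fin n) R
  obtain ⟨eP⟩ := polyD_self R n
  have h' : RA ψ.toRingHom W ((Dual.inD P P)⟦(n : ℤ)⟧) :=
    RA.of_iso h (Iso.refl _) ((CategoryTheory.shiftFunctor _ (n : ℤ)).mapIso eP)
  let W₀ := DerivedCategory.Q.objPreimage W
  let eW := DerivedCategory.Q.objObjPreimageIso W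
  obtain ⟨d, -, ⟨e⟩⟩ := exists_rep ψ.toRingHom hperf (W := W₀) (-(n : ℤ))
    (RA.of_iso h' eW.symm (freeShiftIso P (n : ℤ)).symm)
  refine ⟨-d.b - n, -d.a - n, fun i hi => ?_⟩
  haveI : Subsingleton ((DTen.resCx ψ.toRingHom).obj W₀ |>.homology i) := by
    refine ModuleCat.subsingleton_of_isZero (IsZero.of_iso ?_
      (((DerivedCategory.homologyFunctorFactors (ModuleCat.{u} P) i).app _).symm ≪≫
          (DerivedCategory.homologyFunctor (ModuleCat.{u} P) i).mapIso e ≪≫
          (DerivedCategory.homologyFunctorFactors (ModuleCat.{u} P) i).app _))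
    exact ShortComplex.isZero_homology_of_isZero_X₂ _ (DRingKP.tensor_vanishes i fun p q hpq => by
      by_cases hp : p < -d.b ∨ -d.a < p
      · exact Or.inl (d.hzeroD p hp)
      · exact Or.inr (HomologicalComplex.isZero_single_obj_X _ _ _ _ (by omega)))
  refine ModuleCat.subsingleton_of_isZero (IsZero.of_iso ?_
    (((DerivedCategory.homologyFunctor (ModuleCat.{u} A) i).mapIso eW).symm ≪≫
      (DerivedCategory.homologyFunctorFactors (ModuleCat.{u} A) i).app W₀))
  refine (HomologicalComplex.exactAt_iff_isZero_homology _ _).1 ?_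
  have h1 : ((DTen.resCx ψ.toRingHom).obj W₀).ExactAt i :=
    (HomologicalComplex.exactAt_iff_isZero_homology _ _).2 (ModuleCat.isZero_of_subsingleton _)
  rw [HomologicalComplex.exactAt_iff] at h1 ⊢
  exact (ShortComplex.exact_map_iff_of_faithful _ (ModuleCat.restrictScalars.{u} ψ.toRingHom)).1 h1

theorem shriekVia_lci {R A : Type u} [CommRing R] [CommRing A] [IsNoetherianRing R] [IsNoetherianRing A] [Algebra R A]
    (hl : LCI.IsLCI R A) {n : ℕ} (ψ : MvPolynomial (Fin n) R →ₐ[R] A) (hψ : Function.Surjective ψ) {W : Dual.D A}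
    (h : Shr ψ W (Dual.inD R R)) (q : PrimeSpectrum A)
    [hL : ∀ f : A, DRing.HasLBaseChange (algebraMap A (Localization.Away f))] :
    ∃ (f : A) (_ : f ∉ q.asIdeal) (m : ℤ), Nonempty ((DRing.LBaseChange (algebraMap A (Localization.Away f))).obj W ≅
      (Dual.inD (Localization.Away f) (Localization.Away f))⟦m⟧) := by
  let P := MvPolynomial (Fin n) R
  have hI : LCI.IsKoszulRegularIdeal (RingHom.ker ψ.toRingHom) :=
    KoszulLib.isKoszulRegularIdeal_iff.2 ((KoszulLib.isLCI_iff.1 hl).2 n ψ hψ)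
  letI : Algebra P A := ψ.toRingHom.toAlgebra
  haveI : Module.Finite P A := Module.Finite.of_surjective (Algebra.linearMap P A) hψ
  obtain ⟨eP⟩ := polyD_self R n
  have h' : RA ψ.toRingHom (W⟦(-(n : ℤ))⟧) (Dual.inD P P) :=
    RA.of_iso ((RA.of_iso h (Iso.refl _) ((CategoryTheory.shiftFunctor _ (n : ℤ)).mapIso eP)).shift (-(n : ℤ)))
      (Iso.refl _) ((shiftFunctorCompIsoId (Dual.D P) (n : ℤ) (-(n : ℤ)) (by omega)).app _)
  obtain ⟨a, b, hab⟩ := h.bounded_of_perfect (isPerfectModule_of_koszul hψ hI)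
  let V := W⟦(-(n : ℤ))⟧
  have hab' : ∀ i : ℤ, (i < a + n ∨ b + n < i) → Subsingleton (Dual.HD A V i) := fun i hi => by
    obtain ⟨e⟩ := nonempty_hd_shift W (-(n : ℤ)) i
    haveI := hab (-(n : ℤ) + i) (by omega)
    exact e.toEquiv.subsingleton
  have hfin : ∀ i : ℤ, Module.Finite A (Dual.HD A V i) := fun i => by
    obtain ⟨c', hc'⟩ := h'
    exact IsRA.finite_hd (A := P) (B := A) (W := V) (c := c') hc' (fun j => finite_hd_inD P j) (a := 0)
      (fun j hj => subsingleton_hd_inD P (ne_of_lt hj)) i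
  obtain ⟨c, x₀, hoff, hgen, hann⟩ := exists_generator ψ.toRingHom hψ hI h' q.asIdeal
  obtain ⟨f, hf, m, ⟨e⟩⟩ := exists_away_single hab' hfin q.asIdeal (c : ℤ) x₀ hoff hgen hann
  let φ := algebraMap A (Localization.Away f)
  haveI : Module.Flat A (Localization.Away f) := IsLocalization.flat _ (Submonoid.powers f)
  refine ⟨f, hf, m + n, ⟨(DRing.LBaseChange φ).mapIso ((shiftFunctorCompIsoId (Dual.D A) (-(n : ℤ)) (n : ℤ) (by omega)).app W).symm ≪≫
    lBaseChangeObjIso φ _ ≪≫ ((locD φ).commShiftIso (n : ℤ)).app V ≪≫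
    (CategoryTheory.shiftFunctor _ (n : ℤ)).mapIso ((lBaseChangeObjIso φ V).symm ≪≫ e) ≪≫
    ((shiftFunctorAdd' (Dual.D _) m (n : ℤ) (m + n) rfl).app _).symm⟩⟩

end

end Groth.Agent.Shriek
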