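import Groth.Agent.Shriek.ExtGrade
import Groth.Agent.Shriek.Indep
import Groth.Agent.CMFlat.Localization
import Groth.Agent.CMFlat.FiberRing
import Groth.Agent.CMFlat.FieldTensor
import Groth.Agent.EtaPt.UnivHomeo
import Groth.Agent.LocH.AdjDepthChange
import Groth.Agent.FibDepth.Bridge
import Groth.Agent.FibDepth.BridgeAlg
import Groth.Prelude.Def_Dual3
import Groth.Agent.LocH.DepthMisc
import Groth.Agent.DualCx.Coherent

/-!
The cohomology of `φ^! R` in degree minus the fibre dimension, over a Cohen–Macaulay point of the base.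
-/

set_option autoImplicit false
set_option linter.style.haveILetI false
set_option maxHeartbeats 1600000
set_option backward.isDefEq.respectTransparency false
universe u

namespace Groth.Agent.Shriek

open CategoryTheory CategoryTheory.Limits DerivedCategory TensorProduct RingTheory.Sequence IsLocalRing AlgebraicGeometry
open Groth.Agent.DualCx Groth.Agent.DualFlat

attribute [local instance] HasDerivedCategory.standard

noncomputable section

variable {R A : Type u} [CommRing R] [CommRing A] [IsNoetherianRing R] [Algebra R A] {n : ℕ}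
  {ψ : MvPolynomial (Fin n) R →ₐ[R] A}

/-- The transcendence degree of a residue field, on rings. -/
theorem trdeg_residueField (q : PrimeSpectrum A) :
    letI := (Ideal.ResidueField.map (q.asIdeal.under R) q.asIdeal (algebraMap R A) rfl).toAlgebra
    Algebra.trdeg (q.asIdeal.under R).ResidueField q.asIdeal.ResidueField =
      Dual3.resTrdeg (Spec.map (CommRingCat.ofHom (algebraMap R A))) q := by
  let f := CommRingCat.ofHom (algebraMap R A)
  let eK : (Spec (CommRingCat.of R)).residueField (PrimeSpectrum.comap f.hom q) ≃+* (q.asIdeal.under R).ResidueField :=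
    (Scheme.Spec.residueFieldIso (CommRingCat.of R) (PrimeSpectrum.comap f.hom q)).commRingCatIsoToRingEquiv
  let eL : (Spec (CommRingCat.of A)).residueField q ≃+* q.asIdeal.ResidueField := (Scheme.Spec.residueFieldIso (CommRingCat.of A) q).commRingCatIsoToRingEquiv
  let j : (q.asIdeal.under R).ResidueField →+* q.asIdeal.ResidueField :=
    Ideal.ResidueField.map (q.asIdeal.under R) q.asIdeal (algebraMap R A) rfl
  letI := j.toAlgebra
  let K' : Type u := (Spec (CommRingCat.of R)).residueField (PrimeSpectrum.comap f.hom q)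
  let L' : Type u := (Spec (CommRingCat.of A)).residueField q
  let g : K' →+* L' := ((Spec.map f).residueFieldMap q).hom
  letI := g.toAlgebra
  letI : Algebra (q.asIdeal.under R).ResidueField K' := eK.symm.toRingHom.toAlgebra
  letI : Algebra (q.asIdeal.under R).ResidueField L' := (g.comp eK.symm.toRingHom).toAlgebra
  haveI : IsScalarTower (q.asIdeal.under R).ResidueField K' L' := IsScalarTower.of_algebraMap_eq fun _ => rfl
  have hsq : g.comp eK.symm.toRingHom = eL.symm.toRingHom.comp j :=
    Ideal.ResidueField.ringHom_ext (RingHom.ext fun a => by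
      refine (EtaPtLib.residueFieldMap_residueFieldIso f q a).trans ?_
      exact (congrArg eL.symm (Ideal.ResidueField.map_algebraMap _ q.asIdeal (algebraMap R A) rfl a).symm))
  let e : q.asIdeal.ResidueField ≃ₐ[(q.asIdeal.under R).ResidueField] L' :=
    AlgEquiv.ofRingEquiv (f := eL.symm) fun x => (RingHom.congr_fun hsq x).symm
  rw [e.trdeg_eq]
  haveI : Algebra.IsAlgebraic (q.asIdeal.under R).ResidueField K' := ⟨fun y => by
    rw [show y = algebraMap (q.asIdeal.under R).ResidueField K' (eK y) from (eK.symm_apply_apply y).symm]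
    exact isAlgebraic_algebraMap _⟩
  haveI : FaithfulSMul (q.asIdeal.under R).ResidueField K' :=
    (faithfulSMul_iff_algebraMap_injective _ _).2 eK.symm.injective
  haveI : FaithfulSMul K' L' := (faithfulSMul_iff_algebraMap_injective _ _).2 g.injective
  rw [← trdeg_add_eq (q.asIdeal.under R).ResidueField K' (A := L'), trdeg_eq_zero, zero_add]
  rfl

theorem height_comap_theta {p : Ideal R} [p.IsPrime] (Q : Ideal (MvPolynomial (Fin n) R)) [Q.IsPrime]
    (Q' : Ideal (MvPolynomial (Fin n) p.ResidueField)) [Q'.IsPrime] (hQ : ∀ x, theta p x ∈ Q' ↔ x ∈ Q) :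
    Q'.height ≤ Q.height := by
  let F : PrimeSpectrum (MvPolynomial (Fin n) p.ResidueField) → PrimeSpectrum (MvPolynomial (Fin n) R) :=
    PrimeSpectrum.comap (theta p)
  have hF : StrictMono F := fun a b hab => by
    have hle : (F a).asIdeal ≤ (F b).asIdeal := Ideal.comap_mono (show a.asIdeal ≤ b.asIdeal from hab.le)
    refine lt_of_le_of_ne hle fun heq => ?_
    obtain ⟨x, hx, hx'⟩ := SetLike.exists_of_lt (show a.asIdeal < b.asIdeal from hab)
    obtain ⟨r, hr, c, hc⟩ := exists_scale p x
    have h1 : c ∈ (F b).asIdeal := by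
      show theta p c ∈ b.asIdeal
      rw [hc, MvPolynomial.smul_eq_C_mul]
      exact Ideal.mul_mem_left _ _ hx
    rw [← heq] at h1
    have h2 : theta p c ∈ a.asIdeal := h1
    rw [hc, MvPolynomial.smul_eq_C_mul] at h2
    exact (a.2.mem_or_mem h2).elim (fun h => a.2.ne_top (Ideal.eq_top_of_isUnit_mem _ h
      ((isUnit_iff_ne_zero.2 fun h0 => hr (Ideal.algebraMap_residueField_eq_zero.1 h0)).map MvPolynomial.C))) hx'
  have h := Order.height_le_height_apply_of_strictMono F hF ⟨Q', inferInstance⟩
  rw [← PrimeSpectrum.height_eq_orderHeight, ← PrimeSpectrum.height_eq_orderHeight] at h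
  exact h.trans (le_of_eq (congrArg Ideal.height (Ideal.ext fun x => hQ x)))

theorem height_ge_of_trdeg (q : PrimeSpectrum A) {r : ℕ}
    (hr : Dual3.resTrdeg (Spec.map (CommRingCat.ofHom (algebraMap R A))) q ≤ (r : Cardinal.{u})) :
    ((n - r : ℕ) : ℕ∞) ≤ (q.asIdeal.comap ψ.toRingHom).height := by
  rw [← trdeg_residueField] at hr
  let p : Ideal R := q.asIdeal.under R
  let L := q.asIdeal.ResidueField
  let j : p.ResidueField →+* L := Ideal.ResidueField.map p q.asIdeal (algebraMap R A) rfl
  letI := j.toAlgebra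
  let χ : MvPolynomial (Fin n) p.ResidueField →ₐ[p.ResidueField] L :=
    MvPolynomial.aeval fun i => algebraMap A L (ψ (MvPolynomial.X i))
  have hχ : χ.toRingHom.comp (theta p) = (algebraMap A L).comp ψ.toRingHom := by
    refine MvPolynomial.ringHom_ext (fun r => ?_) fun i => ?_
    · show χ (MvPolynomial.map _ (MvPolynomial.C r)) = algebraMap A L (ψ (algebraMap R (MvPolynomial (Fin n) R) r))
      rw [MvPolynomial.map_C, MvPolynomial.aeval_C, ψ.commutes]
      exact (Ideal.ResidueField.map_algebraMap p q.asIdeal (algebraMap R A) rfl r)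
    · show χ (MvPolynomial.map _ (MvPolynomial.X i)) = _
      rw [MvPolynomial.map_X, MvPolynomial.aeval_X]
      rfl
  haveI hker : (RingHom.ker χ.toRingHom).IsPrime := RingHom.ker_isPrime _
  have hQ : ∀ x, theta p x ∈ RingHom.ker χ.toRingHom ↔ x ∈ q.asIdeal.comap ψ.toRingHom := fun x => by
    rw [RingHom.mem_ker, ← RingHom.comp_apply, hχ]
    exact Ideal.algebraMap_residueField_eq_zero
  refine le_trans ?_ (height_comap_theta _ _ hQ)
  let D := MvPolynomial (Fin n) p.ResidueField ⧸ RingHom.ker χ.toRingHom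
  obtain ⟨t, ht, hdim⟩ := DimFormula.exists_trdeg_eq_ringKrullDim p.ResidueField D
  have htr : (t : Cardinal.{u}) ≤ r := by
    rw [← ht]
    exact (trdeg_le_of_injective (Ideal.kerLiftAlg χ) (Ideal.kerLiftAlg_injective χ)).trans hr
  have htr' : t ≤ r := by exact_mod_cast htr
  have hsum := DimFormula.height_add_ringKrullDim_quotient p.ResidueField
    (⟨RingHom.ker χ.toRingHom, hker⟩ : PrimeSpectrum (MvPolynomial (Fin n) p.ResidueField))
  rw [hdim, MvPolynomial.ringKrullDim_of_isNoetherianRing, ringKrullDim_eq_zero_of_field, zero_add, Nat.card_fin,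
    ← WithBot.coe_natCast, ← WithBot.coe_natCast, ← WithBot.coe_add] at hsum
  have hsum' : (RingHom.ker χ.toRingHom).height + (t : ℕ∞) = n := WithBot.coe_injective hsum
  cases hh : (RingHom.ker χ.toRingHom).height with
  | top => exact le_top
  | coe a =>
    rw [hh] at hsum'
    have : a + t = n := by exact_mod_cast hsum'
    exact_mod_cast (by omega : n - r ≤ a)

variable [IsNoetherianRing A]

/-- The standing hypotheses at a prime over a Cohen–Macaulay point. -/
structure Over (ψ : MvPolynomial (Fin n) R →ₐ[R] A) (p : Ideal R) (r : ℕ) (q : Ideal A) : Prop where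
  surj : Function.Surjective ψ
  le : q.under R ≤ p
  trdeg : ∀ q : PrimeSpectrum A, q.asIdeal ∈ minimalPrimes A →
    Dual3.resTrdeg (Spec.map (CommRingCat.ofHom (algebraMap R A))) q ≤ (r : Cardinal.{u})

variable {p : Ideal R} [p.IsPrime] [LocCoh.IsCohenMacaulayLocalRing (Localization.AtPrime p)] {r : ℕ} {q : Ideal A}
  [q.IsPrime] (H : Over ψ p r q)
include H

theorem Over.cm : LocCoh.IsCohenMacaulayLocalRing (Localization.AtPrime (q.comap ψ.toRingHom)) := by
  let P := MvPolynomial (Fin n) R
  let Q : Ideal P := q.comap ψ.toRingHom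
  let p' : Ideal R := q.under R
  have hp' : Q.comap (algebraMap R P) = p' := by
    show (q.comap ψ.toRingHom).comap (algebraMap R P) = q.comap (algebraMap R A)
    rw [Ideal.comap_comap]
    exact congrArg (fun f : R →+* A => q.comap f) ψ.comp_algebraMap
  have hdis : Disjoint (p.primeCompl : Set R) (p' : Set R) := Set.disjoint_left.mpr fun a ha hap => ha (H.le hap)
  haveI := IsLocalization.isPrime_of_isPrime_disjoint p.primeCompl (Localization.AtPrime p) p' inferInstance hdis
  have hcomap := IsLocalization.under_map_of_isPrime_disjoint p.primeCompl (Localization.AtPrime p)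
    (I := p') inferInstance hdis
  let P' := p'.map (algebraMap R (Localization.AtPrime p))
  have hP := CMFlat.isCohenMacaulayLocalRing_atPrime (Localization.AtPrime p) P'
  have hloc : ∀ (J : Ideal R) [J.IsPrime], J = P'.comap (algebraMap R (Localization.AtPrime p)) →
      IsLocalization.AtPrime (Localization.AtPrime P') J := by
    intro J _ hJ
    subst hJ
    exact IsLocalization.isLocalization_isLocalization_atPrime_isLocalization p.primeCompl _ P'
  haveI := hloc p' hcomap.symm
  have hRp : LocCoh.IsCohenMacaulayLocalRing (Localization.AtPrime p') :=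
    @CMChart.isCohenMacaulayLocalRing_of_ringEquiv _ _ _ _
      (IsLocalization.algEquiv p'.primeCompl (Localization.AtPrime P') (Localization.AtPrime p')).toRingEquiv hP
  haveI : Module.Flat R P := inferInstance
  obtain ⟨Qf, _, hQf⟩ := CMFlat.exists_prime_fiber Q p' hp'
  refine (CMFlat.isCohenMacaulay_atPrime_iff Q p' Qf hQf).mpr ⟨hRp, ?_⟩
  refine CMFlat.isCohenMacaulay_localization_of_ringEquiv
    (MvPolynomial.algebraTensorAlgEquiv (σ := Fin n) R p'.ResidueField).symm.toRingEquiv (fun Z _ => ?_) Qf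
  haveI : IsRegularLocalRing (Localization.AtPrime Z) := IsRegularRing.isRegularLocalRing_localization Z
  exact CMFlat.isCohenMacaulayLocalRing_of_isRegularLocalRing _

theorem Over.exists_regular :
    letI := ψ.toRingHom.toAlgebra
    ∃ rs : List (Localization.AtPrime (q.comap ψ.toRingHom)),
      IsWeaklyRegular (Localization.AtPrime (q.comap ψ.toRingHom)) rs ∧ rs.length = n - r ∧
      (∀ x ∈ rs, x ∈ maximalIdeal (Localization.AtPrime (q.comap ψ.toRingHom))) ∧
      ∀ x ∈ rs, ∀ y : Localization.AtPrime (q.comap ψ.toRingHom) ⊗[MvPolynomial (Fin n) R] A, x • y = 0 := by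
  letI := ψ.toRingHom.toAlgebra
  let P := MvPolynomial (Fin n) R
  let Q : Ideal P := q.comap ψ.toRingHom
  let B := Localization.AtPrime Q
  haveI := H.cm
  haveI : LocCoh.IsCohenMacaulayRing B :=
    { isCohenMacaulayLocalRing_localization := fun Z _ => CMFlat.isCohenMacaulayLocalRing_atPrime B Z }
  let I : Ideal P := RingHom.ker ψ.toRingHom
  have hIQ : I ≤ Q := fun a ha => by
    show ψ.toRingHom a ∈ q
    rw [RingHom.mem_ker.1 ha]; exact q.zero_mem
  obtain ⟨rs, hw, hmem, hlen⟩ := exists_regular_next_le (I.map (algebraMap P B)) (n - r) (fun Z hZ hle => by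
    obtain ⟨hZ', -⟩ := (IsLocalization.isPrime_iff_isPrime_disjoint Q.primeCompl B Z).1 hZ
    haveI := hZ'
    rw [← IsLocalization.height_under Q.primeCompl Z]
    have hI : I ≤ Z.under P := Ideal.map_le_iff_le_comap.1 hle
    haveI : ((Z.under P).map ψ.toRingHom).IsPrime := Ideal.map_isPrime_of_surjective (f := ψ.toRingHom) H.surj hI
    obtain ⟨q₁, hq₁, hq₁le⟩ := Ideal.exists_minimalPrimes_le (bot_le : (⊥ : Ideal A) ≤ (Z.under P).map ψ.toRingHom)
    haveI := hq₁.1.1
    refine (height_ge_of_trdeg (ψ := ψ) ⟨q₁, hq₁.1.1⟩ (H.trdeg ⟨q₁, hq₁.1.1⟩ hq₁)).trans (Ideal.height_mono ?_)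
    refine (Ideal.comap_mono hq₁le).trans (le_of_eq ?_)
    rw [Ideal.comap_map_of_surjective' ψ.toRingHom H.surj]
    exact sup_eq_left.2 hI) _ le_rfl
  refine ⟨rs, hw, hlen, fun x hx => ?_, fun x hx y => ?_⟩
  · rw [← Localization.AtPrime.map_eq_maximalIdeal]
    exact Ideal.map_mono hIQ (hmem x hx)
  · revert y
    refine Submodule.span_induction (p := fun x _ => ∀ y : B ⊗[P] A, x • y = 0) ?_ ?_ ?_ ?_ (hmem x hx)
    · rintro _ ⟨a, ha, rfl⟩ y
      induction y with
      | zero => rw [smul_zero]
      | add y y' hy hy' => rw [smul_add, hy, hy', add_zero]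
      | tmul b c =>
        rw [algebraMap_smul, ← TensorProduct.tmul_smul]
        rw [show a • c = 0 by rw [Algebra.smul_def, RingHom.algebraMap_toAlgebra, RingHom.mem_ker.1 ha, zero_mul],
          TensorProduct.tmul_zero]
    · intro y; rw [zero_smul]
    · intro a b _ _ ha hb y; rw [add_smul, ha, hb, add_zero]
    · intro a b _ hb y; rw [smul_eq_mul, mul_smul, hb, smul_zero]

/-- Below minus the bound there is no cohomology at `q`. -/
theorem Over.exists_kill {W : Dual.D A} (h : Shr ψ W (Dual.inD R R)) {i : ℤ} (hi : i < -(r : ℤ))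
    (x : Dual.HD A W i) : ∃ s ∉ q, s • x = 0 := by
  let Pp := MvPolynomial (Fin n) R
  let Q : Ideal Pp := q.comap ψ.toRingHom
  obtain ⟨eP⟩ := polyD_self R n
  have h' : RA ψ.toRingHom W ((Dual.inD Pp Pp)⟦(n : ℤ)⟧) :=
    RA.of_iso h (Iso.refl _) ((shiftFunctor _ (n : ℤ)).mapIso eP)
  letI : Algebra Pp A := ψ.toRingHom.toAlgebra
  haveI : Module.Finite Pp A := Module.Finite.of_surjective (Algebra.linearMap Pp A) H.surj
  obtain ⟨rs, hw, hlen, hmem, hker⟩ := H.exists_regular
  have hsub := subsingleton_T_of_regular (Localization.AtPrime Q ⊗[Pp] A) rs hw hmem hker (j := (n : ℤ) + i)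
    (by rw [hlen]; omega)
  obtain ⟨s, hs, hsx⟩ := exists_kill_HD ψ.toRingHom h' i Q.primeCompl (fun z => by
    let e := Linear.homCongr Pp (Iso.refl (Dual.inD Pp A))
      ((shiftFunctorAdd' (Dual.D Pp) (n : ℤ) i ((n : ℤ) + i) rfl).app (Dual.inD Pp Pp)).symm
    obtain ⟨s, hs, hz⟩ := exists_kill_of_subsingleton Q A ((n : ℤ) + i) hsub (e z)
    exact ⟨s, hs, e.injective (by rw [map_smul, hz, map_zero])⟩) x
  exact ⟨ψ.toRingHom s, hs, hsx⟩

/-- `(S_2)` at `q` in degree minus the bound. -/
theorem Over.min_two_le_depth {W : Dual.D A} (h : Shr ψ W (Dual.inD R R)) (R' : Type u) [CommRing R'] [IsLocalRing R']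
    [Algebra A R'] [IsLocalization.AtPrime R' q] (M' : Type u) [AddCommGroup M'] [Module A M'] [Module R' M']
    [IsScalarTower A R' M'] (f : Dual.HD A W (-(r : ℤ)) →ₗ[A] M') [IsLocalizedModule q.primeCompl f] :
    min ((2 : ℕ) : WithBot ℕ∞) (Module.supportDim R' M') ≤ ((LocCoh.depth R' M' : ℕ∞) : WithBot ℕ∞) := by
  let Pp := MvPolynomial (Fin n) R
  let Q : Ideal Pp := q.comap ψ.toRingHom
  let B := Localization.AtPrime Q
  obtain ⟨eP⟩ := polyD_self R n
  have h' : RA ψ.toRingHom W ((Dual.inD Pp Pp)⟦(n : ℤ)⟧) :=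
    RA.of_iso h (Iso.refl _) ((shiftFunctor _ (n : ℤ)).mapIso eP)
  letI : Algebra Pp A := ψ.toRingHom.toAlgebra
  haveI : Module.Finite Pp A := Module.Finite.of_surjective (Algebra.linearMap Pp A) H.surj
  haveI := H.cm
  obtain ⟨c, hc⟩ := h'
  let L := (Dual.inD Pp Pp)⟦(n : ℤ)⟧
  have hc' : IsRA (A := Pp) (B := A) W L c := hc
  let e0 : Dual.inD Pp A ≅ (resD Pp A).obj (Dual.inD A A) :=
    (DerivedCategory.singleFunctor (ModuleCat.{u} Pp) 0).mapIso (resSelf (A := Pp) (B := A)).symm ≪≫
      (((res Pp A).mapDerivedCategorySingleFunctor 0).app (ModuleCat.of A A)).symm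
  let i : ℤ := -(r : ℤ)
  letI : Module Pp (Dual.HD A W i) := Module.compHom _ (algebraMap Pp A)
  haveI : IsScalarTower Pp A (Dual.HD A W i) := IsScalarTower.of_algebraMap_smul fun _ _ => rfl
  let e2 := Linear.homCongr Pp (Iso.refl (Dual.inD Pp A))
    ((shiftFunctorAdd' (Dual.D Pp) (n : ℤ) i ((n : ℤ) + i) rfl).app (Dual.inD Pp Pp)).symm
  let N := T (Dual.inD Pp Pp) A ((n : ℤ) + i)
  let g : Dual.HD A W i →ₗ[Pp] N :=
    { toFun := fun x => e2 (e0.hom ≫ raMap c i (Dual.inD A A) ((DualCx.homEquiv W i).symm x))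
      map_add' := fun x y => by rw [map_add, raMap_add, Preadditive.comp_add, map_add]
      map_smul' := fun a x => by
        show e2 (e0.hom ≫ raMap c i _ ((DualCx.homEquiv W i).symm (algebraMap Pp A a • x))) = _
        rw [map_smul, raMap_smul, Linear.comp_smul, map_smul]
        rfl }
  have hg : Function.Bijective g :=
    e2.bijective.comp ((Iso.homCongr e0.symm (Iso.refl _)).bijective.comp
      ((hc'.raMap_bijective i _).comp (DualCx.homEquiv W i).symm.bijective) |> fun hh => by
        convert hh using 1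
        funext x
        simp [Iso.homCongr])
  -- `M'` over `B`
  letI : Algebra Pp R' := ((algebraMap A R').comp (algebraMap Pp A)).toAlgebra
  haveI : IsScalarTower Pp A R' := IsScalarTower.of_algebraMap_eq fun _ => rfl
  have hu : ∀ s : Q.primeCompl, IsUnit (algebraMap Pp R' s) := fun s =>
    IsLocalization.map_units R' (⟨ψ.toRingHom s, s.2⟩ : q.primeCompl)
  let β : B →+* R' := IsLocalization.lift (M := Q.primeCompl) hu
  letI : Algebra B R' := β.toAlgebra
  haveI : IsScalarTower Pp B R' := IsScalarTower.of_algebraMap_eq fun a => (IsLocalization.lift_eq hu a).symm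
  have hβ : Function.Surjective (algebraMap B R') := fun y => by
    obtain ⟨a, s, rfl⟩ := IsLocalization.exists_mk'_eq q.primeCompl y
    obtain ⟨a, rfl⟩ := H.surj a
    obtain ⟨t, ht⟩ := H.surj (s : A)
    have htQ : t ∈ Q.primeCompl := fun h => s.2 (show (s : A) ∈ q from ht ▸ h)
    refine ⟨IsLocalization.mk' B a (⟨t, htQ⟩ : Q.primeCompl), ?_⟩
    refine (IsLocalization.lift_mk'_spec (hg := hu) a _ _).2 ?_
    show algebraMap A R' (ψ a) = algebraMap A R' (ψ t) * _
    rw [ht, mul_comm, IsLocalization.mk'_spec]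
  letI : Module Pp M' := Module.compHom _ (algebraMap Pp A)
  haveI : IsScalarTower Pp A M' := IsScalarTower.of_algebraMap_smul fun _ _ => rfl
  letI : Module B M' := Module.compHom _ β
  haveI : IsScalarTower B R' M' := IsScalarTower.of_algebraMap_smul fun _ _ => rfl
  haveI : IsScalarTower Pp B M' := IsScalarTower.of_algebraMap_smul fun a m => by
    show β (algebraMap Pp B a) • m = algebraMap Pp A a • m
    rw [IsLocalization.lift_eq]
    exact algebraMap_smul R' (algebraMap Pp A a) m
  haveI : IsLocalizedModule Q.primeCompl (f.restrictScalars Pp) :=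
    FibDepth.isLocalizedModule_of_surjective (P := Pp) (B := A) H.surj q f
  haveI := (IsLocalizedModule.isBaseChange Q.primeCompl B (f.restrictScalars Pp))
  let eM : B ⊗[Pp] Dual.HD A W i ≃ₗ[B] M' := this.equiv
  haveI : Module.Flat Pp B := IsLocalization.flat B Q.primeCompl
  let K := Dual.inD Pp Pp
  let eK : KB B K ≅ Dual.inD B B :=
    locInD (algebraMap Pp B) Pp ≪≫ (DerivedCategory.singleFunctor (ModuleCat.{u} B) 0).mapIso
      ((tens B Pp).trans (TensorProduct.AlgebraTensorModule.rid Pp B B)).toModuleIso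
  let eb : B ⊗[Pp] N ≃ₗ[B] T (KB B K) (EM (A := Pp) B A) ((n : ℤ) + i) :=
    LinearEquiv.ofBijective _ (bT_bijective B K (a := 0)
      (fun i hi => subsingleton_hd_inD Pp (ne_of_lt hi)) A _)
  let e : M' ≃ₗ[B] T (Dual.inD B B) (B ⊗[Pp] A) ((n : ℤ) + i) :=
    eM.symm.trans ((TensorProduct.AlgebraTensorModule.congr (LinearEquiv.refl B B) (LinearEquiv.ofBijective g hg)).trans
      (eb.trans ((DualCx.congr _ _ (tens B A).symm).trans
        (Linear.homCongr B (Iso.refl _) ((CategoryTheory.shiftFunctor _ ((n : ℤ) + i)).mapIso eK)))))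
  rcases le_or_gt r n with hrn | hrn
  · obtain ⟨rs, hw, hlen, hmem, hker⟩ := H.exists_regular
    have h2 := Shriek.min_two_le_depth rs hw hmem (N := B ⊗[Pp] A) hker
    rw [show ((rs.length : ℕ) : ℤ) = (n : ℤ) + i by rw [hlen]; omega] at h2
    haveI : IsNoetherianRing R' := IsLocalization.isNoetherianRing q.primeCompl R' inferInstance
    haveI : Module.Finite B (T (Dual.inD B B) (B ⊗[Pp] A) ((n : ℤ) + i)) :=
      finite_T_coh (fun j => finite_hd_inD B j) (a := 0) (fun j hj => subsingleton_hd_inD B (ne_of_lt hj)) _ _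
    haveI : Module.Finite B M' := Module.Finite.equiv e.symm
    rw [← FibDepth.supportDim_eq_of_surjective hβ M', ← LocH.depth_eq_of_surjective hβ M',
      Module.supportDim_eq_of_equiv e, LocCoh.depth, LocH.idealDepth_congr e]
    exact h2
  · haveI : Subsingleton (T (Dual.inD B B) (B ⊗[Pp] A) ((n : ℤ) + i)) := subsingleton_neg (show (n : ℤ) + i < 0 by omega)
    haveI : Subsingleton M' := e.toEquiv.subsingleton
    rw [Module.supportDim_eq_bot_of_subsingleton]
    exact le_trans (min_le_right _ _) bot_le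

end

end Groth.Agent.Shriek
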