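import Groth.Agent.Shriek.RA
import Groth.Prelude.Def_Disc

/-!
`H⁰(RHom_A(B, A)) = Hom_A(B, A)`.
-/

set_option autoImplicit false
set_option linter.style.haveILetI false
set_option maxHeartbeats 1000000
set_option backward.isDefEq.respectTransparency false
universe u

namespace Groth.Agent.Shriek

open CategoryTheory CategoryTheory.Limits DerivedCategory
open Groth.Agent.DualCx

attribute [local instance] HasDerivedCategory.standard

noncomputable section

variable {A B : Type u} [CommRing A] [CommRing B] [Algebra A B]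

theorem RA.nonempty_hd_omega {W : Dual.D B} (h : RA (algebraMap A B) W (Dual.inD A A)) :
    Nonempty (Dual.HD B W 0 ≃ₗ[B] Disc.Omega A B) := by
  obtain ⟨c, hc⟩ := h
  have hc' : IsRA W (Dual.inD A A) c := hc
  let S := DerivedCategory.singleFunctor (ModuleCat.{u} A) 0
  let e1 := ((res A B).mapDerivedCategorySingleFunctor 0).app (ModuleCat.of B B)
  let e0 : Dual.inD A B ≅ (resD A B).obj (Dual.inD B B) := S.mapIso (resSelf (A := A) (B := B)).symm ≪≫ e1.symm
  let z := (shiftFunctorZero (Dual.D A) ℤ).app (Dual.inD A A)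
  let Φ : T W B 0 → (ModuleCat.of A B ⟶ ModuleCat.of A A) := fun f =>
    S.preimage (e0.hom ≫ raMap c 0 _ f ≫ z.hom)
  have hΦ : Function.Bijective Φ := by
    refine (Functor.FullyFaithful.ofFullyFaithful S).homEquiv.symm.bijective.comp ?_
    convert (Iso.homCongr e0.symm z).bijective.comp (hc'.raMap_bijective 0 (Dual.inD B B)) using 1
    funext f
    simp [Iso.homCongr_apply]
  have hadd : ∀ f g, Φ (f + g) = Φ f + Φ g := fun f g => S.map_injective (by
    rw [Functor.map_add]
    simp [Φ, raMap_add, Preadditive.add_comp, Preadditive.comp_add])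
  have hsmul : ∀ (b : B) f, Φ (b • f) = ModuleCat.ofHom (LinearMap.mulLeft A b) ≫ Φ f := fun b f => S.map_injective (by
    have hb : b • f = (DerivedCategory.singleFunctor (ModuleCat.{u} B) 0).map (ModuleCat.ofHom (b • LinearMap.id)) ≫ f :=
      ((pre_apply _ f).symm.trans (pre_smul_id b f)).symm
    let g : ModuleCat.of B B ⟶ ModuleCat.of B B := ModuleCat.ofHom (b • LinearMap.id)
    have h1 : e0.hom ≫ (resD A B).map ((DerivedCategory.singleFunctor (ModuleCat.{u} B) 0).map g) =
        S.map (ModuleCat.ofHom (LinearMap.mulLeft A b)) ≫ e0.hom := by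
      show (S.map (resSelf (A := A) (B := B)).inv ≫ e1.inv) ≫ _ = _ ≫ S.map (resSelf (A := A) (B := B)).inv ≫ e1.inv
      have hn := ((res A B).mapDerivedCategorySingleFunctor 0).inv.naturality g
      have hs : (resSelf (A := A) (B := B)).inv ≫ (res A B).map g =
          ModuleCat.ofHom (LinearMap.mulLeft A b) ≫ (resSelf (A := A) (B := B)).inv := rfl
      rw [Category.assoc]
      refine (congrArg (S.map (resSelf (A := A) (B := B)).inv ≫ ·) hn.symm).trans ?_
      show S.map _ ≫ S.map ((res A B).map g) ≫ e1.inv = _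
      rw [← S.map_comp_assoc, hs, S.map_comp, Category.assoc]
    simp only [Φ, Functor.map_comp, Functor.map_preimage]
    rw [hb]
    show e0.hom ≫ ((resD A B).map (_ ≫ f) ≫ ((resD A B).commShiftIso (0 : ℤ)).hom.app W ≫ c⟦(0 : ℤ)⟧') ≫ z.hom = _
    rw [Functor.map_comp]
    simp only [Category.assoc]
    rw [reassoc_of% h1]
    simp [raMap])
  let Ω : T W B 0 ≃ₗ[B] Disc.Omega A B := LinearEquiv.ofBijective
    { toFun := fun f => ⟨(Φ f).hom⟩
      map_add' := fun f g => Disc.Omega.ext (congrArg ModuleCat.Hom.hom (hadd f g))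
      map_smul' := fun b f => Disc.Omega.ext (congrArg ModuleCat.Hom.hom (hsmul b f)) }
    ⟨fun f g hfg => hΦ.1 (ModuleCat.hom_ext (congrArg Disc.Omega.toLinearMap hfg)), fun φ => by
      obtain ⟨f, hf⟩ := hΦ.2 (ModuleCat.ofHom φ.toLinearMap)
      exact ⟨f, Disc.Omega.ext (congrArg ModuleCat.Hom.hom hf)⟩⟩
  exact ⟨(DualCx.homEquiv W 0).symm.trans Ω⟩

end

end Groth.Agent.Shriek
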