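import Groth.Agent.DTenLib.Base
import Groth.Agent.KFlat.StalkTot
import Groth.Prelude.Def_DTen5

/-!
Restriction of scalars of complexes is lax monoidal; the action of the algebra and the projection isomorphism.
-/

set_option autoImplicit false
set_option linter.style.haveILetI false
set_option maxHeartbeats 1000000
set_option backward.isDefEq.respectTransparency false
universe u

namespace Groth.Agent.Shriek

open CategoryTheory CategoryTheory.Limits MonoidalCategory HomologicalComplex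

attribute [local instance] HasDerivedCategory.standard

noncomputable section

variable {R A : Type u} [CommRing R] [CommRing A] (φ : R →+* A)

@[reassoc]
theorem ι_assoc_hom {S : Type u} [CommRing S] (K L M : DRing.Cx S) (i j k n ij jk : ℤ)
    (hij : i + j = ij) (h : ij + k = n) (hjk : j + k = jk) (h' : i + jk = n) :
    (ιTensorObj K L i j ij hij ▷ M.X k) ≫ ιTensorObj (K ⊗ L) M ij k n h ≫ (α_ K L M).hom.f n =
      (α_ (K.X i) (L.X j) (M.X k)).hom ≫ (K.X i ◁ ιTensorObj L M j k jk hjk) ≫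
        ιTensorObj K (L ⊗ M) i jk n h' := by
  have h₀ : i + j + k = n := by lia
  refine (Category.assoc _ _ _).symm.trans ?_
  refine ((congrArg (· ≫ _) (mapBifunctor₁₂.ι_eq (curriedTensor (ModuleCat.{u} S)) (curriedTensor (ModuleCat.{u} S))
    K L M (ComplexShape.up ℤ) (ComplexShape.up ℤ) i j k ij n hij h).symm).trans ?_).trans
    (congrArg _ (mapBifunctor₂₃.ι_eq (curriedTensor (ModuleCat.{u} S)) (curriedTensor (ModuleCat.{u} S))
      K L M (ComplexShape.up ℤ) (ComplexShape.up ℤ) (ComplexShape.up ℤ) i j k jk n hjk h'))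
  exact ι_mapBifunctorAssociatorX_hom (curriedAssociatorNatIso (ModuleCat.{u} S)) K L M
    (ComplexShape.up ℤ) (ComplexShape.up ℤ) (ComplexShape.up ℤ) i j k n h₀

/-- restriction is associative -/
theorem resTenCx_assoc (X Y Z : DRing.Cx A) :
    (DTen.resTenCx φ X Y ▷ (DTen.resCx φ).obj Z) ≫ DTen.resTenCx φ (X ⊗ Y) Z ≫
        (DTen.resCx φ).map (α_ X Y Z).hom =
      (α_ _ _ _).hom ≫ ((DTen.resCx φ).obj X ◁ DTen.resTenCx φ Y Z) ≫ DTen.resTenCx φ X (Y ⊗ Z) := by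
  refine HomologicalComplex.hom_ext _ _ fun n => mapBifunctor₁₂.hom_ext fun i j k h => ?_
  have hm : i + j + k = n := h
  let r := DTen.resCx φ
  let rM := DTen.resM φ
  let S := rM.obj (X.X i) ⊗ rM.obj (Y.X j)
  show mapBifunctor₁₂.ι (curriedTensor (ModuleCat.{u} R)) (curriedTensor (ModuleCat.{u} R)) (r.obj X) (r.obj Y)
      (r.obj Z) (ComplexShape.up ℤ) (ComplexShape.up ℤ) i j k n h ≫
      ((DTen.resTenCx φ X Y ▷ r.obj Z).f n ≫ (DTen.resTenCx φ (X ⊗ Y) Z).f n ≫ rM.map ((α_ X Y Z).hom.f n)) =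
    mapBifunctor₁₂.ι (curriedTensor (ModuleCat.{u} R)) (curriedTensor (ModuleCat.{u} R)) (r.obj X) (r.obj Y)
      (r.obj Z) (ComplexShape.up ℤ) (ComplexShape.up ℤ) i j k n h ≫
      ((α_ (r.obj X) (r.obj Y) (r.obj Z)).hom.f n ≫ (r.obj X ◁ DTen.resTenCx φ Y Z).f n ≫
        (DTen.resTenCx φ X (Y ⊗ Z)).f n)
  rw [mapBifunctor₁₂.ι_eq _ _ _ _ _ _ _ i j k (i + j) n rfl hm]
  have a : ιTensorObj (r.obj X ⊗ r.obj Y) (r.obj Z) (i + j) k n hm ≫ (DTen.resTenCx φ X Y ▷ r.obj Z).f n =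
      ((DTen.resTenCx φ X Y).f (i + j) ▷ rM.obj (Z.X k)) ≫
        ιTensorObj (r.obj (X ⊗ Y)) (r.obj Z) (i + j) k n hm := by
    refine (ι_mapBifunctorMap (DTen.resTenCx φ X Y) (𝟙 (r.obj Z)) (curriedTensor (ModuleCat.{u} R))
      (ComplexShape.up ℤ) (i + j) k n hm).trans ?_
    rw [HomologicalComplex.id_f, CategoryTheory.Functor.map_id]
    exact congrArg (_ ≫ ·) (Category.id_comp _)
  have b : ιTensorObj (r.obj X) (r.obj Y ⊗ r.obj Z) i (j + k) n (by lia) ≫ (r.obj X ◁ DTen.resTenCx φ Y Z).f n =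
      (rM.obj (X.X i) ◁ (DTen.resTenCx φ Y Z).f (j + k)) ≫
        ιTensorObj (r.obj X) (r.obj (Y ⊗ Z)) i (j + k) n (by lia) := by
    refine (ι_mapBifunctorMap (𝟙 (r.obj X)) (DTen.resTenCx φ Y Z) (curriedTensor (ModuleCat.{u} R))
      (ComplexShape.up ℤ) i (j + k) n _).trans ?_
    rw [HomologicalComplex.id_f, CategoryTheory.Functor.map_id]
    exact (Category.assoc _ _ _).symm.trans (congrArg (fun w => w ≫ _) (Category.id_comp _))
  have c : (ιTensorObj (r.obj X) (r.obj Y) i j (i + j) rfl) ≫ (DTen.resTenCx φ X Y).f (i + j) =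
      DTen.resTen₀app φ (X.X i) (Y.X j) ≫ rM.map (ιTensorObj X Y i j (i + j) rfl) :=
    DTen.ι_resTenCx φ X Y i j (i + j) rfl
  have d : ιTensorObj (r.obj (X ⊗ Y)) (r.obj Z) (i + j) k n hm ≫ (DTen.resTenCx φ (X ⊗ Y) Z).f n =
      DTen.resTen₀app φ ((X ⊗ Y).X (i + j)) (Z.X k) ≫ rM.map (ιTensorObj (X ⊗ Y) Z (i + j) k n hm) :=
    DTen.ι_resTenCx φ (X ⊗ Y) Z (i + j) k n hm
  have e : ιTensorObj (r.obj Y) (r.obj Z) j k (j + k) rfl ≫ (DTen.resTenCx φ Y Z).f (j + k) =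
      DTen.resTen₀app φ (Y.X j) (Z.X k) ≫ rM.map (ιTensorObj Y Z j k (j + k) rfl) :=
    DTen.ι_resTenCx φ Y Z j k (j + k) rfl
  have f : ιTensorObj (r.obj X) (r.obj (Y ⊗ Z)) i (j + k) n (by lia) ≫ (DTen.resTenCx φ X (Y ⊗ Z)).f n =
      DTen.resTen₀app φ (X.X i) ((Y ⊗ Z).X (j + k)) ≫ rM.map (ιTensorObj X (Y ⊗ Z) i (j + k) n (by lia)) :=
    DTen.ι_resTenCx φ X (Y ⊗ Z) i (j + k) n _
  have g1 : (ιTensorObj (r.obj X) (r.obj Y) i j (i + j) rfl ▷ rM.obj (Z.X k)) ≫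
      ιTensorObj (r.obj X ⊗ r.obj Y) (r.obj Z) (i + j) k n hm ≫
        ((DTen.resTenCx φ X Y ▷ r.obj Z).f n ≫ (DTen.resTenCx φ (X ⊗ Y) Z).f n ≫ rM.map ((α_ X Y Z).hom.f n)) =
      (DTen.resTen₀app φ (X.X i) (Y.X j) ▷ rM.obj (Z.X k)) ≫
        (rM.map (ιTensorObj X Y i j (i + j) rfl) ▷ rM.obj (Z.X k)) ≫
          DTen.resTen₀app φ ((X ⊗ Y).X (i + j)) (Z.X k) ≫
            rM.map (ιTensorObj (X ⊗ Y) Z (i + j) k n hm ≫ (α_ X Y Z).hom.f n) := by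
    rw [reassoc_of% a, reassoc_of% d, ← comp_whiskerRight_assoc, c, comp_whiskerRight_assoc, Functor.map_comp]
  have g2 : ((ιTensorObj (r.obj X) (r.obj Y) i j (i + j) rfl ▷ rM.obj (Z.X k)) ≫
      ιTensorObj (r.obj X ⊗ r.obj Y) (r.obj Z) (i + j) k n hm ≫ (α_ (r.obj X) (r.obj Y) (r.obj Z)).hom.f n) ≫
        (r.obj X ◁ DTen.resTenCx φ Y Z).f n ≫ (DTen.resTenCx φ X (Y ⊗ Z)).f n =
      (α_ (rM.obj (X.X i)) (rM.obj (Y.X j)) (rM.obj (Z.X k))).hom ≫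
        (rM.obj (X.X i) ◁ DTen.resTen₀app φ (Y.X j) (Z.X k)) ≫
          (rM.obj (X.X i) ◁ rM.map (ιTensorObj Y Z j k (j + k) rfl)) ≫
            DTen.resTen₀app φ (X.X i) ((Y ⊗ Z).X (j + k)) ≫
              rM.map (ιTensorObj X (Y ⊗ Z) i (j + k) n (by lia)) := by
    have h1 := ι_assoc_hom (r.obj X) (r.obj Y) (r.obj Z) i j k n (i + j) (j + k) rfl hm rfl (by lia)
    refine (congrArg (· ≫ _) h1).trans ?_
    simp only [Category.assoc]
    rw [reassoc_of% b, f]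
    erw [← MonoidalCategory.whiskerLeft_comp_assoc, e, MonoidalCategory.whiskerLeft_comp_assoc]
    rfl
  refine ((Category.assoc _ _ _).trans g1).trans
    (Eq.trans ?_ (g2.symm.trans ((Category.assoc _ _ _).trans ((congrArg (_ ≫ ·) (Category.assoc _ _ _)).trans
      (Category.assoc _ _ _).symm))))
  have key : (ιTensorObj X Y i j (i + j) rfl ▷ Z.X k) ≫ ιTensorObj (X ⊗ Y) Z (i + j) k n hm ≫ (α_ X Y Z).hom.f n =
      (α_ (X.X i) (Y.X j) (Z.X k)).hom ≫ (X.X i ◁ ιTensorObj Y Z j k (j + k) rfl) ≫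
        ιTensorObj X (Y ⊗ Z) i (j + k) n (by lia) := ι_assoc_hom X Y Z i j k n _ _ rfl hm rfl (by lia)
  refine Eq.trans (b := (DTen.resTen₀app φ (X.X i) (Y.X j) ▷ rM.obj (Z.X k)) ≫
    DTen.resTen₀app φ (X.X i ⊗ Y.X j) (Z.X k) ≫
      rM.map ((ιTensorObj X Y i j (i + j) rfl ▷ Z.X k) ≫ ιTensorObj (X ⊗ Y) Z (i + j) k n hm ≫ (α_ X Y Z).hom.f n)) ?_ ?_
  · exact ModuleCat.MonoidalCategory.tensor_ext₃' fun _ _ _ => rfl
  · rw [key]
    exact ModuleCat.MonoidalCategory.tensor_ext₃' fun _ _ _ => rfl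

/-- the projection map -/
def pfCx (Y : DRing.Cx A) (C : DRing.Cx R) :
    (DTen.resCx φ).obj Y ⊗ C ⟶ (DTen.resCx φ).obj (Y ⊗ (DTen.extCx φ).obj C) :=
  ((DTen.resCx φ).obj Y ◁ (DTen.unitCx φ).app C) ≫ DTen.resTenCx φ Y ((DTen.extCx φ).obj C)

theorem pfCx_eq (Y : DRing.Cx A) (C : DRing.Cx R) : pfCx φ Y C = (KFlat.projTotIso φ Y C).hom := by
  refine HomologicalComplex.hom_ext _ _ fun n => mapBifunctor.hom_ext fun p q h => ?_
  refine Eq.trans ?_ (KFlat.ι_mapTensX (ModuleCat.restrictScalars φ) (𝟭 _) (𝟭 _)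
    (ModuleCat.extendScalars.{u, u, u} φ) (ModuleCat.restrictScalars φ) (curriedTensor (ModuleCat.{u} A))
    (curriedTensor (ModuleCat.{u} R)) (KFlat.projIso φ) Y C n p q h).symm
  simp only [pfCx, HomologicalComplex.comp_f]
  erw [ι_mapBifunctorMap_assoc, DTen.ι_resTenCx φ Y ((DTen.extCx φ).obj C) p q n h]
  refine ModuleCat.MonoidalCategory.tensor_ext fun a b => ?_
  rfl

instance isIso_pfCx (Y : DRing.Cx A) (C : DRing.Cx R) : IsIso (pfCx φ Y C) := by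
  rw [pfCx_eq]; infer_instance

theorem pfCx_natural {Y Y' : DRing.Cx A} (g : Y ⟶ Y') (C : DRing.Cx R) :
    ((DTen.resCx φ).map g ▷ C) ≫ pfCx φ Y' C =
      pfCx φ Y C ≫ (DTen.resCx φ).map (g ▷ (DTen.extCx φ).obj C) := by
  have h := DTen.resTenCx_naturality φ g (𝟙 ((DTen.extCx φ).obj C))
  rw [CategoryTheory.Functor.map_id, MonoidalCategory.tensorHom_id, MonoidalCategory.tensorHom_id] at h
  exact (Category.assoc _ _ _).symm.trans ((congrArg (· ≫ _)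
    (whisker_exchange ((DTen.resCx φ).map g) ((DTen.unitCx φ).app C)).symm).trans ((Category.assoc _ _ _).trans
      ((congrArg (_ ≫ ·) h).trans (Category.assoc _ _ _).symm)))

variable {F : DRing.Cx R} (α : F ⟶ (DTen.resCx φ).obj (𝟙_ (DRing.Cx A)))

/-- the action of `F → A` on restrictions -/
def act (Y : DRing.Cx A) : F ⊗ (DTen.resCx φ).obj Y ⟶ (DTen.resCx φ).obj Y :=
  (α ▷ (DTen.resCx φ).obj Y) ≫ DTen.resTenCx φ (𝟙_ (DRing.Cx A)) Y ≫ (DTen.resCx φ).map (λ_ Y).hom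

theorem act_natural {Y Y' : DRing.Cx A} (g : Y ⟶ Y') :
    (F ◁ (DTen.resCx φ).map g) ≫ act φ α Y' = act φ α Y ≫ (DTen.resCx φ).map g := by
  have h := DTen.resTenCx_naturality φ (𝟙 (𝟙_ (DRing.Cx A))) g
  rw [CategoryTheory.Functor.map_id, MonoidalCategory.id_tensorHom, MonoidalCategory.id_tensorHom] at h
  rw [act, act, whisker_exchange_assoc, reassoc_of% h, ← Functor.map_comp,
    MonoidalCategory.leftUnitor_naturality, Functor.map_comp]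
  simp only [Category.assoc]

theorem act_pfCx (Y : DRing.Cx A) (C : DRing.Cx R) :
    (F ◁ pfCx φ Y C) ≫ act φ α (Y ⊗ (DTen.extCx φ).obj C) =
      (α_ _ _ _).inv ≫ (act φ α Y ▷ C) ≫ pfCx φ Y C := by
  let E := (DTen.extCx φ).obj C
  let I : DRing.Cx A := 𝟙_ (DRing.Cx A)
  let r := DTen.resCx φ
  let u : C ⟶ r.obj E := (DTen.unitCx φ).app C
  let tIY : r.obj I ⊗ r.obj Y ⟶ r.obj (I ⊗ Y) := DTen.resTenCx φ I Y
  let tYE : r.obj Y ⊗ r.obj E ⟶ r.obj (Y ⊗ E) := DTen.resTenCx φ Y E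
  let tIYE : r.obj I ⊗ r.obj (Y ⊗ E) ⟶ r.obj (I ⊗ (Y ⊗ E)) := DTen.resTenCx φ I (Y ⊗ E)
  let lY : r.obj (I ⊗ Y) ⟶ r.obj Y := r.map (λ_ Y).hom
  let lYE : r.obj (I ⊗ (Y ⊗ E)) ⟶ r.obj (Y ⊗ E) := r.map (λ_ (Y ⊗ E)).hom
  have hn : (lY ▷ r.obj E) ≫ tYE = DTen.resTenCx φ (I ⊗ Y) E ≫ r.map ((λ_ Y).hom ▷ E) := by
    have h := DTen.resTenCx_naturality φ (λ_ Y).hom (𝟙 E)
    rw [CategoryTheory.Functor.map_id, MonoidalCategory.tensorHom_id, MonoidalCategory.tensorHom_id] at h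
    exact h
  have hl : (λ_ (Y ⊗ E)).hom = (α_ I Y E).inv ≫ ((λ_ Y).hom ▷ E) := by monoidal
  have hass : (r.obj I ◁ tYE) ≫ tIYE ≫ lYE =
      (α_ _ _ _).inv ≫ (tIY ▷ r.obj E) ≫ (lY ▷ r.obj E) ≫ tYE := by
    rw [hn]
    have h := resTenCx_assoc φ I Y E
    have e : lYE = r.map (α_ I Y E).inv ≫ r.map ((λ_ Y).hom ▷ E) := by
      rw [← Functor.map_comp, ← hl]
    have h' : (r.obj I ◁ tYE) ≫ tIYE = (α_ _ _ _).inv ≫ (tIY ▷ r.obj E) ≫ DTen.resTenCx φ (I ⊗ Y) E ≫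
        r.map (α_ I Y E).hom := by
      rw [Iso.eq_inv_comp]
      exact h.symm
    rw [e, reassoc_of% h', ← Functor.map_comp_assoc, Iso.hom_inv_id, CategoryTheory.Functor.map_id,
      Category.id_comp]
  show (F ◁ ((r.obj Y ◁ u) ≫ tYE)) ≫ (α ▷ r.obj (Y ⊗ E)) ≫ tIYE ≫ lYE =
    (α_ F (r.obj Y) C).inv ≫ (((α ▷ r.obj Y) ≫ tIY ≫ lY) ▷ C) ≫ (r.obj Y ◁ u) ≫ tYE
  have l1 : (F ◁ ((r.obj Y ◁ u) ≫ tYE)) ≫ (α ▷ r.obj (Y ⊗ E)) =
      (F ◁ (r.obj Y ◁ u)) ≫ (α ▷ (r.obj Y ⊗ r.obj E)) ≫ (r.obj I ◁ tYE) := by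
    rw [MonoidalCategory.whiskerLeft_comp, Category.assoc, whisker_exchange]
  rw [reassoc_of% l1, hass]
  simp only [comp_whiskerRight, Category.assoc]
  rw [← whisker_exchange_assoc lY u, ← whisker_exchange_assoc tIY u, ← whisker_exchange_assoc (α ▷ r.obj Y) u]
  monoidal

end

end Groth.Agent.Shriek
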