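import Groth.Agent.Shriek.BCSetup

/-!
Base change of `RHom_P(A, P)` along a map of the base, for `A` flat over the base and perfect over `P`.
-/

set_option autoImplicit false
set_option linter.style.haveILetI false
set_option maxHeartbeats 2000000
set_option backward.isDefEq.respectTransparency false
universe u

namespace Groth.Agent.Shriek

open CategoryTheory CategoryTheory.Limits MonoidalCategory HomologicalComplex

attribute [local instance] HasDerivedCategory.standard

noncomputable section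

theorem Q_whiskerRight_congr {R : Type u} [CommRing R] {K : DRing.Cx R} (hK : DRing.IsKFlat R K) {X Y : DRing.Cx R}
    {f g : X ⟶ Y} (h : DerivedCategory.Q.map f = DerivedCategory.Q.map g) :
    DerivedCategory.Q.map (f ▷ K) = DerivedCategory.Q.map (g ▷ K) := by
  let G : DRing.Cx R ⥤ Dual.D R := tensorRight K ⋙ DerivedCategory.Q
  have hG : (HomologicalComplex.quasiIso (ModuleCat.{u} R) (ComplexShape.up ℤ)).IsInvertedBy G := fun X Y a ha => by
    haveI : QuasiIso a := ha
    haveI := quasiIso_tensor_hom hK a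
    exact inferInstanceAs (IsIso (DerivedCategory.Q.map (a ▷ K)))
  let e : DerivedCategory.Q ⋙ Localization.lift G hG DerivedCategory.Q ≅ G := Localization.fac G hG _
  show G.map f = G.map g
  rw [← cancel_epi (e.hom.app X), ← e.hom.naturality f, ← e.hom.naturality g, Functor.comp_map, Functor.comp_map, h]

section Gamma

variable {R A : Type u} [CommRing R] [CommRing A] (φ : R →+* A)

/-- the comparison `QX → res Q(A ⊗ X)` on maps -/
def gam (X : DRing.Cx R) {N : DRing.Cx A}
    (y : DerivedCategory.Q.obj ((DTen.extCx φ).obj X) ⟶ DerivedCategory.Q.obj N) :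
    DerivedCategory.Q.obj X ⟶ DerivedCategory.Q.obj ((DTen.resCx φ).obj N) :=
  DTenLib.γ₀ φ X ≫ (DRing.restrictD φ).map y ≫ (DTen.resFactors φ).hom.app N

theorem gam_Q (X : DRing.Cx R) {N : DRing.Cx A} (z : (DTen.extCx φ).obj X ⟶ N) :
    gam φ X (DerivedCategory.Q.map z) =
      DerivedCategory.Q.map ((DTen.unitCx φ).app X ≫ (DTen.resCx φ).map z) := by
  rw [gam, ← Category.assoc, γ₀_res, Category.assoc, Iso.inv_hom_id_app]
  exact Category.comp_id _

theorem gam_comp (X : DRing.Cx R) {N M : DRing.Cx A}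
    (y : DerivedCategory.Q.obj ((DTen.extCx φ).obj X) ⟶ DerivedCategory.Q.obj N)
    (e : DerivedCategory.Q.obj N ⟶ DerivedCategory.Q.obj M) :
    gam φ X (y ≫ e) = gam φ X y ≫ (DTen.resFactors φ).inv.app N ≫ (DRing.restrictD φ).map e ≫
      (DTen.resFactors φ).hom.app M := by
  rw [gam, gam, Functor.map_comp]
  simp

theorem bijective_gam_kProj (X : DRing.Cx R) [X.IsKProjective] (N : DRing.Cx A) :
    Function.Bijective (gam φ X (N := N)) := by
  have h : gam φ X (N := N) = (fun w => w ≫ (DTen.resFactors φ).hom.app N) ∘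
      (fun y => DTenLib.γ₀ φ X ≫ (DRing.restrictD φ).map y) := funext fun y => (Category.assoc _ _ _).symm
  rw [h]
  exact Function.Bijective.comp ⟨fun a b h => (cancel_mono _).1 h,
    fun y => ⟨y ≫ (DTen.resFactors φ).inv.app N, by simp⟩⟩ (DTenLib.bijective_γ₀ φ X N)

theorem bijective_gam_of_quasiIso {X₀ X : DRing.Cx R} [X₀.IsKProjective] (q : X₀ ⟶ X) [QuasiIso q]
    [QuasiIso ((DTen.extCx φ).map q)] (N : DRing.Cx A) : Function.Bijective (gam φ X (N := N)) := by
  have h : (fun w => DerivedCategory.Q.map q ≫ w) ∘ gam φ X (N := N) =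
      gam φ X₀ (N := N) ∘ (fun y => DerivedCategory.Q.map ((DTen.extCx φ).map q) ≫ y) := funext fun y => by
    have hq : DerivedCategory.Q.map q ≫ DTenLib.γ₀ φ X = DTenLib.γ₀ φ X₀ ≫
        (DRing.restrictD φ).map (DerivedCategory.Q.map ((DTen.extCx φ).map q)) := by
      rw [γ₀_res, DTenLib.γ₀, ← DerivedCategory.Q.map_comp_assoc]
      exact congrArg (fun w => DerivedCategory.Q.map w ≫ _) ((DTen.unitCx φ).naturality q)
    show DerivedCategory.Q.map q ≫ gam φ X y = gam φ X₀ _
    rw [gam, gam, reassoc_of% hq, Functor.map_comp, Category.assoc]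
  have h1 : Function.Bijective ((fun w => DerivedCategory.Q.map q ≫ w) ∘ gam φ X (N := N)) := by
    rw [h]
    exact (bijective_gam_kProj φ X₀ N).comp
      ⟨fun a b h => (cancel_epi _).1 h, fun y => ⟨inv (DerivedCategory.Q.map ((DTen.extCx φ).map q)) ≫ y, by simp⟩⟩
  exact (Function.Bijective.of_comp_iff'
    ⟨fun a b h => (cancel_epi (DerivedCategory.Q.map q)).1 h, fun y => ⟨inv (DerivedCategory.Q.map q) ≫ y, by simp⟩⟩ _).1 h1

end Gamma

variable (R R' : Type u) {P P' A A' : Type u} [CommRing R] [CommRing R'] [CommRing P] [CommRing P'] [CommRing A]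
  [CommRing A'] [Algebra R R'] [Algebra R P] [Algebra R' P'] [Algebra P P'] [Algebra R P']
  [IsScalarTower R R' P'] [IsScalarTower R P P'] [Algebra.IsPushout R R' P P']
  [Algebra P A] [Algebra P' A'] [Algebra A A'] [Algebra P A'] [IsScalarTower P P' A'] [IsScalarTower P A A']
  [Algebra.IsPushout P P' A A'] [Algebra R A] [IsScalarTower R P A]

include R' in
/-- Base change of the relative dualizing complex along an arbitrary map of the base. -/
theorem RA.baseChange_perfect (hP : (algebraMap R P).Flat) (hA : (algebraMap R A).Flat)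
    (hperf : letI := (algebraMap P A).toAlgebra; DRing.IsPerfectModule P A) {W : DRing.Cx A}
    (hW : DRing.IsKFlat A W) (k : ℤ)
    (h : RA (algebraMap P A) (DerivedCategory.Q.obj W) (DerivedCategory.Q.obj (freeAt P k))) :
    RA (algebraMap P' A') (DerivedCategory.Q.obj ((DTen.extCx (algebraMap A A')).obj W))
      (DerivedCategory.Q.obj (freeAt P' k)) := by
  let φ := algebraMap P A
  let θ := algebraMap P P'
  let φ' := algebraMap P' A'
  let χ := algebraMap A A'
  let J0 := freeAt P k
  let J0' := (DTen.extCx θ).obj J0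
  let W' := (DTen.extCx χ).obj W
  obtain ⟨d⟩ := exists_perfData φ hperf
  letI := d.pair
  haveI := d.hα
  obtain ⟨J, f, hJ, hf, -, -⟩ := KInj.exists_kInjective J0
  haveI := hJ
  haveI := hf
  obtain ⟨cD, hcD⟩ := h
  obtain ⟨c₀, hc₀⟩ : ∃ c₀ : (DRing.restrictD φ).obj (DerivedCategory.Q.obj W) ⟶ DerivedCategory.Q.obj J,
      IsU φ c₀ := RA.of_iso ⟨cD, hcD⟩ (Iso.refl _) (asIso (DerivedCategory.Q.map f))
  obtain ⟨c, hc⟩ := exists_lift_kInj ((DTen.resFactors φ).inv.app W ≫ c₀)
  have hcQ : cQ φ c = c₀ := by rw [cQ, hc, Iso.hom_inv_id_app_assoc]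
  haveI hflat := quasiIso_flatCx (D := d.D) φ d.α c d.hF d.hD d.hFS (hcQ ▸ hc₀)
  -- a free representative of `W`
  let D0 := d.D ⊗ J0
  haveI : D0.IsKProjective := DRingKP.isKProjective_of_finiteProjective (-d.a + k)
    (fun i hi => DRingKP.tensor_vanishes i fun p q hpq => by
      by_cases hp : -d.a < p
      · exact Or.inl (d.hzeroD p (Or.inr hp))
      · exact Or.inr (vanishesAbove_freeAt k q (by lia)))
    (DRingKP.tensor_finiteProjective (b := -d.a) (c := k) (fun i hi => d.hzeroD i (Or.inr hi))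
      (vanishesAbove_freeAt k) d.hprojD (termwiseFiniteProjective_freeAt k))
  haveI : QuasiIso (d.D ◁ f) := DTenLib.isKFlat_comm d.hD f (show QuasiIso f from inferInstance)
  obtain ⟨g, hg⟩ := PerfLocal.exists_lift (R := P)
    (DerivedCategory.Q.map (d.D ◁ f) ≫ inv (DerivedCategory.Q.map (flatCx (D := d.D) φ d.α c)))
  haveI : IsIso (DerivedCategory.Q.map g) := by rw [hg]; infer_instance
  haveI : QuasiIso g := (DerivedCategory.isIso_Q_map_iff_quasiIso _ g).1 inferInstance
  obtain ⟨m, hm⟩ := PerfLocal.exists_lift (R := P)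
    ((DerivedCategory.Q.map g ≫ DerivedCategory.Q.map c ≫ inv (DerivedCategory.Q.map f) :
      DerivedCategory.Q.obj D0 ⟶ DerivedCategory.Q.obj J0))
  -- flatness over the base
  have hJ0 : DRing.IsKFlat P J0 := isKFlat_freeAt k
  have hD0 : DRing.IsKFlat P D0 := DTenLib.isKFlat_tensor d.hD hJ0
  haveI hEg : QuasiIso ((DTen.extCx θ).map g) :=
    quasiIso_ext_of_base R R' g (isKFlat_resCx _ hP hD0) (isKFlat_res_tower R hA hW)
  obtain ⟨C1, e1, hC1p, hC1, -, he1⟩ := DRingKP.exists_kProj_kFlat_resolution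
    ((DTen.resCx θ).obj (𝟙_ (DRing.Cx P')))
  haveI := he1
  -- the candidate counit
  let κ := kapCx (P := P) (P' := P') (A := A) (A' := A') W
  let e' : DerivedCategory.Q.obj ((DTen.resCx φ').obj W') ⟶ DerivedCategory.Q.obj J0' :=
    DerivedCategory.Q.map κ.inv ≫ inv (DerivedCategory.Q.map ((DTen.extCx θ).map g)) ≫
      DerivedCategory.Q.map ((DTen.extCx θ).map m)
  let c' : (DRing.restrictD φ').obj (DerivedCategory.Q.obj W') ⟶ DerivedCategory.Q.obj J0' :=
    (DTen.resFactors φ').hom.app W' ≫ e'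
  let cs : DerivedCategory.Q.obj ((DTen.resCx θ).obj ((DTen.resCx φ').obj W')) ⟶
      DerivedCategory.Q.obj ((DTen.resCx θ).obj J0') :=
    (DTen.resFactors θ).inv.app _ ≫ (DRing.restrictD θ).map e' ≫ (DTen.resFactors θ).hom.app J0'
  -- the tensor product
  let Z := W ⊗ (DTen.extCx φ).obj C1
  let c'' : (DTen.resCx φ).obj Z ⟶ J ⊗ C1 := inv (pfCx φ W C1) ≫ (c ▷ C1)
  haveI hflat'' : QuasiIso (flatCx (D := d.D) φ d.α c'') := by
    haveI := quasiIso_tensor_hom hC1 (flatCx (D := d.D) φ d.α c)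
    haveI : QuasiIso (pfCx φ W C1 ≫ flatCx (D := d.D) φ d.α c'') := by
      rw [pfCx_flatCx]; infer_instance
    exact quasiIso_of_comp_left (pfCx φ W C1) _
  let om : Z ⟶ (DTen.resCx χ).obj W' := omegaA (P' := P') e1 W
  have hresCs : ∀ {X : DRing.Cx P'} (x : X ⟶ (DTen.resCx φ').obj W') (y : X ⟶ J0'),
      DerivedCategory.Q.map x ≫ e' = DerivedCategory.Q.map y →
        DerivedCategory.Q.map ((DTen.resCx θ).map x) ≫ cs = DerivedCategory.Q.map ((DTen.resCx θ).map y) :=
    fun {X} x y hxy => by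
      have n1 := (DTen.resFactors θ).inv.naturality x
      have n2 := (DTen.resFactors θ).inv.naturality y
      dsimp at n1 n2
      simp only [cs]
      rw [reassoc_of% n1, ← Functor.map_comp_assoc, hxy, ← reassoc_of% n2, Iso.inv_hom_id_app]
      exact Category.comp_id _
  have hgm : DerivedCategory.Q.map ((DTen.extCx θ).map g ≫ κ.hom) ≫ e' =
      DerivedCategory.Q.map ((DTen.extCx θ).map m) := by
    simp only [e', Functor.map_comp, Category.assoc]
    erw [← DerivedCategory.Q.map_comp_assoc κ.hom κ.inv, κ.hom_inv_id, CategoryTheory.Functor.map_id, Category.id_comp,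
      IsIso.hom_inv_id_assoc]
  haveI : QuasiIso (omegaP e1 D0) := quasiIso_omegaP e1 hD0
  haveI : QuasiIso (omegaP e1 J0) := quasiIso_omegaP e1 hJ0
  haveI : QuasiIso (g ▷ C1) := quasiIso_tensor_hom hC1 g
  haveI : QuasiIso (f ▷ C1) := quasiIso_tensor_hom hC1 f
  let rr := fun Y : DRing.Cx A' => (rrCx (P := P) (P' := P') (A := A) Y)
  have hsq : (g ▷ C1) ≫ pfCx φ W C1 ≫ (DTen.resCx φ).map om =
      omegaP e1 D0 ≫ (DTen.resCx θ).map ((DTen.extCx θ).map g ≫ κ.hom) ≫ (rr W').hom := by
    rw [pfCx_omegaA, reassoc_of% (omegaP_natural e1 g), Functor.map_comp, Category.assoc]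
  haveI : QuasiIso ((DTen.resCx φ).map om) := by
    haveI : QuasiIso ((DTen.resCx θ).map ((DTen.extCx θ).map g ≫ κ.hom)) :=
      (quasiIso_map_iff_of_preservesHomology _ (ModuleCat.restrictScalars.{u} θ)).2 inferInstance
    haveI : QuasiIso ((g ▷ C1) ≫ pfCx φ W C1 ≫ (DTen.resCx φ).map om) := by
      rw [hsq]; infer_instance
    haveI := quasiIso_of_comp_left (g ▷ C1) (pfCx φ W C1 ≫ (DTen.resCx φ).map om)
    exact quasiIso_of_comp_left (pfCx φ W C1) _
  haveI : QuasiIso om :=
    (quasiIso_map_iff_of_preservesHomology _ (ModuleCat.restrictScalars.{u} φ)).1 inferInstance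
  have hcomp : DerivedCategory.Q.map ((DTen.resCx φ).map om ≫ (rr W').inv) ≫ cs =
      DerivedCategory.Q.map c'' ≫ inv (DerivedCategory.Q.map (f ▷ C1)) ≫
        DerivedCategory.Q.map (omegaP e1 J0) := by
    rw [← cancel_epi (DerivedCategory.Q.map ((g ▷ C1) ≫ pfCx φ W C1)), ← Functor.map_comp_assoc,
      ← Functor.map_comp_assoc]
    simp only [Category.assoc, c'', IsIso.hom_inv_id_assoc]
    rw [reassoc_of% hsq, Iso.hom_inv_id, Category.comp_id, Functor.map_comp, Category.assoc,
      hresCs _ _ hgm, ← Functor.map_comp, ← omegaP_natural, Functor.map_comp]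
    have hmf : DerivedCategory.Q.map (g ≫ c) = DerivedCategory.Q.map (m ≫ f) := by
      rw [Functor.map_comp, Functor.map_comp, hm]; simp
    rw [← comp_whiskerRight, Q_whiskerRight_congr hC1 hmf, comp_whiskerRight, Functor.map_comp, Category.assoc,
      IsIso.hom_inv_id_assoc]
  have hres : ∀ {X Y : DRing.Cx A} {a b : X ⟶ Y}, DerivedCategory.Q.map a = DerivedCategory.Q.map b →
      DerivedCategory.Q.map ((DTen.resCx φ).map a) = DerivedCategory.Q.map ((DTen.resCx φ).map b) := fun {X Y a b} h => by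
    have na := (DTen.resFactors φ).hom.naturality a
    have nb := (DTen.resFactors φ).hom.naturality b
    dsimp at na nb
    rw [h] at na
    exact (cancel_epi _).1 (na.symm.trans nb)
  refine RA.of_iso (RA.of_gen c' fun i => ?_) (Iso.refl _) (DerivedCategory.Q.mapIso (extFreeIso θ k))
  let S := freeAt P (-i)
  let SA := (DTen.extCx φ).obj S
  let SA' := (DTen.extCx χ).obj SA
  refine tr_bijective_congr φ' (DerivedCategory.Q.mapIso ((DTen.extCx χ).mapIso (extFreeIso φ (-i)) ≪≫
    extFreeIso χ (-i)) ≪≫ freeShiftIso A' i) c' ?_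
  haveI : SA.IsKProjective := DTenLib.isKProjective_ext φ S
  haveI : SA'.IsKProjective := DTenLib.isKProjective_ext χ SA
  haveI : (d.F ⊗ S).IsKProjective := d.hFS (-i)
  haveI := quasiIso_thetaCx φ d.α (isKFlat_freeAt (R := P) (-i))
  haveI : QuasiIso ((DTen.extCx θ).map (thetaCx φ d.α S)) :=
    quasiIso_ext_of_base R R' (thetaCx φ d.α S) (isKFlat_resCx _ hP (DTenLib.isKFlat_tensor d.hF (isKFlat_freeAt (-i))))
      (isKFlat_res_tower R hA (KFlat.isKFlat_extendScalars φ (isKFlat_freeAt (-i))))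
  let κS := kapCx (P := P) (P' := P') (A := A) (A' := A') SA
  let G : ((DRing.restrictD φ').obj (DerivedCategory.Q.obj SA') ⟶ DerivedCategory.Q.obj J0') →
      (DerivedCategory.Q.obj ((DTen.resCx φ).obj SA) ⟶ DerivedCategory.Q.obj ((DTen.resCx θ).obj J0')) :=
    fun w => gam θ ((DTen.resCx φ).obj SA)
      (DerivedCategory.Q.map κS.hom ≫ (DTen.resFactors φ').inv.app SA' ≫ w)
  have hG : Function.Bijective G :=
    (bijective_gam_of_quasiIso θ (thetaCx φ d.α S) J0').comp
      ⟨fun a b h => (cancel_epi _).1 ((cancel_epi _).1 h),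
        fun y => ⟨(DTen.resFactors φ').hom.app SA' ≫ DerivedCategory.Q.map κS.inv ≫ y, by
          simp only [Iso.inv_hom_id_app_assoc, ← Functor.map_comp_assoc, Iso.hom_inv_id,
            CategoryTheory.Functor.map_id, Category.id_comp]⟩⟩
  let post : DerivedCategory.Q.obj (J ⊗ C1) ⟶ DerivedCategory.Q.obj ((DTen.resCx θ).obj J0') :=
    inv (DerivedCategory.Q.map (f ▷ C1)) ≫ DerivedCategory.Q.map (omegaP e1 J0)
  let H : (DerivedCategory.Q.obj SA ⟶ DerivedCategory.Q.obj Z) →
      (DerivedCategory.Q.obj ((DTen.resCx φ).obj SA) ⟶ DerivedCategory.Q.obj ((DTen.resCx θ).obj J0')) :=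
    fun v => (DTen.resFactors φ).inv.app SA ≫ tr φ (cQ φ c'') _ v ≫ post
  have hH : Function.Bijective H := by
    haveI : IsIso post := inferInstance
    have h1 := (bij_iff (D := d.D) φ d.α c'' d.hF d.hD d.hFS (-i)).2
      ⟨fun a b h => (cancel_mono _).1 h,
        fun y => ⟨y ≫ inv (DerivedCategory.Q.map (flatCx (D := d.D) φ d.α c'')), by simp⟩⟩
    exact (Function.Bijective.comp (g := fun w => (DTen.resFactors φ).inv.app SA ≫ w ≫ post)
      ⟨fun a b h => (cancel_mono post).1 ((cancel_epi _).1 h),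
        fun y => ⟨(DTen.resFactors φ).hom.app SA ≫ y ≫ inv post, by simp⟩⟩ h1)
  let V : (DerivedCategory.Q.obj SA' ⟶ DerivedCategory.Q.obj W') →
      (DerivedCategory.Q.obj SA ⟶ DerivedCategory.Q.obj Z) :=
    fun v => gam χ SA v ≫ inv (DerivedCategory.Q.map om)
  have hV : Function.Bijective V :=
    (Function.Bijective.comp (g := fun w => w ≫ inv (DerivedCategory.Q.map om))
      ⟨fun a b h => (cancel_mono _).1 h, fun y => ⟨y ≫ DerivedCategory.Q.map om, by simp⟩⟩
      (bijective_gam_kProj χ SA W'))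
  have hGH : G ∘ tr φ' c' (DerivedCategory.Q.obj SA') = H ∘ V := funext fun v => by
    obtain ⟨z', rfl⟩ := PerfLocal.exists_lift (R := A') v
    let z := (DTen.unitCx χ).app SA ≫ (DTen.resCx χ).map z'
    obtain ⟨z'', hz''⟩ := PerfLocal.exists_lift (R := A) (V (DerivedCategory.Q.map z'))
    have hz : DerivedCategory.Q.map (z'' ≫ om) = DerivedCategory.Q.map z := by
      rw [Functor.map_comp, hz'']
      show (gam χ SA _ ≫ inv _) ≫ _ = _
      rw [gam_Q, Category.assoc, IsIso.inv_hom_id, Category.comp_id]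
    have e1' : DerivedCategory.Q.map κS.hom ≫ (DTen.resFactors φ').inv.app SA' ≫
        tr φ' c' _ (DerivedCategory.Q.map z') =
        DerivedCategory.Q.map (κS.hom ≫ (DTen.resCx φ').map z') ≫ e' := by
      have n := (DTen.resFactors φ').hom.naturality z'
      dsimp at n
      rw [tr, Functor.map_comp, Category.assoc]
      simp only [c']
      rw [reassoc_of% n, Iso.inv_hom_id_app_assoc]
    have e2' : (DTen.unitCx θ).app ((DTen.resCx φ).obj SA) ≫
        (DTen.resCx θ).map (κS.hom ≫ (DTen.resCx φ').map z') = (DTen.resCx φ).map z ≫ (rr W').inv := by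
      have u := unit_kapCx (P := P) (P' := P') (A := A) (A' := A') SA
      rw [Iso.eq_comp_inv, Functor.map_comp, Category.assoc, Category.assoc]
      erw [rrCx_natural (P := P) (P' := P') (A := A) z']
      rw [reassoc_of% u, ← Functor.map_comp]
    show G (tr φ' c' _ (DerivedCategory.Q.map z')) = H (V (DerivedCategory.Q.map z'))
    rw [← hz'']
    show gam θ _ _ = _ ≫ tr φ (cQ φ c'') _ _ ≫ post
    rw [e1', gam_comp, gam_Q, e2', tr_Q]
    show DerivedCategory.Q.map _ ≫ cs = _
    rw [Functor.map_comp, ← hres hz, (DTen.resCx φ).map_comp]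
    simp only [Functor.map_comp, Category.assoc]
    erw [Iso.inv_hom_id_app_assoc]
    refine congrArg (_ ≫ ·) ?_
    rw [← Functor.map_comp_assoc]
    exact hcomp
  exact (Function.Bijective.of_comp_iff' hG _).1 (hGH ▸ hH.comp hV)

end

end Groth.Agent.Shriek
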