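import Groth.Agent.Shriek.SquareCx
import Groth.Agent.Shriek.PairApps

/-!
Replacing the base change of a square by a tensor product with a K-flat complex.
-/

set_option autoImplicit false
set_option linter.style.haveILetI false
set_option maxHeartbeats 1000000
set_option backward.isDefEq.respectTransparency false
universe u

namespace Groth.Agent.Shriek

open CategoryTheory CategoryTheory.Limits MonoidalCategory

attribute [local instance] HasDerivedCategory.standard

noncomputable section

/-- `A ⊗ R[k] = A[k]` on complexes -/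
def extFreeIso {R A : Type u} [CommRing R] [CommRing A] (φ : R →+* A) (k : ℤ) :
    (DTen.extCx φ).obj (freeAt R k) ≅ freeAt A k :=
  (HomologicalComplex.singleMapHomologicalComplex (ModuleCat.extendScalars.{u, u, u} φ)
      (ComplexShape.up ℤ) k).app (ModuleCat.of R R) ≪≫
    (HomologicalComplex.single _ _ k).mapIso (letI := φ.toAlgebra
      (TensorProduct.AlgebraTensorModule.rid R A A).toModuleIso)

theorem isKFlat_of_iso {R : Type u} [CommRing R] {K L : DRing.Cx R} (e : K ≅ L) (h : DRing.IsKFlat R K) :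
    DRing.IsKFlat R L := fun M hM i =>
  (h M hM i).of_iso ((HomologicalComplex.homologyFunctor _ _ i).mapIso (whiskerLeftIso M e).symm)

section Tower

variable (R : Type u) {P A : Type u} [CommRing R] [CommRing P] [CommRing A] [Algebra R P] [Algebra P A] [Algebra R A]
  [IsScalarTower R P A]

/-- restriction in two steps, on complexes -/
def resTowerIso (Y : DRing.Cx A) :
    (DTen.resCx (algebraMap R A)).obj Y ≅
      (DTen.resCx (algebraMap R P)).obj ((DTen.resCx (algebraMap P A)).obj Y) :=
  (NatIso.mapHomologicalComplex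
    (ModuleCat.restrictScalarsComp'.{u} (algebraMap R P) (algebraMap P A) (algebraMap R A)
      (IsScalarTower.algebraMap_eq R P A)) (ComplexShape.up ℤ)).app Y

theorem isKFlat_res_tower (hA : (algebraMap R A).Flat) {Y : DRing.Cx A} (hY : DRing.IsKFlat A Y) :
    DRing.IsKFlat R ((DTen.resCx (algebraMap R P)).obj ((DTen.resCx (algebraMap P A)).obj Y)) :=
  isKFlat_of_iso (resTowerIso R Y) (isKFlat_resCx (algebraMap R A) hA hY)

end Tower

section Omega

variable {P P' A A' : Type u} [CommRing P] [CommRing P'] [CommRing A] [CommRing A'] [Algebra P P'] [Algebra P A]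
  [Algebra P' A'] [Algebra A A'] [Algebra P A'] [IsScalarTower P P' A'] [IsScalarTower P A A']
  [Algebra.IsPushout P P' A A']

variable {C : DRing.Cx P} (eP : C ⟶ (DTen.resCx (algebraMap P P')).obj (𝟙_ (DRing.Cx P')))

/-- `X ⊗ C → res (P' ⊗ X)` -/
def omegaP (X : DRing.Cx P) :
    X ⊗ C ⟶ (DTen.resCx (algebraMap P P')).obj ((DTen.extCx (algebraMap P P')).obj X) :=
  (X ◁ eP) ≫ pfrCx (algebraMap P P') X (𝟙_ (DRing.Cx P')) ≫ (DTen.resCx (algebraMap P P')).map (ρ_ _).hom

theorem omegaP_natural {X X' : DRing.Cx P} (f : X ⟶ X') :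
    (f ▷ C) ≫ omegaP eP X' =
      omegaP eP X ≫ (DTen.resCx (algebraMap P P')).map ((DTen.extCx (algebraMap P P')).map f) := by
  have h := pfrCx_natural (algebraMap P P') f (𝟙 (𝟙_ (DRing.Cx P')))
  rw [CategoryTheory.Functor.map_id, MonoidalCategory.tensorHom_id, MonoidalCategory.tensorHom_id] at h
  rw [omegaP, omegaP, ← whisker_exchange_assoc, reassoc_of% h, ← Functor.map_comp,
    MonoidalCategory.rightUnitor_naturality, Functor.map_comp]
  simp only [Category.assoc]

theorem quasiIso_omegaP [QuasiIso eP] {X : DRing.Cx P} (hX : DRing.IsKFlat P X) : QuasiIso (omegaP eP X) := by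
  haveI : QuasiIso (X ◁ eP) := DTenLib.isKFlat_comm hX eP (show QuasiIso eP from inferInstance)
  rw [omegaP]
  infer_instance

/-- the map `P ⊗ C → A'` -/
def eA' : C ⟶ (DTen.resCx (algebraMap P A)).obj ((DTen.resCx (algebraMap A A')).obj (𝟙_ (DRing.Cx A'))) :=
  eP ≫ (DTen.resCx (algebraMap P P')).map (eta (algebraMap P' A')) ≫ (rrCx (P := P) (P' := P') (A := A) (𝟙_ _)).hom

/-- `W ⊗ C → res (A' ⊗ W)` -/
def omegaA (W : DRing.Cx A) :
    W ⊗ (DTen.extCx (algebraMap P A)).obj C ⟶
      (DTen.resCx (algebraMap A A')).obj ((DTen.extCx (algebraMap A A')).obj W) :=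
  (W ◁ ((DTen.extCx (algebraMap P A)).map (eA' eP) ≫ DTenLib.counitCx (algebraMap P A) _)) ≫
    pfrCx (algebraMap A A') W (𝟙_ (DRing.Cx A')) ≫ (DTen.resCx (algebraMap A A')).map (ρ_ _).hom

theorem pfCx_omegaA (W : DRing.Cx A) :
    pfCx (algebraMap P A) W C ≫ (DTen.resCx (algebraMap P A)).map (omegaA (P' := P') (A' := A') eP W) =
      omegaP eP ((DTen.resCx (algebraMap P A)).obj W) ≫
        (DTen.resCx (algebraMap P P')).map (kapCx (P := P) (P' := P') (A := A) (A' := A') W).hom ≫
          (rrCx (P := P) (P' := P') (A := A) ((DTen.extCx (algebraMap A A')).obj W)).hom := by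
  let φ := algebraMap P A
  let θ := algebraMap P P'
  let φ' := algebraMap P' A'
  let χ := algebraMap A A'
  let I : DRing.Cx A' := 𝟙_ (DRing.Cx A')
  let I' : DRing.Cx P' := 𝟙_ (DRing.Cx P')
  let X := (DTen.resCx φ).obj W
  let EW := (DTen.extCx χ).obj W
  let κ := (kapCx (P := P) (P' := P') (A := A) (A' := A') W).hom
  let eA := (DTen.extCx φ).map (eA' (P' := P') (A := A) (A' := A') eP) ≫ DTenLib.counitCx φ _
  have nat := DTen.resTenCx_naturality φ (𝟙 W) eA
  rw [CategoryTheory.Functor.map_id, MonoidalCategory.id_tensorHom, MonoidalCategory.id_tensorHom] at nat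
  have hu : (DTen.unitCx φ).app C ≫ (DTen.resCx φ).map eA = eA' (P' := P') (A := A) (A' := A') eP :=
    DTenLib.unit_res_counit φ _
  have natP := pfrCx_natural θ (𝟙 X) (eta φ')
  rw [CategoryTheory.Functor.map_id, MonoidalCategory.id_tensorHom, MonoidalCategory.id_tensorHom] at natP
  have inner : ((DTen.extCx θ).obj X ◁ eta φ') ≫ (κ ▷ (DTen.resCx φ').obj I) ≫ DTen.resTenCx φ' EW I ≫
      (DTen.resCx φ').map (ρ_ EW).hom = (ρ_ _).hom ≫ κ := by
    rw [whisker_exchange_assoc]
    erw [resTenCx_rightUnit φ' EW]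
    exact (MonoidalCategory.rightUnitor_naturality κ)
  have sq := pfr_square (P := P) (P' := P') (A := A) (A' := A') W I
  have rn : (rrCx (P := P) (P' := P') (A := A) (EW ⊗ I)).hom ≫
      (DTen.resCx φ).map ((DTen.resCx χ).map (ρ_ EW).hom) =
      (DTen.resCx θ).map ((DTen.resCx φ').map (ρ_ EW).hom) ≫ (rrCx (P := P) (P' := P') (A := A) EW).hom :=
    (rrCx_natural (P := P) (P' := P') (A := A) (ρ_ EW).hom).symm
  calc pfCx φ W C ≫ (DTen.resCx φ).map (omegaA eP W)
      = (X ◁ ((DTen.unitCx φ).app C ≫ (DTen.resCx φ).map eA)) ≫ DTen.resTenCx φ W ((DTen.resCx χ).obj I) ≫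
          (DTen.resCx φ).map (pfrCx χ W I) ≫ (DTen.resCx φ).map ((DTen.resCx χ).map (ρ_ EW).hom) := by
        rw [pfCx, omegaA, Functor.map_comp, Functor.map_comp]
        simp only [Category.assoc]
        erw [← reassoc_of% nat]
        rw [MonoidalCategory.whiskerLeft_comp, Category.assoc]
    _ = (X ◁ eP) ≫ (X ◁ (DTen.resCx θ).map (eta φ')) ≫ pfrCx θ X ((DTen.resCx φ').obj I) ≫
          (DTen.resCx θ).map ((κ ▷ (DTen.resCx φ').obj I) ≫ DTen.resTenCx φ' EW I) ≫
            (rrCx (P := P) (P' := P') (A := A) (EW ⊗ I)).hom ≫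
              (DTen.resCx φ).map ((DTen.resCx χ).map (ρ_ EW).hom) := by
        rw [hu, eA', MonoidalCategory.whiskerLeft_comp, MonoidalCategory.whiskerLeft_comp]
        simp only [Category.assoc]
        erw [reassoc_of% sq]
    _ = _ := by
        rw [rn, reassoc_of% natP, omegaP]
        simp only [Category.assoc, ← Functor.map_comp_assoc]
        congr 3
        rw [inner]

end Omega

end

end Groth.Agent.Shriek
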