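import Groth.Agent.Shriek.RA
import Groth.Agent.DualFlat.Iso
import Groth.Agent.RelPC.Away
import Mathlib.RingTheory.Flat.Stability

/-!
Flat base change of `RHom_S(B, -)`.
-/

set_option autoImplicit false
set_option linter.style.haveILetI false
set_option maxHeartbeats 1000000
universe u

namespace Groth.Agent.Shriek

open CategoryTheory CategoryTheory.Limits DerivedCategory TensorProduct
open Groth.Agent.DualCx

attribute [local instance] HasDerivedCategory.standard
attribute [local instance] DualFlat.modA DualFlat.towerA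

noncomputable section

section Psi

variable {S : Type u} [CommRing S] (T : Type u) [CommRing T] [Algebra S T] [Module.Flat S T]

/-- base change of maps as a linear map -/
def eMap (X L : Dual.D S) :
    (X ⟶ L) →ₗ[S] ((locD (algebraMap S T)).obj X ⟶ (locD (algebraMap S T)).obj L) where
  toFun x := (locD (algebraMap S T)).map x
  map_add' _ _ := Functor.map_add _
  map_smul' a x := locD_smul (algebraMap S T) a x

/-- `T ⊗ Hom(X, L) → Hom(EX, EL)` -/
def psi (X L : Dual.D S) :
    T ⊗[S] (X ⟶ L) →ₗ[T] ((locD (algebraMap S T)).obj X ⟶ (locD (algebraMap S T)).obj L) :=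
  (eMap T X L).liftBaseChange T

theorem psi_tmul (X L : Dual.D S) (τ : T) (x : X ⟶ L) :
    psi T X L (τ ⊗ₜ[S] x) = τ • (locD (algebraMap S T)).map x :=
  LinearMap.liftBaseChange_tmul (A := T) (eMap T X L) τ x

theorem psi_bijective_congr {X X' L L' : Dual.D S} (eX : X ≅ X') (eL : L ≅ L') (h : Function.Bijective (psi T X L)) :
    Function.Bijective (psi T X' L') := by
  let E := locD (algebraMap S T)
  let a : (X ⟶ L) ≃ₗ[S] (X' ⟶ L') := Linear.homCongr S eX eL
  let b : (E.obj X ⟶ E.obj L) → (E.obj X' ⟶ E.obj L') := fun f => E.map eX.inv ≫ f ≫ E.map eL.hom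
  have hb : Function.Bijective b :=
    (Iso.homCongr (E.mapIso eX) (E.mapIso eL)).bijective
  have heq : ∀ z, psi T X' L' ((a.toLinearMap.lTensor T) z) = b (psi T X L z) := fun z => by
    induction z using TensorProduct.induction_on with
    | zero => simp [b]
    | tmul τ x =>
      rw [LinearMap.lTensor_tmul, psi_tmul, psi_tmul]
      show τ • E.map ((eX.inv ≫ x) ≫ eL.hom) = E.map eX.inv ≫ (τ • E.map x) ≫ E.map eL.hom
      rw [Functor.map_comp, Functor.map_comp, Linear.smul_comp, Linear.comp_smul, Category.assoc]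
    | add z w hz hw =>
      rw [map_add, map_add, hz, hw, map_add]
      show _ = E.map eX.inv ≫ _ ≫ E.map eL.hom
      rw [Preadditive.add_comp, Preadditive.comp_add]
  have hl : Function.Bijective (a.toLinearMap.lTensor T) := (a.lTensor T).bijective
  refine (Function.Bijective.of_comp_iff _ hl).1 ?_
  rw [show psi T X' L' ∘ a.toLinearMap.lTensor T = b ∘ psi T X L from funext heq]
  exact hb.comp h

theorem psi_bijective_shift {X L : Dual.D S} (n : ℤ) (h : Function.Bijective (psi T X L)) :
    Function.Bijective (psi T (X⟦n⟧) (L⟦n⟧)) := by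
  let E := locD (algebraMap S T)
  let a : (X ⟶ L) ≃ₗ[S] (X⟦n⟧ ⟶ L⟦n⟧) := LinearEquiv.ofBijective
    ({ toFun := fun x => x⟦n⟧', map_add' := fun _ _ => Functor.map_add _,
       map_smul' := fun c x => Functor.map_smul _ c x } : (X ⟶ L) →ₗ[S] (X⟦n⟧ ⟶ L⟦n⟧))
    ((Functor.FullyFaithful.ofFullyFaithful (shiftFunctor (Dual.D S) n)).map_bijective _ _)
  let cX := (E.commShiftIso n).app X
  let cL := (E.commShiftIso n).app L
  let b : (E.obj X ⟶ E.obj L) → (E.obj (X⟦n⟧) ⟶ E.obj (L⟦n⟧)) := fun f => cX.hom ≫ f⟦n⟧' ≫ cL.inv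
  have hb : Function.Bijective b :=
    (Iso.homCongr cX.symm cL.symm).bijective.comp
      ((Functor.FullyFaithful.ofFullyFaithful (shiftFunctor (Dual.D T) n)).map_bijective _ _)
  have heq : ∀ z, psi T (X⟦n⟧) (L⟦n⟧) ((a.toLinearMap.lTensor T) z) = b (psi T X L z) := fun z => by
    induction z using TensorProduct.induction_on with
    | zero => simp [b]
    | tmul τ x =>
      rw [LinearMap.lTensor_tmul, psi_tmul, psi_tmul]
      show τ • E.map (x⟦n⟧') = cX.hom ≫ (τ • E.map x)⟦n⟧' ≫ cL.inv
      rw [Functor.map_smul, Linear.smul_comp, Linear.comp_smul]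
      congr 1
      rw [← Category.assoc, Iso.eq_comp_inv]
      exact (E.commShiftIso n).hom.naturality x
    | add z w hz hw =>
      rw [map_add, map_add, hz, hw, map_add]
      show _ = cX.hom ≫ _⟦n⟧' ≫ cL.inv
      rw [Functor.map_add, Preadditive.add_comp, Preadditive.comp_add]
  have hl : Function.Bijective (a.toLinearMap.lTensor T) := (a.lTensor T).bijective
  refine (Function.Bijective.of_comp_iff _ hl).1 ?_
  rw [show psi T (X⟦n⟧) (L⟦n⟧) ∘ a.toLinearMap.lTensor T = b ∘ psi T X L from funext heq]
  exact hb.comp h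

theorem psi_bijective_of_bT {L : Dual.D S} {M : Type u} [AddCommGroup M] [Module S M]
    (h : ∀ j : ℤ, Function.Bijective (DualFlat.bT T L M j)) (i : ℤ) :
    Function.Bijective (psi T ((Dual.inD S M)⟦i⟧) L) := by
  have h0 : Function.Bijective (psi T (Dual.inD S M) (L⟦-i⟧)) := by
    let E := locD (algebraMap S T)
    let b := fun f : Dual.inD T (DualFlat.EM (A := S) T M) ⟶ (E.obj L)⟦-i⟧ =>
      (locInD (algebraMap S T) M).hom ≫ f ≫ ((E.commShiftIso (-i)).app L).inv
    have hb : Function.Bijective b :=
      (Iso.homCongr (locInD (algebraMap S T) M).symm ((E.commShiftIso (-i)).app L).symm).bijective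
    have heq : ∀ z : T ⊗[S] (Dual.inD S M ⟶ L⟦-i⟧), psi T (Dual.inD S M) (L⟦-i⟧) z = b (DualFlat.bT T L M (-i) z) :=
      fun z => by
      induction z using TensorProduct.induction_on with
      | zero => simp [b]
      | tmul τ x =>
        rw [psi_tmul]
        refine Eq.trans ?_ (congrArg b (LinearMap.liftBaseChange_tmul (A := T) (DualFlat.tLin T L M (-i)) τ x).symm)
        show τ • E.map x = (locInD (algebraMap S T) M).hom ≫ (τ • ((locInD (algebraMap S T) M).inv ≫ E.map x ≫
          (E.commShiftIso (-i)).hom.app L)) ≫ (E.commShiftIso (-i)).inv.app L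
        rw [Linear.smul_comp, Linear.comp_smul]
        simp
      | add z w hz hw =>
        rw [map_add, map_add, hz, hw]
        show _ = _ ≫ _ ≫ _
        rw [Preadditive.add_comp, Preadditive.comp_add]
    rw [show (psi T (Dual.inD S M) (L⟦-i⟧) : _ → _) = b ∘ DualFlat.bT T L M (-i) from funext heq]
    exact hb.comp (h (-i))
  exact psi_bijective_congr T (Iso.refl _) ((shiftFunctorCompIsoId (Dual.D S) (-i) i (by lia)).app L)
    (psi_bijective_shift T i h0)

end Psi

section Square

variable {S T B T' : Type u} [CommRing S] [CommRing T] [CommRing B] [CommRing T'] [Algebra S T] [Algebra S B]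
  [Algebra S T'] [Algebra T T'] [Algebra B T'] [IsScalarTower S T T'] [IsScalarTower S B T']
  [Algebra.IsPushout S T B T'] [Module.Flat S T] [Module.Flat B T']

/-- restriction commutes with base change -/
def kappa : DRing.restrictD (algebraMap S B) ⋙ locD (algebraMap S T) ≅
    locD (algebraMap B T') ⋙ DRing.restrictD (algebraMap T T') :=
  Localization.liftNatIso DerivedCategory.Q (HomologicalComplex.quasiIso (ModuleCat.{u} B) (ComplexShape.up ℤ))
    (DerivedCategory.Q ⋙ DRing.restrictD (algebraMap S B) ⋙ locD (algebraMap S T))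
    (DerivedCategory.Q ⋙ locD (algebraMap B T') ⋙ DRing.restrictD (algebraMap T T')) _ _
    ((Functor.associator _ _ _).symm ≪≫ Functor.isoWhiskerRight (rs (algebraMap S B)).mapDerivedCategoryFactors _ ≪≫
      Functor.associator _ _ _ ≪≫ Functor.isoWhiskerLeft _ (DualCx.ext (algebraMap S T)).mapDerivedCategoryFactors ≪≫
      (Functor.associator _ _ _).symm ≪≫
      Functor.isoWhiskerRight (NatIso.mapHomologicalComplex
        (RelPC.bcSquareIso (P := S) (Q := T) (A := B) (B := T')) (ComplexShape.up ℤ)) DerivedCategory.Q ≪≫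
      Functor.associator ((DualCx.ext (algebraMap B T')).mapHomologicalComplex (ComplexShape.up ℤ))
        ((rs (algebraMap T T')).mapHomologicalComplex (ComplexShape.up ℤ)) DerivedCategory.Q ≪≫
      Functor.isoWhiskerLeft _ (rs (algebraMap T T')).mapDerivedCategoryFactors.symm ≪≫
      (Functor.associator _ _ _).symm ≪≫
      Functor.isoWhiskerRight (DualCx.ext (algebraMap B T')).mapDerivedCategoryFactors.symm _ ≪≫
      Functor.associator _ _ _)

/-- Flat base change. -/
theorem RA.baseChange {W : Dual.D B} {K : Dual.D S} (h : RA (algebraMap S B) W K)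
    (hB : ∀ i : ℤ, Function.Surjective (psi T' ((Dual.inD B B)⟦i⟧) W))
    (hS : ∀ i : ℤ, Function.Bijective (psi T ((DRing.restrictD (algebraMap S B)).obj ((Dual.inD B B)⟦i⟧)) K)) :
    RA (algebraMap T T') ((locD (algebraMap B T')).obj W) ((locD (algebraMap S T)).obj K) := by
  obtain ⟨c₀, hc₀⟩ := h
  let E := locD (algebraMap S T)
  let E' := locD (algebraMap B T')
  let κ := kappa (S := S) (T := T) (B := B) (T' := T')
  let c : (DRing.restrictD (algebraMap T T')).obj (E'.obj W) ⟶ E.obj K := κ.inv.app W ≫ E.map c₀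
  refine RA.of_gen c fun i => ?_
  let X₀ : Dual.D B := (Dual.inD B B)⟦i⟧
  let eX : E'.obj X₀ ≅ (Dual.inD T' T')⟦i⟧ :=
    (E'.commShiftIso i).app (Dual.inD B B) ≪≫ (shiftFunctor (Dual.D T') i).mapIso
      (locInD (algebraMap B T') B ≪≫ (DerivedCategory.singleFunctor (ModuleCat.{u} T') 0).mapIso
        ((DRingKP.extendTensorIso (B := T') B) ≪≫ (TensorProduct.AlgebraTensorModule.rid B T' T').toModuleIso))
  suffices H : Function.Bijective (tr (algebraMap T T') c (E'.obj X₀)) by
    have h1 : tr (algebraMap T T') c ((Dual.inD T' T')⟦i⟧) =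
        (fun y => (DRing.restrictD (algebraMap T T')).map eX.inv ≫ y) ∘ tr (algebraMap T T') c (E'.obj X₀) ∘
          fun v => eX.hom ≫ v := funext fun v => by
      show tr (algebraMap T T') c _ v = _ ≫ tr (algebraMap T T') c _ (eX.hom ≫ v)
      rw [← tr_comp, eX.inv_hom_id_assoc]
    rw [h1]
    exact Function.Bijective.comp
      ⟨fun a b h => (cancel_epi ((DRing.restrictD (algebraMap T T')).map eX.inv)).1 h,
        fun y => ⟨(DRing.restrictD (algebraMap T T')).map eX.hom ≫ y, by
          show (DRing.restrictD _).map eX.inv ≫ (DRing.restrictD _).map eX.hom ≫ y = y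
          rw [← Functor.map_comp_assoc, eX.inv_hom_id, CategoryTheory.Functor.map_id, Category.id_comp]⟩⟩
      (H.comp ⟨fun a b h => (cancel_epi eX.hom).1 h, fun y => ⟨eX.inv ≫ y, eX.hom_inv_id_assoc y⟩⟩)
  let G : (E'.obj X₀ ⟶ E'.obj W) → (E.obj ((DRing.restrictD (algebraMap S B)).obj X₀) ⟶ E.obj K) :=
    fun v => κ.hom.app X₀ ≫ tr (algebraMap T T') c _ v
  suffices H : Function.Bijective G from
    (Function.Bijective.of_comp_iff' (f := fun y => κ.hom.app X₀ ≫ y)
      ⟨fun a b h => (cancel_epi (κ.hom.app X₀)).1 h, fun y => ⟨κ.inv.app X₀ ≫ y, by simp⟩⟩ _).1 H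
  have hG : ∀ x : X₀ ⟶ W, G (E'.map x) = E.map (tr (algebraMap S B) c₀ X₀ x) := fun x => by
    show κ.hom.app X₀ ≫ (DRing.restrictD (algebraMap T T')).map (E'.map x) ≫ κ.inv.app W ≫ E.map c₀ = _
    have := κ.hom.naturality x
    simp only [Functor.comp_map] at this
    rw [← reassoc_of% this, tr, Functor.map_comp]
    simp
    rfl
  have hGsmul : ∀ (τ : T) v, G (algebraMap T T' τ • v) = τ • G v := fun τ v => by
    show κ.hom.app X₀ ≫ (DRing.restrictD (algebraMap T T')).map (algebraMap T T' τ • v) ≫ c = τ • (κ.hom.app X₀ ≫ _)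
    rw [DualCx.resD_smul, Linear.smul_comp, Linear.comp_smul]
    rfl
  have hGadd : ∀ v w, G (v + w) = G v + G w := fun v w => by
    show κ.hom.app X₀ ≫ (DRing.restrictD (algebraMap T T')).map (v + w) ≫ c = _
    rw [Functor.map_add, Preadditive.add_comp, Preadditive.comp_add]
    rfl
  let a : (X₀ ⟶ W) ≃ₗ[S] ((DRing.restrictD (algebraMap S B)).obj X₀ ⟶ K) := LinearEquiv.ofBijective
    { toFun := tr (algebraMap S B) c₀ X₀
      map_add' := fun x y => by simp [tr, Functor.map_add]
      map_smul' := fun s x => by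
        show (DRing.restrictD (algebraMap S B)).map (algebraMap S B s • x) ≫ c₀ = _
        rw [DualCx.resD_smul, Linear.smul_comp]
        rfl } (hc₀ X₀)
  letI : Module T (E'.obj X₀ ⟶ E'.obj W) := Module.compHom _ (algebraMap T T')
  let Φ : T ⊗[S] (X₀ ⟶ W) →+ (E'.obj X₀ ⟶ E'.obj W) := TensorProduct.liftAddHom
    { toFun := fun τ =>
        { toFun := fun x => algebraMap T T' τ • E'.map x
          map_zero' := by rw [Functor.map_zero, smul_zero]
          map_add' := fun x y => by rw [Functor.map_add, smul_add] }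
      map_zero' := by ext x; simp
      map_add' := fun τ σ => by ext x; simp [add_smul] }
    fun s τ x => by
      show algebraMap T T' (s • τ) • E'.map x = algebraMap T T' τ • E'.map (algebraMap S B s • x)
      rw [locD_smul, smul_smul, Algebra.smul_def, map_mul, mul_comm, ← IsScalarTower.algebraMap_apply,
        ← IsScalarTower.algebraMap_apply]
  have hΦ : Function.Surjective Φ := fun v => by
    obtain ⟨z, rfl⟩ := hB i v
    induction z using TensorProduct.induction_on with
    | zero => exact ⟨0, by rw [map_zero, map_zero]⟩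
    | add z w hz hw =>
      obtain ⟨z', hz⟩ := hz
      obtain ⟨w', hw⟩ := hw
      exact ⟨z' + w', by rw [map_add, map_add, hz, hw]⟩
    | tmul b' x =>
      rw [psi_tmul]
      induction b' using (Algebra.IsPushout.out (R := S) (S := T) (R' := B) (S' := T')).inductionOn generalizing x with
      | zero => exact ⟨0, by rw [map_zero, zero_smul]⟩
      | add p q hp hq =>
        obtain ⟨p', hp⟩ := hp x
        obtain ⟨q', hq⟩ := hq x
        exact ⟨p' + q', by rw [map_add, hp, hq, add_smul]⟩
      | smul τ p hp =>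
        obtain ⟨p', hp⟩ := hp x
        refine ⟨τ • p', ?_⟩
        have hlin : ∀ z, Φ (τ • z) = algebraMap T T' τ • Φ z := fun z => by
          induction z using TensorProduct.induction_on with
          | zero => simp
          | tmul σ y =>
            show algebraMap T T' (τ • σ) • E'.map y = algebraMap T T' τ • algebraMap T T' σ • E'.map y
            rw [smul_eq_mul, map_mul, mul_smul]
          | add z w hz hw => rw [smul_add, map_add, map_add, hz, hw, smul_add]
        rw [hlin, hp, Algebra.smul_def τ p, mul_smul]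
      | tmul b =>
        refine ⟨(1 : T) ⊗ₜ[S] (b • x), ?_⟩
        show algebraMap T T' 1 • E'.map (b • x) = algebraMap B T' b • E'.map x
        rw [map_one, one_smul, locD_smul]
  have hcomp : ∀ z, G (Φ z) = psi T _ K (a.toLinearMap.lTensor T z) := fun z => by
    induction z using TensorProduct.induction_on with
    | zero =>
      rw [map_zero, map_zero, map_zero]
      show κ.hom.app X₀ ≫ (DRing.restrictD (algebraMap T T')).map 0 ≫ c = 0
      simp
    | tmul τ x =>
      show G (algebraMap T T' τ • E'.map x) = psi T _ K (τ ⊗ₜ[S] tr (algebraMap S B) c₀ X₀ x)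
      rw [psi_tmul, hGsmul, hG]
    | add z w hz hw => rw [map_add, hGadd, hz, hw, map_add, map_add]
  have hb : Function.Bijective (G ∘ Φ) := by
    rw [show G ∘ Φ = psi T _ K ∘ a.toLinearMap.lTensor T from funext hcomp]
    exact (hS i).comp (a.lTensor T).bijective
  refine ⟨fun v w hvw => ?_, fun y => ⟨Φ (hb.2 y).choose, (hb.2 y).choose_spec⟩⟩
  obtain ⟨z, rfl⟩ := hΦ v
  obtain ⟨z', rfl⟩ := hΦ w
  rw [hb.1 hvw]

end Square

end

end Groth.Agent.Shriek
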