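import Groth.Agent.Shriek.Grade
import Groth.Agent.KoszulExt.Killed
import Groth.Agent.S5151
import Groth.Agent.S5665
import Groth.Agent.CMFlat.Local
import Mathlib.RingTheory.KrullDimension.Regular

/-!
`Ext` in the grade degree over a Cohen–Macaulay local ring.
-/

set_option autoImplicit false
set_option linter.style.haveILetI false
set_option maxHeartbeats 1000000
set_option backward.isDefEq.respectTransparency false
universe u

namespace Groth.Agent.Shriek

open CategoryTheory CategoryTheory.Limits DerivedCategory RingTheory.Sequence IsLocalRing Abelian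
open Groth.Agent.DualCx

attribute [local instance] HasDerivedCategory.standard

noncomputable section

variable {B : Type u} [CommRing B] [IsNoetherianRing B] [IsLocalRing B]

section

variable (rs : List B)

local notation "C₀" => B ⧸ (Ideal.ofList rs • ⊤ : Submodule B B)

omit [IsNoetherianRing B] [IsLocalRing B] in
theorem killed_pi (k : ℕ) : ∀ r ∈ rs, ∀ v : Fin k → C₀, r • v = 0 := fun r hr v => funext fun i => by
  obtain ⟨b, hb⟩ := Submodule.Quotient.mk_surjective _ (v i)
  rw [Pi.smul_apply, Pi.zero_apply, ← hb, ← Submodule.Quotient.mk_smul, Submodule.Quotient.mk_eq_zero]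
  exact Submodule.smul_mem_smul (Ideal.subset_span hr) trivial

omit [IsLocalRing B] in
theorem exists_cover {N : Type u} [AddCommGroup N] [Module B N] [Module.Finite B N]
    (hkill : ∀ r ∈ rs, ∀ v : N, r • v = 0) :
    ∃ (k : ℕ) (π : (Fin k → C₀) →ₗ[B] N), Function.Surjective π := by
  obtain ⟨k, g, hg⟩ := Module.Finite.exists_fin (R := B) (M := N)
  have hle : ∀ i, (Ideal.ofList rs • ⊤ : Submodule B B) ≤ LinearMap.ker (LinearMap.toSpanSingleton B N (g i)) :=
    fun i => Submodule.smul_le.2 fun a ha b _ => by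
      rw [LinearMap.mem_ker, map_smul]
      refine Submodule.span_induction (p := fun a _ => a • LinearMap.toSpanSingleton B N (g i) b = 0) ?_ ?_ ?_ ?_ ha
      · exact fun r hr => hkill r hr _
      · exact zero_smul _ _
      · intro a₁ a₂ _ _ h₁ h₂; rw [add_smul, h₁, h₂, add_zero]
      · intro a₁ a₂ _ h₂; rw [smul_eq_mul, mul_smul, h₂, smul_zero]
  let π : (Fin k → C₀) →ₗ[B] N :=
    ∑ i, (Submodule.liftQ _ (LinearMap.toSpanSingleton B N (g i)) (hle i)).comp (LinearMap.proj i)
  refine ⟨k, π, LinearMap.range_eq_top.1 (eq_top_iff.2 ?_)⟩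
  rw [← hg, Submodule.span_le]
  rintro _ ⟨i, rfl⟩
  refine ⟨Pi.single i (Submodule.Quotient.mk 1), ?_⟩
  simp only [π, LinearMap.sum_apply, LinearMap.comp_apply, LinearMap.proj_apply]
  rw [Finset.sum_eq_single i (fun j _ hj => by rw [Pi.single_eq_of_ne hj, map_zero])
    (fun h => absurd (Finset.mem_univ i) h), Pi.single_eq_same, Submodule.liftQ_apply,
    LinearMap.toSpanSingleton_apply, one_smul]

/-- `Ext^c(B/(rs), B)` is the quotient ring. -/
theorem nonempty_T_quot (hw : IsWeaklyRegular B rs) :
    Nonempty (T (Dual.inD B B) C₀ (rs.length : ℤ) ≃ₗ[B] C₀) := by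
  obtain ⟨e⟩ := Groth.Agent.S5665.result B rs hw B
  exact ⟨(DualCx.congr _ _ (Submodule.quotEquivOfEq _ _ (Ideal.mul_top (Ideal.ofList rs)).symm)).trans
    ((Ext.homLinearEquiv (R := B) (X := ModuleCat.of B (B ⧸ Ideal.ofList rs)) (Y := ModuleCat.of B B)
      (n := rs.length)).symm.trans e)⟩

omit [IsNoetherianRing B] [IsLocalRing B] in
theorem eq_zero_of_comps {k : ℕ} {i : ℤ} {W : Dual.D B} (t : T W (Fin k → C₀) i)
    (h : ∀ l, pre W i (LinearMap.single B (fun _ : Fin k => C₀) l) t = 0) : t = 0 := by
  have hid : (LinearMap.id : (Fin k → C₀) →ₗ[B] Fin k → C₀) =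
      ∑ l, (LinearMap.single B (fun _ : Fin k => C₀) l).comp (LinearMap.proj l) := by
    refine LinearMap.ext fun v => ?_
    simp only [LinearMap.id_apply, LinearMap.sum_apply, LinearMap.comp_apply, LinearMap.proj_apply,
      LinearMap.single_apply]
    exact (Finset.univ_sum_single v).symm
  rw [← pre_id t, hid]
  let F : ((Fin k → C₀) →ₗ[B] Fin k → C₀) →+ T W (Fin k → C₀) i :=
    { toFun := fun f => pre W i f t
      map_zero' := pre_zero t
      map_add' := fun f g => by
        simp only [pre_apply]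
        rw [show ModuleCat.ofHom (f + g) = ModuleCat.ofHom f + ModuleCat.ofHom g from rfl, Functor.map_add,
          Preadditive.add_comp] }
  show F (∑ l, _) = 0
  rw [map_sum]
  exact Finset.sum_eq_zero fun l _ => by
    show pre W i _ t = 0
    rw [pre_comp, h l, map_zero]

variable (hw : IsWeaklyRegular B rs) (hm : ∀ r ∈ rs, r ∈ maximalIdeal B)
include hw

theorem regular_pi {x : B} (hx : IsSMulRegular C₀ x) (k : ℕ) :
    IsSMulRegular (T (Dual.inD B B) (Fin k → C₀) (rs.length : ℤ)) x := by
  obtain ⟨e⟩ := nonempty_T_quot rs hw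
  refine isSMulRegular_iff_right_eq_zero_of_smul.2 fun t ht => eq_zero_of_comps rs t fun l => ?_
  refine e.injective ((isSMulRegular_iff_right_eq_zero_of_smul.1 hx _ ?_).trans (map_zero e).symm)
  rw [← map_smul, ← map_smul, ht, map_zero, map_zero]

include hm

theorem pre_injective {N : Type u} [AddCommGroup N] [Module B N] [Module.Finite B N] {k : ℕ}
    {π : (Fin k → C₀) →ₗ[B] N} (hπ : Function.Surjective π) :
    Function.Injective (pre (Dual.inD B B) (rs.length : ℤ) π) := by
  have h1 : SES (LinearMap.ker π).subtype π :=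
    ⟨Submodule.subtype_injective _, by rw [LinearMap.exact_iff, Submodule.range_subtype], hπ⟩
  haveI := subsingleton_T_of_regular (LinearMap.ker π) rs hw hm
    (fun r hr v => Subtype.ext (killed_pi rs k r hr v.1)) (j := (rs.length : ℤ) - 1) (by omega)
  refine (injective_iff_map_eq_zero _).2 fun t ht => ?_
  obtain ⟨y, rfl⟩ := h1.exact_right (show ((rs.length : ℤ) - 1) + 1 = rs.length by omega) t ht
  rw [Subsingleton.elim y 0, map_zero]

variable {N : Type u} [AddCommGroup N] [Module B N] [Module.Finite B N] (hkill : ∀ r ∈ rs, ∀ v : N, r • v = 0)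
include hkill

/-- Regular elements of the quotient ring act regularly on `Ext^c`. -/
theorem regular_one {x : B} (hx : IsSMulRegular C₀ x) :
    IsSMulRegular (T (Dual.inD B B) N (rs.length : ℤ)) x := by
  obtain ⟨k, π, hπ⟩ := exists_cover rs hkill
  refine isSMulRegular_iff_right_eq_zero_of_smul.2 fun t ht => ?_
  refine pre_injective rs hw hm hπ ((isSMulRegular_iff_right_eq_zero_of_smul.1 (regular_pi rs hw hx k) _ ?_).trans
    (map_zero _).symm)
  rw [← map_smul, ht, map_zero]

/-- Regular pairs of the quotient ring act regularly on `Ext^c`. -/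
theorem regular_two {x y : B} (hxy : IsWeaklyRegular C₀ [x, y]) :
    IsWeaklyRegular (T (Dual.inD B B) N (rs.length : ℤ)) [x, y] := by
  obtain ⟨hx, hy⟩ := (isWeaklyRegular_cons_iff _ _ _).1 hxy
  rw [isWeaklyRegular_singleton_iff] at hy
  refine IsWeaklyRegular.cons (regular_one rs hw hm hkill hx) ((isWeaklyRegular_singleton_iff _ _).2 ?_)
  refine isSMulRegular_iff_right_eq_zero_of_smul.2 fun t' ht' => ?_
  obtain ⟨t, rfl⟩ := Submodule.Quotient.mk_surjective _ t'
  rw [← Submodule.Quotient.mk_smul, Submodule.Quotient.mk_eq_zero, Submodule.mem_smul_pointwise_iff_exists] at ht'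
  obtain ⟨t₁, -, ht₁⟩ := ht'
  obtain ⟨k, π, hπ⟩ := exists_cover rs hkill
  let ω := Dual.inD B B
  let c : ℤ := rs.length
  obtain ⟨eC⟩ := nonempty_T_quot rs hw
  -- divide the components by `x`
  have hdiv : ∀ l, ∃ z : T ω C₀ c,
      x • z = pre ω c (LinearMap.single B (fun _ : Fin k => C₀) l) (pre ω c π t) := by
    intro l
    have h0 : y • (Submodule.Quotient.mk (eC (pre ω c (LinearMap.single B (fun _ : Fin k => C₀) l) (pre ω c π t))) :
        QuotSMulTop x C₀) = 0 := by
      rw [← Submodule.Quotient.mk_smul, Submodule.Quotient.mk_eq_zero, Submodule.mem_smul_pointwise_iff_exists]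
      exact ⟨eC (pre ω c (LinearMap.single B (fun _ : Fin k => C₀) l) (pre ω c π t₁)), trivial, by
        rw [← map_smul, ← map_smul, ← map_smul, ← map_smul, ← map_smul, ← map_smul, ht₁]⟩
    have h1 := isSMulRegular_iff_right_eq_zero_of_smul.1 hy _ h0
    rw [Submodule.Quotient.mk_eq_zero, Submodule.mem_smul_pointwise_iff_exists] at h1
    obtain ⟨w, -, hw'⟩ := h1
    exact ⟨eC.symm w, eC.injective (by rw [map_smul, eC.apply_symm_apply, hw'])⟩
  choose z hz using hdiv
  let Z : T ω (Fin k → C₀) c := ∑ l, pre ω c (LinearMap.proj l) (z l)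
  have hZ : x • Z = pre ω c π t := by
    refine sub_eq_zero.1 (eq_zero_of_comps rs _ fun l => ?_)
    rw [map_sub, map_smul, map_sum, Finset.sum_eq_single l, ← pre_comp]
    · rw [show ((LinearMap.proj l).comp (LinearMap.single B (fun _ : Fin k => C₀) l)) = LinearMap.id from
        LinearMap.ext fun v => by simp, pre_id, hz, sub_self]
    · intro l' _ hl'
      rw [← pre_comp, show ((LinearMap.proj l').comp (LinearMap.single B (fun _ : Fin k => C₀) l)) = 0 from
        LinearMap.ext fun v => by simp [Pi.single_eq_of_ne hl']; rfl, pre_zero]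
    · exact fun h => absurd (Finset.mem_univ l) h
  have h1 : SES (LinearMap.ker π).subtype π :=
    ⟨Submodule.subtype_injective _, by rw [LinearMap.exact_iff, Submodule.range_subtype], hπ⟩
  have hK : pre ω c (LinearMap.ker π).subtype Z = 0 := by
    refine isSMulRegular_iff_right_eq_zero_of_smul.1
      (regular_one rs hw hm (N := LinearMap.ker π) (fun r hr v => Subtype.ext (killed_pi rs k r hr v.1)) hx) _ ?_
    rw [← map_smul, hZ, h1.pre_f_g]
  obtain ⟨w, hwZ⟩ := h1.exact_mid Z hK
  rw [Submodule.Quotient.mk_eq_zero, Submodule.mem_smul_pointwise_iff_exists]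
  exact ⟨w, trivial, pre_injective rs hw hm hπ (by rw [map_smul, hwZ, hZ])⟩

/-- Serre's inequality for `Ext^c` over a Cohen–Macaulay local ring. -/
theorem min_two_le_depth [LocCoh.IsCohenMacaulayLocalRing B] :
    min (2 : WithBot ℕ∞) (Module.supportDim B (T (Dual.inD B B) N (rs.length : ℤ))) ≤
      ((LocCoh.depth B (T (Dual.inD B B) N (rs.length : ℤ)) : ℕ∞) : WithBot ℕ∞) := by
  let M := T (Dual.inD B B) N (rs.length : ℤ)
  let J : Submodule B B := Ideal.ofList rs • ⊤
  have hJm : (Ideal.ofList rs • ⊤ : Submodule B B) ≠ ⊤ := by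
    rw [show (Ideal.ofList rs • ⊤ : Submodule B B) = Ideal.ofList rs from Ideal.mul_top _]
    exact fun h => (maximalIdeal.isMaximal B).ne_top (eq_top_iff.2 (h ▸ Ideal.span_le.2 hm))
  haveI : Nontrivial C₀ := Submodule.Quotient.nontrivial_iff.2 hJm
  have hdimM : Module.supportDim B M ≤ Module.supportDim B C₀ := by
    refine Order.krullDim_le_of_strictMono (fun p => ⟨p.1, ?_⟩) fun a b hab => hab
    have hp := Module.annihilator_le_of_mem_support p.2
    rw [Module.mem_support_iff_of_finite]
    intro a ha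
    refine hp (Module.mem_annihilator.2 fun t => ?_)
    have ha' : a ∈ Ideal.ofList rs := by
      have h := Module.mem_annihilator.1 ha (Submodule.Quotient.mk (1 : B))
      rw [← Submodule.Quotient.mk_smul, Submodule.Quotient.mk_eq_zero] at h
      simpa [Ideal.mul_top] using h
    refine smul_eq_zero_of_killed (fun v => ?_) t
    refine Submodule.span_induction (p := fun a _ => a • v = 0) ?_ ?_ ?_ ?_ ha'
    · exact fun r hr => hkill r hr v
    · exact zero_smul _ _
    · intro a₁ a₂ _ _ h₁ h₂; rw [add_smul, h₁, h₂, add_zero]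
    · intro a₁ a₂ _ h₂; rw [smul_eq_mul, mul_smul, h₂, smul_zero]
  have hmtop : maximalIdeal B • (⊤ : Submodule B B) ≠ ⊤ := by
    rw [show maximalIdeal B • (⊤ : Submodule B B) = maximalIdeal B from Ideal.mul_top _]
    exact (maximalIdeal.isMaximal B).ne_top
  obtain ⟨rs', ⟨l, rfl⟩, hw', hm', hmax⟩ :=
    (Groth.Agent.S5151.result B (maximalIdeal B) B hmtop).1 rs hw hm
  have hlen : ((rs ++ l).length : WithBot ℕ∞) = ringKrullDim B := by
    have h := (Groth.Agent.S5151.result B (maximalIdeal B) B hmtop).2 _ hw' hm' hmax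
    rw [← Module.supportDim_self_eq_ringKrullDim, LocCoh.IsCohenMacaulayLocalRing.supportDim_eq_depth (R := B),
      LocCoh.depth, ← h]
    rfl
  have hdimC : Module.supportDim B C₀ + (rs.length : WithBot ℕ∞) = ringKrullDim B := by
    rw [← Module.supportDim_self_eq_ringKrullDim]
    exact Module.supportDim_add_length_eq_supportDim_of_isRegular rs
      ((IsLocalRing.isRegular_iff_isWeaklyRegular_of_subset_maximalIdeal hm).2 hw)
  have hl : Module.supportDim B C₀ ≤ ((l.length : ℕ∞) : WithBot ℕ∞) := by
    have h2 := hdimC.trans hlen.symm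
    rw [List.length_append] at h2
    cases hC : Module.supportDim B C₀ with
    | bot => exact bot_le
    | coe v =>
      rw [hC] at h2
      have h3 : v + (rs.length : ℕ∞) = ((rs.length + l.length : ℕ) : ℕ∞) := by exact_mod_cast h2
      refine WithBot.coe_le_coe.2 (le_of_eq ((ENat.addLECancellable_of_ne_top (ENat.natCast_ne_top rs.length)).inj.1 ?_))
      rw [add_comm _ v, h3, Nat.cast_add]
  have hreg : IsWeaklyRegular C₀ l := ((isWeaklyRegular_append_iff (R := B) B rs l).1 hw').2
  have hlm : ∀ r ∈ l, r ∈ maximalIdeal B := fun r hr => hm' r (List.mem_append_right _ hr)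
  rw [LocCoh.depth, LocCoh.idealDepth]
  split_ifs with htop
  · exact le_trans (min_le_left _ _) (WithBot.coe_le_coe.2 le_top)
  match l, hreg, hlm, hl with
  | [], _, _, hl => exact le_trans (min_le_right _ _) ((hdimM.trans hl).trans (WithBot.coe_le_coe.2 (by simp)))
  | [x], hreg, hlm, hl =>
    refine le_trans (min_le_right _ _) ((hdimM.trans hl).trans (WithBot.coe_le_coe.2 ?_))
    refine le_iSup₂_of_le [x] ⟨(isWeaklyRegular_singleton_iff _ _).2
      (regular_one rs hw hm hkill ((isWeaklyRegular_singleton_iff _ _).1 hreg)), hlm⟩ le_rfl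
  | x :: y :: l', hreg, hlm, hl =>
    refine le_trans (min_le_left _ _) (WithBot.coe_le_coe.2 ?_)
    have hxy : IsWeaklyRegular C₀ [x, y] := ((isWeaklyRegular_append_iff (R := B) C₀ [x, y] l').1 hreg).1
    exact le_iSup₂_of_le [x, y] ⟨regular_two rs hw hm hkill hxy, fun r hr => hlm r (by
      simp only [List.mem_cons, List.not_mem_nil, or_false] at hr ⊢
      tauto)⟩ le_rfl

end

end

end Groth.Agent.Shriek
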