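import Groth.Agent.Unibranch.FibreChains
import Groth.Agent.DimFormula.Field
import Groth.Agent.GLinFree.Dim
import Groth.Agent.SMT.CMFree
import Groth.Agent.SectFinite.Basic
import Groth.Agent.InjFibre.RegSeq
import Groth.Agent.SerreReg.Descent
import Mathlib.RingTheory.Flat.Localization
import Mathlib.RingTheory.Ideal.Quotient.Operations

/-!
A bound on the fibre dimension gives regular sequences in the ideal of a presentation.
-/

set_option autoImplicit false
set_option linter.style.haveILetI false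
set_option maxHeartbeats 1000000
universe u

open AlgebraicGeometry CategoryTheory RingTheory.Sequence

namespace Groth.Agent.Shriek

noncomputable section

variable {R A : Type u} [CommRing R] [CommRing A] [Algebra R A] {n : ℕ} (ψ : MvPolynomial (Fin n) R →ₐ[R] A)

/-- Polynomials over a base to polynomials over the residue field of a point. -/
abbrev theta (p : Ideal R) [p.IsPrime] : MvPolynomial (Fin n) R →+* MvPolynomial (Fin n) p.ResidueField :=
  MvPolynomial.map (algebraMap R p.ResidueField)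

theorem exists_scale (p : Ideal R) [p.IsPrime] (a : MvPolynomial (Fin n) p.ResidueField) :
    ∃ r : R, r ∉ p ∧ ∃ b, theta p b = algebraMap R p.ResidueField r • a := by
  induction a using MvPolynomial.induction_on' with
  | monomial v c =>
    obtain ⟨⟨x, s⟩, hxs⟩ := IsLocalization.surj (nonZeroDivisors (R ⧸ p)) c
    obtain ⟨x, rfl⟩ := Ideal.Quotient.mk_surjective x
    obtain ⟨s', hs'⟩ := Ideal.Quotient.mk_surjective (s : R ⧸ p)
    refine ⟨s', fun h => nonZeroDivisors.coe_ne_zero s (hs' ▸ Ideal.Quotient.eq_zero_iff_mem.2 h),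
      MvPolynomial.monomial v x, ?_⟩
    rw [MvPolynomial.map_monomial, MvPolynomial.smul_monomial, smul_eq_mul]
    congr 1
    show algebraMap (R ⧸ p) p.ResidueField (Ideal.Quotient.mk p x) =
      algebraMap (R ⧸ p) p.ResidueField (Ideal.Quotient.mk p s') * c
    rw [hs', mul_comm]
    exact hxs.symm
  | add a a' h h' =>
    obtain ⟨r, hr, b, hb⟩ := h
    obtain ⟨r', hr', b', hb'⟩ := h'
    refine ⟨r * r', fun hm => (‹p.IsPrime›.mem_or_mem hm).elim hr hr',
      MvPolynomial.C r' * b + MvPolynomial.C r * b', ?_⟩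
    rw [map_add, map_mul, map_mul, MvPolynomial.map_C, MvPolynomial.map_C, hb, hb', smul_add]
    simp only [MvPolynomial.smul_eq_C_mul, map_mul]
    ring

theorem theta_eq_zero (p : Ideal R) [p.IsPrime] {a : MvPolynomial (Fin n) R} (h : theta p a = 0) :
    a ∈ p.map (algebraMap R (MvPolynomial (Fin n) R)) := by
  refine MvPolynomial.mem_map_C_iff.2 fun v => ?_
  have h1 := congrArg (MvPolynomial.coeff v) h
  rw [MvPolynomial.coeff_map, MvPolynomial.coeff_zero] at h1
  exact Ideal.algebraMap_residueField_eq_zero.1 h1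

theorem comap_theta {p : Ideal R} [p.IsPrime] {Q : Ideal (MvPolynomial (Fin n) R)}
    {Q' : Ideal (MvPolynomial (Fin n) p.ResidueField)} [Q'.IsPrime] (hQ : ∀ x, theta p x ∈ Q' ↔ x ∈ Q) (r : R) :
    algebraMap R (MvPolynomial (Fin n) R) r ∈ Q ↔ r ∈ p := by
  rw [← hQ, MvPolynomial.algebraMap_eq, MvPolynomial.map_C]
  by_cases hr : algebraMap R p.ResidueField r = 0
  · rw [hr, map_zero]
    exact iff_of_true Q'.zero_mem (Ideal.algebraMap_residueField_eq_zero.1 hr)
  · exact iff_of_false (fun h => (inferInstance : Q'.IsPrime).ne_top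
      (Ideal.eq_top_of_isUnit_mem _ h ((isUnit_iff_ne_zero.2 hr).map MvPolynomial.C)))
      (fun h => hr (Ideal.algebraMap_residueField_eq_zero.2 h))

/-- the point of the fibre -/
theorem exists_fibre_prime (q : PrimeSpectrum A) :
    ∃ Q' : Ideal (MvPolynomial (Fin n) (q.asIdeal.under R).ResidueField), Q'.IsPrime ∧
      ∀ x, theta (q.asIdeal.under R) x ∈ Q' ↔ x ∈ q.asIdeal.comap ψ.toRingHom := by
  haveI : q.asIdeal.LiesOver (q.asIdeal.under R) := ⟨rfl⟩
  let p : Ideal R := q.asIdeal.under R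
  let L := q.asIdeal.ResidueField
  let j : p.ResidueField →+* L := Ideal.ResidueField.map p q.asIdeal (algebraMap R A) rfl
  let χ : MvPolynomial (Fin n) p.ResidueField →+* L :=
    MvPolynomial.eval₂Hom j fun i => algebraMap A L (ψ (MvPolynomial.X i))
  have hχ : χ.comp (theta p) = (algebraMap A L).comp ψ.toRingHom := by
    refine MvPolynomial.ringHom_ext (fun r => ?_) fun i => ?_
    · show MvPolynomial.eval₂ _ _ (MvPolynomial.map _ (MvPolynomial.C r)) =
        algebraMap A L (ψ (algebraMap R (MvPolynomial (Fin n) R) r))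
      rw [MvPolynomial.map_C, MvPolynomial.eval₂_C, ψ.commutes]
      exact (Ideal.ResidueField.map_algebraMap p q.asIdeal (algebraMap R A) rfl r)
    · show MvPolynomial.eval₂ _ _ (MvPolynomial.map _ (MvPolynomial.X i)) = _
      rw [MvPolynomial.map_X, MvPolynomial.eval₂_X]
      rfl
  refine ⟨RingHom.ker χ, RingHom.ker_isPrime χ, fun x => ?_⟩
  rw [RingHom.mem_ker, ← RingHom.comp_apply, hχ]
  exact Ideal.algebraMap_residueField_eq_zero

theorem exists_max_height {K D : Type u} [Field K] [CommRing D] [IsDomain D] [Algebra K D] [Algebra.FiniteType K D]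
    {g : D} (hg : g ≠ 0) :
    ∃ (t : ℕ) (l : LTSeries (PrimeSpectrum D)), ringKrullDim D = t ∧ l.length = t ∧ ∀ i, g ∉ (l i).asIdeal := by
  obtain ⟨t, -, ht⟩ := DimFormula.exists_trdeg_eq_ringKrullDim K D
  haveI : IsJacobsonRing D := isJacobsonRing_of_finiteType (A := K)
  obtain ⟨M, hM, hgM⟩ : ∃ M : Ideal D, M.IsMaximal ∧ g ∉ M := by
    by_contra h
    push Not at h
    have h1 : g ∈ (⊥ : Ideal D).jacobson := Ideal.mem_sInf.2 fun {M} hM => h M hM.2
    rw [IsJacobsonRing.out ‹_› (Ideal.isPrime_bot (α := D)).isRadical] at h1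
    exact hg h1
  haveI := hM
  have hMh : (t : ℕ∞) ≤ Order.height (⟨M, hM.isPrime⟩ : PrimeSpectrum D) := by
    refine le_of_eq ?_
    rw [← PrimeSpectrum.height_eq_orderHeight]
    have h1 := GLinFree.height_eq_ringKrullDim (K := K) M
    rw [ht] at h1
    exact (WithBot.coe_inj.1 h1).symm
  obtain ⟨l, hlast, hlen⟩ := Order.exists_series_of_le_height _ hMh
  refine ⟨t, l, ht, hlen, fun i h => hgM ?_⟩
  have := l.monotone (Fin.le_last i)
  rw [show l (Fin.last _) = ⟨M, hM.isPrime⟩ from hlast] at this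
  exact this h

theorem height_ge_of_fibreDimAt (hψ : Function.Surjective ψ) (q : PrimeSpectrum A) {d : ℕ}
    (hd : FlatMor.fibreDimAt (Spec.map (CommRingCat.ofHom (algebraMap R A))) q ≤ (d : WithBot ℕ∞))
    {p : Ideal R} [p.IsPrime] (Q' : Ideal (MvPolynomial (Fin n) p.ResidueField)) [Q'.IsPrime]
    (hQ : ∀ x, theta p x ∈ Q' ↔ x ∈ q.asIdeal.comap ψ.toRingHom)
    (Z : Ideal (MvPolynomial (Fin n) p.ResidueField)) (hZ : Z.IsPrime)
    (hJZ : (RingHom.ker ψ.toRingHom).map (theta p) ≤ Z) (hZQ : Z ≤ Q') : ((n - d : ℕ) : ℕ∞) ≤ Z.height := by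
  obtain ⟨U, hqU, hU⟩ := (Unibranch.fibreDimAt_le_iff (Spec.map (CommRingCat.ofHom (algebraMap R A))) q).1 hd
  let US : Set (PrimeSpectrum A) := (U : Set (Spec (CommRingCat.of A)))
  obtain ⟨_, ⟨g, rfl⟩, hqg, hgU⟩ := PrimeSpectrum.isTopologicalBasis_basic_opens.exists_subset_of_mem_open
    (show (q : PrimeSpectrum A) ∈ US from hqU) U.isOpen
  obtain ⟨g₀, rfl⟩ := hψ g
  haveI := hZ
  obtain ⟨t, l, ht, hlen, hgl⟩ := exists_max_height (K := p.ResidueField)
    (D := MvPolynomial (Fin n) p.ResidueField ⧸ Z) (g := Ideal.Quotient.mk Z (theta p g₀)) fun h =>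
      hqg ((hQ g₀).1 (hZQ (Ideal.Quotient.eq_zero_iff_mem.1 h)))
  let u : MvPolynomial (Fin n) R →+* MvPolynomial (Fin n) p.ResidueField ⧸ Z := (Ideal.Quotient.mk Z).comp (theta p)
  have hpullI : ∀ i, RingHom.ker ψ.toRingHom ≤ (l i).asIdeal.comap u := fun i x hx => by
    show Ideal.Quotient.mk Z (theta p x) ∈ (l i).asIdeal
    rw [Ideal.Quotient.eq_zero_iff_mem.2 (hJZ (Ideal.mem_map_of_mem _ hx))]
    exact (l i).asIdeal.zero_mem
  let c : Fin (l.length + 1) → PrimeSpectrum A := fun i =>
    ⟨((l i).asIdeal.comap u).map ψ.toRingHom,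
      Ideal.map_isPrime_of_surjective (f := ψ.toRingHom) hψ (hpullI i)⟩
  have hc : ∀ i, (c i).asIdeal.comap ψ.toRingHom = (l i).asIdeal.comap u := fun i => by
    show Ideal.comap ψ.toRingHom (Ideal.map ψ.toRingHom _) = _
    rw [Ideal.comap_map_of_surjective' ψ.toRingHom hψ]
    exact sup_eq_left.2 (hpullI i)
  have hcu : ∀ i (x : MvPolynomial (Fin n) R), ψ x ∈ (c i).asIdeal ↔ u x ∈ (l i).asIdeal := fun i x =>
    SetLike.ext_iff.1 (hc i) x
  have hunitC : ∀ v : p.ResidueField, v ≠ 0 → ∀ i, Ideal.Quotient.mk Z (MvPolynomial.C v) ∉ (l i).asIdeal :=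
    fun v hv i h => (l i).2.ne_top
      (Ideal.eq_top_of_isUnit_mem _ h (((isUnit_iff_ne_zero.2 hv).map MvPolynomial.C).map (Ideal.Quotient.mk Z)))
  have hcU : ∀ i, c i ∈ US ∧
      Spec.map (CommRingCat.ofHom (algebraMap R A)) (c i) = Spec.map (CommRingCat.ofHom (algebraMap R A)) q := by
    intro i
    refine ⟨hgU fun h => hgl i ((hcu i g₀).1 h), PrimeSpectrum.ext (Ideal.ext fun r => ?_)⟩
    show algebraMap R A r ∈ (c i).asIdeal ↔ algebraMap R A r ∈ q.asIdeal
    rw [← ψ.commutes r, hcu]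
    refine Iff.trans ?_ (comap_theta hQ r).symm
    show Ideal.Quotient.mk Z (theta p (MvPolynomial.C r)) ∈ (l i).asIdeal ↔ _
    rw [MvPolynomial.map_C]
    by_cases hr : algebraMap R p.ResidueField r = 0
    · rw [hr, map_zero, map_zero]
      exact iff_of_true (l i).asIdeal.zero_mem (Ideal.algebraMap_residueField_eq_zero.1 hr)
    · exact iff_of_false (hunitC _ hr i) (fun h => hr (Ideal.algebraMap_residueField_eq_zero.2 h))
  have hchain : Unibranch.IsChain' (X := Spec (CommRingCat.of A)) c := by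
    intro i
    have hlt : (l i.castSucc).asIdeal < (l i.succ).asIdeal := l.step i
    refine ⟨(PrimeSpectrum.le_iff_specializes _ _).1 (Ideal.map_mono (Ideal.comap_mono hlt.le)), fun heq => ?_⟩
    obtain ⟨x, hx, hx'⟩ := SetLike.exists_of_lt hlt
    obtain ⟨x, rfl⟩ := Ideal.Quotient.mk_surjective x
    obtain ⟨r, hr, b, hb⟩ := exists_scale p x
    have hub : u b = Ideal.Quotient.mk Z (MvPolynomial.C (algebraMap R p.ResidueField r)) * Ideal.Quotient.mk Z x := by
      show Ideal.Quotient.mk Z (theta p b) = _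
      rw [hb, MvPolynomial.smul_eq_C_mul, map_mul]
    have h2 : u b ∈ (l i.castSucc).asIdeal := by
      rw [← hcu, show c i.castSucc = c i.succ from heq, hcu, hub]
      exact Ideal.mul_mem_left _ _ hx
    rw [hub] at h2
    exact hx' (((l i.castSucc).2.mem_or_mem h2).resolve_left
      (hunitC _ (fun h => hr (Ideal.algebraMap_residueField_eq_zero.1 h)) _))
  have htd : l.length ≤ d := hU l.length c hcU hchain
  have hsum := DimFormula.height_add_ringKrullDim_quotient p.ResidueField
    (⟨Z, hZ⟩ : PrimeSpectrum (MvPolynomial (Fin n) p.ResidueField))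
  rw [ht, MvPolynomial.ringKrullDim_of_isNoetherianRing, ringKrullDim_eq_zero_of_field, zero_add, Nat.card_fin,
    ← WithBot.coe_natCast, ← WithBot.coe_natCast, ← WithBot.coe_add, WithBot.coe_inj] at hsum
  cases hh : Z.height with
  | top => exact le_top
  | coe a =>
    rw [hh] at hsum
    have : a + t = n := by exact_mod_cast hsum
    exact_mod_cast (by omega : n - d ≤ a)

/-- The fibre of the localisation is the localisation of the fibre. -/
theorem fibre_local {p : Ideal R} [p.IsPrime] (Q : Ideal (MvPolynomial (Fin n) R)) [Q.IsPrime]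
    (Q' : Ideal (MvPolynomial (Fin n) p.ResidueField)) [Q'.IsPrime] (hQ : ∀ x, theta p x ∈ Q' ↔ x ∈ Q) :
    ∃ g : Localization.AtPrime Q →+* Localization.AtPrime Q', Function.Surjective g ∧
      g.comp (algebraMap (MvPolynomial (Fin n) R) _) = (algebraMap _ _).comp (theta p) ∧
      RingHom.ker g = (p.map (algebraMap R (MvPolynomial (Fin n) R))).map
        (algebraMap (MvPolynomial (Fin n) R) (Localization.AtPrime Q)) := by
  let P := MvPolynomial (Fin n) R
  let K := p.ResidueField
  let Pk := MvPolynomial (Fin n) K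
  let B := Localization.AtPrime Q
  let C := Localization.AtPrime Q'
  have hθ : Q.primeCompl ≤ Q'.primeCompl.comap (theta p) := fun x hx h => hx ((hQ x).1 h)
  let g : B →+* C := IsLocalization.map C (theta p) hθ
  have hgθ : g.comp (algebraMap P B) = (algebraMap Pk C).comp (theta p) := IsLocalization.map_comp hθ
  have hgθ' : ∀ x, g (algebraMap P B x) = algebraMap Pk C (theta p x) := fun x => RingHom.congr_fun hgθ x
  have hunit : ∀ r : R, r ∉ p → IsUnit (algebraMap P B (algebraMap R P r)) := fun r hr =>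
    IsLocalization.map_units B (⟨algebraMap R P r, fun h => hr ((comap_theta hQ r).1 h)⟩ : Q.primeCompl)
  have himg : ∀ a : Pk, ∃ b : B, g b = algebraMap Pk C a := fun a => by
    obtain ⟨r, hr, b, hb⟩ := exists_scale p a
    obtain ⟨v, hv⟩ := (hunit r hr).exists_left_inv
    refine ⟨v * algebraMap P B b, ?_⟩
    have h1 : g v * algebraMap Pk C (MvPolynomial.C (algebraMap R K r)) = 1 := by
      rw [← map_one g, ← hv, map_mul, hgθ', MvPolynomial.algebraMap_eq, MvPolynomial.map_C]
    rw [map_mul, hgθ', hb, MvPolynomial.smul_eq_C_mul, map_mul, ← mul_assoc, h1, one_mul]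
  refine ⟨g, fun y => ?_, hgθ, le_antisymm (fun x hx => ?_) ?_⟩
  · obtain ⟨a, s, rfl⟩ := IsLocalization.exists_mk'_eq Q'.primeCompl y
    obtain ⟨b₁, hb₁⟩ := himg a
    obtain ⟨r, hr, b₂, hb₂⟩ := exists_scale p (s : Pk)
    obtain ⟨b₃, hb₃⟩ := himg (MvPolynomial.C (algebraMap R K r))
    have hb₂Q : b₂ ∉ Q := fun h => by
      rw [← hQ, hb₂, MvPolynomial.smul_eq_C_mul] at h
      exact ((inferInstance : Q'.IsPrime).mem_or_mem h).elim (fun h' => (inferInstance : Q'.IsPrime).ne_top
        (Ideal.eq_top_of_isUnit_mem _ h' ((isUnit_iff_ne_zero.2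
          (fun h0 => hr (Ideal.algebraMap_residueField_eq_zero.1 h0))).map MvPolynomial.C))) s.2
    obtain ⟨v, hv⟩ := (IsLocalization.map_units B (⟨b₂, hb₂Q⟩ : Q.primeCompl)).exists_left_inv
    refine ⟨b₁ * b₃ * v, ?_⟩
    rw [eq_comm, IsLocalization.mk'_eq_iff_eq_mul]
    have h1 : g v * algebraMap Pk C (MvPolynomial.C (algebraMap R K r) * (s : Pk)) = 1 := by
      rw [← MvPolynomial.smul_eq_C_mul, ← hb₂, ← hgθ', ← map_mul, hv, map_one]
    rw [map_mul] at h1
    rw [map_mul, map_mul, hb₁, hb₃]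
    linear_combination -(algebraMap Pk C a) * h1
  · obtain ⟨a, s, rfl⟩ := IsLocalization.exists_mk'_eq Q.primeCompl x
    have h1 : g (algebraMap P B a) = 0 := by
      rw [← IsLocalization.mk'_spec B a s, map_mul, RingHom.mem_ker.1 hx, zero_mul]
    rw [hgθ'] at h1
    have h2 : theta p a = 0 :=
      IsLocalization.injective C Q'.primeCompl_le_nonZeroDivisors (h1.trans (map_zero _).symm)
    rw [IsLocalization.mk'_mem_iff]
    exact Ideal.mem_map_of_mem _ (theta_eq_zero p h2)
  · rw [Ideal.map_map, Ideal.map_le_iff_le_comap]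
    intro r hr
    show g (algebraMap P B (algebraMap R P r)) = 0
    rw [hgθ', MvPolynomial.algebraMap_eq, MvPolynomial.map_C,
      Ideal.algebraMap_residueField_eq_zero.2 hr, map_zero, map_zero]

theorem exists_regular_next_le {C : Type u} [CommRing C] [LocCoh.IsCohenMacaulayRing C] (I : Ideal C) (c : ℕ)
    (h : ∀ Z : Ideal C, Z.IsPrime → I ≤ Z → (c : ℕ∞) ≤ Z.height) :
    ∀ k ≤ c, ∃ cs : List C, IsWeaklyRegular C cs ∧ (∀ r ∈ cs, r ∈ I) ∧ cs.length = k := by
  intro k
  induction k with
  | zero => exact fun _ => ⟨[], IsWeaklyRegular.nil C C, by simp, rfl⟩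
  | succ k ih =>
    intro hk
    obtain ⟨cs, hw, hmem, hlen⟩ := ih (Nat.le_of_succ_le hk)
    obtain ⟨x, hx, -, hwx⟩ := SectFinite.exists_regular_next hw I fun Z hZ hle =>
      lt_of_lt_of_le (by rw [hlen]; exact_mod_cast hk) (h Z hZ hle)
    exact ⟨cs ++ [x], hwx, fun r hr => (List.mem_append.mp hr).elim (hmem r) (fun h => by simp at h; exact h ▸ hx),
      by simp [hlen]⟩

theorem exists_regular_of_fibreDimAt (hψ : Function.Surjective ψ) [IsNoetherianRing R] (q : PrimeSpectrum A) {d : ℕ}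
    (hd : FlatMor.fibreDimAt (Spec.map (CommRingCat.ofHom (algebraMap R A))) q ≤ (d : WithBot ℕ∞)) :
    ∃ rs : List (Localization.AtPrime (q.asIdeal.comap ψ.toRingHom)),
      IsWeaklyRegular (Localization.AtPrime (q.asIdeal.comap ψ.toRingHom)) rs ∧ rs.length = n - d ∧
      ∀ r ∈ rs, r ∈ (RingHom.ker ψ.toRingHom).map
        (algebraMap (MvPolynomial (Fin n) R) (Localization.AtPrime (q.asIdeal.comap ψ.toRingHom))) := by
  obtain ⟨Q', hQ', hQ⟩ := exists_fibre_prime ψ q
  haveI := hQ'
  let P := MvPolynomial (Fin n) R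
  let Q : Ideal P := q.asIdeal.comap ψ.toRingHom
  let p : Ideal R := q.asIdeal.under R
  let Pk := MvPolynomial (Fin n) p.ResidueField
  let B := Localization.AtPrime Q
  let C := Localization.AtPrime Q'
  obtain ⟨g, hgsurj, hgθ, hgker⟩ := fibre_local Q Q' hQ
  haveI : IsRegularLocalRing C := IsRegularRing.isRegularLocalRing_localization Q'
  haveI : IsRegularRing C := SerreReg.isRegularRing_of_isRegularLocalRing C
  haveI : LocCoh.IsCohenMacaulayRing C :=
    { isCohenMacaulayLocalRing_localization := fun Z _ => by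
        haveI : IsRegularLocalRing (Localization.AtPrime Z) := IsRegularRing.isRegularLocalRing_localization Z
        exact CMFlat.isCohenMacaulayLocalRing_of_isRegularLocalRing _ }
  let I : Ideal P := RingHom.ker ψ.toRingHom
  let JC : Ideal C := (I.map (theta p)).map (algebraMap Pk C)
  have hJC : (I.map (algebraMap P B)).map g = JC := by rw [Ideal.map_map, hgθ, ← Ideal.map_map]
  obtain ⟨cs, hcs, hmem, hlen⟩ := exists_regular_next_le JC (n - d) (fun Z hZ hle => by
    obtain ⟨hZ', hdisj⟩ := (IsLocalization.isPrime_iff_isPrime_disjoint Q'.primeCompl C Z).1 hZ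
    rw [← IsLocalization.height_under Q'.primeCompl Z]
    exact height_ge_of_fibreDimAt ψ hψ q hd Q' hQ (Z.comap (algebraMap Pk C)) hZ'
      (Ideal.map_le_iff_le_comap.1 hle) fun x hx => by
        by_contra h
        exact Set.disjoint_left.1 hdisj h hx) _ le_rfl
  choose lift hlift using fun r : {r // r ∈ cs} =>
    (Ideal.mem_map_iff_of_surjective g hgsurj).1 (hJC.symm ▸ hmem r.1 r.2)
  refine ⟨cs.attach.map lift, ?_, by simp [hlen], fun r hr => ?_⟩
  swap
  · obtain ⟨a, -, rfl⟩ := List.mem_map.1 hr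
    exact (hlift a).1
  have hmap : (cs.attach.map lift).map g = cs := by
    rw [List.map_map]
    exact (List.map_congr_left fun a _ => (hlift a).2).trans cs.attach_map_subtype_val
  let R₀ := Localization.AtPrime p
  let ι : R₀ →+* B := Localization.localRingHom p Q (algebraMap R P) (Ideal.ext fun r => (comap_theta hQ r).symm)
  letI : Algebra R₀ B := ι.toAlgebra
  haveI : IsScalarTower R R₀ B := IsScalarTower.of_algebraMap_eq fun r =>
    (IsScalarTower.algebraMap_apply R P B r).trans (Localization.localRingHom_to_map _ _ _ _ r).symm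
  haveI : IsLocalHom (algebraMap R₀ B) := Localization.isLocalHom_localRingHom _ _ _ _
  haveI : Module.Flat P B := IsLocalization.flat B Q.primeCompl
  haveI : Module.Flat R B := Module.Flat.trans R P B
  haveI : Module.Flat R₀ B := (Module.flat_iff_of_isLocalization R₀ p.primeCompl B).2 inferInstance
  have hmB : (IsLocalRing.maximalIdeal R₀).map (algebraMap R₀ B) = RingHom.ker g := by
    rw [hgker, ← Localization.AtPrime.map_eq_maximalIdeal, Ideal.map_map, Ideal.map_map,
      ← IsScalarTower.algebraMap_eq R R₀ B, ← IsScalarTower.algebraMap_eq R P B]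
  refine (InjFibre.regSeq_noeth (A := R₀) B _ ?_).1
  letI : Algebra B C := g.toAlgebra
  let e : (B ⧸ ((IsLocalRing.maximalIdeal R₀).map (algebraMap R₀ B) • (⊤ : Submodule B B))) ≃ₗ[B] C :=
    (Submodule.quotEquivOfEq _ _ (by
      rw [smul_eq_mul, Ideal.mul_top, hmB]; rfl)).trans
        ((Algebra.linearMap B C).quotKerEquivOfSurjective hgsurj)
  rw [e.isWeaklyRegular_congr, ← isWeaklyRegular_map_algebraMap_iff (S := C)]
  exact hmap.symm ▸ hcs

end

end Groth.Agent.Shriek
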