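import Groth.Agent.Shriek.Grade
import Groth.Agent.KoszulExt.Basic
import Groth.Agent.KoszulLib.Pres
import Groth.Agent.Goren.LCI
import Groth.Agent.S7070

/-!
`RHom_P(A, P)` for a quotient by a Koszul regular ideal, near a prime.
-/

set_option autoImplicit false
set_option linter.style.haveILetI false
set_option maxHeartbeats 1000000
set_option backward.isDefEq.respectTransparency false
universe u

namespace Groth.Agent.Shriek

open CategoryTheory CategoryTheory.Limits DerivedCategory TensorProduct RingTheory.Sequence IsLocalRing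
open Groth.Agent.DualCx Groth.Agent.DualFlat

attribute [local instance] HasDerivedCategory.standard

noncomputable section

theorem exists_regular_of_koszul {P : Type u} [CommRing P] [IsNoetherianRing P] {I : Ideal P}
    (hI : LCI.IsKoszulRegularIdeal I) (Q : Ideal P) [Q.IsPrime] (hIQ : I ≤ Q) :
    ∃ rs : List (Localization.AtPrime Q), IsWeaklyRegular (Localization.AtPrime Q) rs ∧
      (∀ r ∈ rs, r ∈ maximalIdeal (Localization.AtPrime Q)) ∧
      I.map (algebraMap P (Localization.AtPrime Q)) = Ideal.ofList rs := by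
  obtain ⟨g, hg, l, hl, hspan⟩ := hI ⟨Q, ‹_›⟩ hIQ
  let T := Localization.Away g
  let B := Localization.AtPrime Q
  let M := Submonoid.powers g
  have hM : M ≤ Q.primeCompl := Submonoid.powers_le.2 hg
  have hu : ∀ y : M, IsUnit (algebraMap P B y) := fun y =>
    IsLocalization.map_units (M := Q.primeCompl) B ⟨y, hM y.2⟩
  letI : Algebra T B := (IsLocalization.lift (S := T) hu).toAlgebra
  haveI : IsScalarTower P T B := IsScalarTower.of_algebraMap_eq fun r => (IsLocalization.lift_eq hu r).symm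
  haveI := IsLocalization.isLocalization_of_submonoid_le T B M Q.primeCompl hM
  have hf' := KoszulLib.h1_localization (Q.primeCompl.map (algebraMap P T)) B (SyntLib.h1_of_koszul hl)
  have hmap : I.map (algebraMap P B) = Ideal.span (Set.range (algebraMap T B ∘ l.get)) := by
    rw [IsScalarTower.algebraMap_eq P T B, ← Ideal.map_map, hspan, ← Goren.range_list_get l, Ideal.map_span,
      ← Set.range_comp]
  have hle : I.map (algebraMap P B) ≤ maximalIdeal B := by
    rw [← Localization.AtPrime.map_eq_maximalIdeal]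
    exact Ideal.map_mono hIQ
  have hm : ∀ i, (algebraMap T B ∘ l.get) i ∈ maximalIdeal B := fun i => hle (hmap ▸ Ideal.subset_span ⟨i, rfl⟩)
  refine ⟨_, KoszulLib.isWeaklyRegular_of_h1 (fun i => maximalIdeal_le_jacobson _ (hm i)) hf', fun r hr => ?_,
    hmap.trans (CMFlat.ofList_ofFn _).symm⟩
  obtain ⟨i, rfl⟩ := List.mem_ofFn.1 hr
  exact hm i

theorem isPerfectModule_of_koszul {P A : Type u} [CommRing P] [CommRing A] {φ : P →+* A} (hφ : Function.Surjective φ)
    (hI : LCI.IsKoszulRegularIdeal (RingHom.ker φ)) :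
    letI := φ.toAlgebra
    DRing.IsPerfectModule P A := by
  letI := φ.toAlgebra
  let e : (P ⧸ RingHom.ker φ) ≃ₗ[P] A :=
    { (RingHom.quotientKerEquivOfSurjective hφ) with
      map_smul' := fun c x => by
        obtain ⟨y, rfl⟩ := Ideal.Quotient.mk_surjective x
        exact map_mul φ c y }
  exact PerfLocal.isPerfect_of_iso ((DerivedCategory.singleFunctor _ 0).mapIso e.toModuleIso)
    (S7070.isPerfectModule_quotient hI)

theorem Ext_subsingleton_above {B : Type u} [CommRing B] (rs : List B) (hw : IsWeaklyRegular B rs) {j : ℤ}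
    (hj : (rs.length : ℤ) < j) : Subsingleton (T (Dual.inD B B) (B ⧸ Ideal.ofList rs) j) := by
  lift j to ℕ using le_trans (Int.natCast_nonneg _) hj.le
  rw [subsingleton_iff_ext]
  haveI := KoszulExt.hasPD_cyc rs hw
  exact HasProjectiveDimensionLT.subsingleton (KoszulExt.cyc (Ideal.ofList rs)) (rs.length + 1) j
    (by omega) (ModuleCat.of B B)

theorem nonempty_T_top {B : Type u} [CommRing B] (rs : List B) (hw : IsWeaklyRegular B rs) :
    Nonempty (T (Dual.inD B B) (B ⧸ Ideal.ofList rs) (rs.length : ℤ) ≃ₗ[B] B ⧸ Ideal.ofList rs) := by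
  obtain ⟨e⟩ := KoszulExt.exists_top_equiv rs hw (ModuleCat.of B B)
  exact ⟨(Abelian.Ext.homLinearEquiv (R := B)).symm.trans
    (e.trans (Submodule.quotEquivOfEq _ _ (Ideal.mul_top _)))⟩

variable {P A : Type u} [CommRing P] [CommRing A]

/-- The `P`-semilinear bijection between the cohomology of `RHom_P(A, L)` and `Hom(A, L[j])`. -/
theorem exists_semilinear_HD (φ : P →+* A) {W : Dual.D A} {L : Dual.D P} (h : RA φ W L) (j : ℤ) :
    letI := φ.toAlgebra
    ∃ Φ : Dual.HD A W j → T L A j, Function.Bijective Φ ∧ ∀ (s : P) (x : Dual.HD A W j), Φ (φ s • x) = s • Φ x := by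
  letI := φ.toAlgebra
  obtain ⟨c, hc⟩ := h
  have hc' : IsRA (A := P) (B := A) W L c := hc
  let e0 : Dual.inD P A ≅ (resD P A).obj (Dual.inD A A) :=
    (DerivedCategory.singleFunctor (ModuleCat.{u} P) 0).mapIso (resSelf (A := P) (B := A)).symm ≪≫
      (((res P A).mapDerivedCategorySingleFunctor 0).app (ModuleCat.of A A)).symm
  refine ⟨fun x => e0.hom ≫ raMap c j _ ((DualCx.homEquiv W j).symm x), ?_, fun s x => ?_⟩
  · exact (e0.homFromEquiv (Z := L⟦j⟧)).symm.bijective.comp
      ((hc'.raMap_bijective j _).comp (DualCx.homEquiv W j).symm.bijective)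
  · show e0.hom ≫ raMap c j _ ((DualCx.homEquiv W j).symm (algebraMap P A s • x)) = _
    rw [map_smul, raMap_smul, Linear.comp_smul]

theorem localization_subsingleton_iff [IsNoetherianRing P] (Q : Ideal P) [Q.IsPrime]
    (N : Type u) [AddCommGroup N] [Module P N] [Module.Finite P N] (j : ℤ) :
    Nonempty (Localization.AtPrime Q ⊗[P] T (Dual.inD P P) N j ≃ₗ[Localization.AtPrime Q]
      T (Dual.inD (Localization.AtPrime Q) (Localization.AtPrime Q)) (Localization.AtPrime Q ⊗[P] N) j) := by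
  let B := Localization.AtPrime Q
  haveI : Module.Flat P B := IsLocalization.flat B Q.primeCompl
  let eK : KB B (Dual.inD P P) ≅ Dual.inD B B :=
    locInD (algebraMap P B) P ≪≫ (DerivedCategory.singleFunctor (ModuleCat.{u} B) 0).mapIso
      ((tens B P).trans (TensorProduct.AlgebraTensorModule.rid P B B)).toModuleIso
  let eb : B ⊗[P] T (Dual.inD P P) N j ≃ₗ[B] T (KB B (Dual.inD P P)) (EM (A := P) B N) j :=
    LinearEquiv.ofBijective _ (bT_bijective B _ (a := 0)
      (fun i hi => subsingleton_hd_inD P (ne_of_lt hi)) N j)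
  exact ⟨eb.trans ((DualCx.congr _ j (tens B N).symm).trans
    (Linear.homCongr B (Iso.refl _) ((CategoryTheory.shiftFunctor _ j).mapIso eK)))⟩

/-- The localised cohomology of `RHom_P(A, P)` at a point of a Koszul regular closed subscheme. -/
theorem exists_generator [IsNoetherianRing P] (φ : P →+* A) (hφ : Function.Surjective φ)
    (hI : LCI.IsKoszulRegularIdeal (RingHom.ker φ)) {W : Dual.D A} (h : RA φ W (Dual.inD P P)) (q : Ideal A)
    [q.IsPrime] :
    ∃ (c : ℕ) (x₀ : Dual.HD A W (c : ℤ)),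
      (∀ j : ℤ, j ≠ c → ∀ x : Dual.HD A W j, ∃ s ∉ q, s • x = 0) ∧
      (∀ x : Dual.HD A W (c : ℤ), ∃ s ∉ q, ∃ a : A, s • x = a • x₀) ∧
      (∀ a : A, a • x₀ = 0 → ∃ s ∉ q, s * a = 0) := by
  letI := φ.toAlgebra
  haveI : Module.Finite P A := Module.Finite.of_surjective (Algebra.linearMap P A) hφ
  let Q := q.comap φ
  have hIQ : RingHom.ker φ ≤ Q := fun a ha => by
    show φ a ∈ q
    rw [RingHom.mem_ker.1 ha]; exact q.zero_mem
  obtain ⟨rs, hw, hm, hrs⟩ := exists_regular_of_koszul hI Q hIQ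
  let B := Localization.AtPrime Q
  let eA : (P ⧸ RingHom.ker φ) ≃ₗ[P] A :=
    { (RingHom.quotientKerEquivOfSurjective hφ) with
      map_smul' := fun c x => by
        obtain ⟨y, rfl⟩ := Ideal.Quotient.mk_surjective x
        exact map_mul φ c y }
  let eN : B ⊗[P] A ≃ₗ[B] B ⧸ Ideal.ofList rs :=
    (TensorProduct.AlgebraTensorModule.congr (LinearEquiv.refl B B) eA.symm).trans
      ((Algebra.TensorProduct.quotIdealMapEquivTensorQuot B (RingHom.ker φ)).toLinearEquiv.symm.trans
        (Submodule.quotEquivOfEq _ _ hrs))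
  have hker : ∀ r ∈ rs, ∀ y : B ⧸ Ideal.ofList rs, r • y = 0 := fun r hr y => by
    obtain ⟨y, rfl⟩ := Ideal.Quotient.mk_surjective y
    exact Ideal.Quotient.eq_zero_iff_mem.2 (Ideal.mul_mem_right _ _ (Ideal.subset_span hr))
  have hoff : ∀ j : ℤ, j ≠ rs.length → Subsingleton (T (Dual.inD B B) (B ⊗[P] A) j) := fun j hj => by
    rw [DualCx.subsingleton_congr eN]
    rcases lt_or_gt_of_ne hj with hj | hj
    · exact subsingleton_T_of_regular _ rs hw hm hker hj
    · exact Ext_subsingleton_above rs hw hj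
  obtain ⟨e₁⟩ := localization_subsingleton_iff Q A (rs.length : ℤ)
  obtain ⟨e₂⟩ := nonempty_T_top rs hw
  let e : B ⊗[P] T (Dual.inD P P) A (rs.length : ℤ) ≃ₗ[B] B ⧸ Ideal.ofList rs :=
    e₁.trans ((DualCx.congr _ _ eN.symm).trans e₂)
  obtain ⟨Φ, hΦ, hΦs⟩ := exists_semilinear_HD φ h (rs.length : ℤ)
  let ι := TensorProduct.mk P B (T (Dual.inD P P) A (rs.length : ℤ)) 1
  obtain ⟨⟨z₀, s₀⟩, hz₀⟩ := IsLocalizedModule.surj Q.primeCompl ι (e.symm (Submodule.Quotient.mk 1))
  obtain ⟨x₀, hx₀⟩ := hΦ.2 z₀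
  have hs₀ : IsUnit (algebraMap P B s₀) := IsLocalization.map_units B s₀
  have hez₀ : e (ι z₀) = algebraMap P B s₀ • Submodule.Quotient.mk 1 := by
    rw [← hz₀, Submonoid.smul_def, ← algebraMap_smul B (s₀ : P), map_smul, LinearEquiv.apply_symm_apply]
  refine ⟨rs.length, x₀, fun j hj x => ?_, fun x => ?_, fun a ha => ?_⟩
  · obtain ⟨s, hs, hsx⟩ := exists_kill_HD φ h j Q.primeCompl (exists_kill_of_subsingleton Q A j (hoff j hj)) x
    exact ⟨φ s, hs, hsx⟩
  · obtain ⟨b, hb⟩ := Submodule.Quotient.mk_surjective _ (e (ι (Φ x)))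
    obtain ⟨v, hv⟩ := hs₀.exists_left_inv
    obtain ⟨⟨a, s⟩, has⟩ := IsLocalization.surj Q.primeCompl (b * v)
    have h1 : ι ((s : P) • Φ x) = ι (a • z₀) := e.injective (by
      rw [map_smul ι, map_smul ι, ← algebraMap_smul B (s : P) (ι (Φ x)), ← algebraMap_smul B a (ι z₀), map_smul,
        map_smul, ← hb, hez₀, smul_smul, ← Submodule.Quotient.mk_smul, ← Submodule.Quotient.mk_smul, smul_eq_mul,
        smul_eq_mul, mul_one]
      congr 1
      calc algebraMap P B s * b = (b * v * algebraMap P B s) * algebraMap P B s₀ := by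
            linear_combination -(algebraMap P B s * b) * hv
        _ = algebraMap P B a * algebraMap P B s₀ := by rw [has])
    obtain ⟨u, hu⟩ := (IsLocalizedModule.eq_iff_exists Q.primeCompl ι).1 h1
    refine ⟨φ ((u : P) * s), fun h => (u * s).2 h, φ ((u : P) * a), hΦ.1 ?_⟩
    rw [hΦs, hΦs, hx₀, mul_smul, mul_smul]
    exact hu
  · obtain ⟨p, rfl⟩ := hφ a
    have h1 : Φ (φ p • x₀) = p • z₀ := by rw [hΦs, hx₀]
    have h2 : p • z₀ = 0 := by
      rw [← h1, ha]
      have := hΦs 0 x₀
      rwa [map_zero, zero_smul, zero_smul] at this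
    have h3 : algebraMap P B (p * s₀) • (Submodule.Quotient.mk 1 : B ⧸ Ideal.ofList rs) = 0 := by
      rw [map_mul, mul_smul, ← hez₀, ← map_smul e, algebraMap_smul, ← map_smul ι, h2, map_zero, map_zero]
    rw [← Submodule.Quotient.mk_smul, Submodule.Quotient.mk_eq_zero, smul_eq_mul, mul_one, ← hrs] at h3
    obtain ⟨s, hs, hsI⟩ := (IsLocalization.algebraMap_mem_map_algebraMap_iff Q.primeCompl B _ _).1 h3
    refine ⟨φ (s * s₀), fun h => Q.primeCompl.mul_mem hs s₀.2 h, ?_⟩
    rw [← map_mul]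
    have : s * (p * s₀) ∈ RingHom.ker φ := hsI
    rw [show (s * ↑s₀) * p = s * (p * s₀) by ring]
    exact this

end

end Groth.Agent.Shriek
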