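import Groth.Agent.Shriek.TensorFlat

/-!
The counit of `W ⊗ C = RHom_R(A, J ⊗ C)` is natural in `C`.
-/

set_option autoImplicit false
set_option linter.style.haveILetI false
set_option maxHeartbeats 1000000
set_option backward.isDefEq.respectTransparency false
universe u

namespace Groth.Agent.Shriek

open CategoryTheory CategoryTheory.Limits MonoidalCategory

attribute [local instance] HasDerivedCategory.standard

noncomputable section

variable {R A : Type u} [CommRing R] [CommRing A] (φ : R →+* A)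

theorem IsU.of_gen {W : Dual.D A} {L : Dual.D R} (c : (DRing.restrictD φ).obj W ⟶ L)
    (h : ∀ i : ℤ, Function.Bijective (tr φ c ((Dual.inD A A)⟦i⟧))) : IsU φ c := by
  obtain ⟨W₀, c₀, h₀⟩ := RA.exists_of φ L
  obtain ⟨u, hu⟩ := (h₀ W).2 c
  have hu' : (DRing.restrictD φ).map u ≫ c₀ = c := hu
  haveI := isIso_of_gen u fun i => by
    have h1 : tr φ c ((Dual.inD A A)⟦i⟧) = tr φ c₀ _ ∘ fun v => v ≫ u := funext fun v => by
      simp [tr, ← hu']
    exact (Function.Bijective.of_comp_iff' (h₀ _) _).1 (h1 ▸ h i)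
  intro X
  have h2 : tr φ c X = tr φ c₀ X ∘ fun v => v ≫ u := funext fun v => by simp [tr, ← hu']
  rw [h2]
  exact (h₀ X).comp ⟨fun a b h => (cancel_mono u).1 h, fun y => ⟨y ≫ inv u, by simp⟩⟩

theorem pfCx_natural_right (Y : DRing.Cx A) {C C' : DRing.Cx R} (g : C ⟶ C') :
    ((DTen.resCx φ).obj Y ◁ g) ≫ pfCx φ Y C' =
      pfCx φ Y C ≫ (DTen.resCx φ).map (Y ◁ (DTen.extCx φ).map g) := by
  have h := DTen.resTenCx_naturality φ (𝟙 Y) ((DTen.extCx φ).map g)
  rw [CategoryTheory.Functor.map_id, MonoidalCategory.id_tensorHom, MonoidalCategory.id_tensorHom] at h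
  have hu := (DTen.unitCx φ).naturality g
  show ((DTen.resCx φ).obj Y ◁ g) ≫ ((DTen.resCx φ).obj Y ◁ (DTen.unitCx φ).app C') ≫ _ = (_ ≫ _) ≫ _
  rw [← MonoidalCategory.whiskerLeft_comp_assoc]
  erw [hu]
  rw [MonoidalCategory.whiskerLeft_comp_assoc, Category.assoc]
  exact congrArg (_ ≫ ·) h

/-- the counit of `W ⊗ C` -/
def counitC {W : DRing.Cx A} {J : DRing.Cx R} (c : (DTen.resCx φ).obj W ⟶ J) (C : DRing.Cx R) :
    (DTen.resCx φ).obj (W ⊗ (DTen.extCx φ).obj C) ⟶ J ⊗ C :=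
  inv (pfCx φ W C) ≫ (c ▷ C)

theorem counitC_natural {W : DRing.Cx A} {J : DRing.Cx R} (c : (DTen.resCx φ).obj W ⟶ J) {C C' : DRing.Cx R}
    (g : C ⟶ C') :
    (DTen.resCx φ).map (W ◁ (DTen.extCx φ).map g) ≫ counitC φ c C' = counitC φ c C ≫ (J ◁ g) := by
  rw [counitC, counitC, Category.assoc, ← whisker_exchange, ← cancel_epi (pfCx φ W C)]
  rw [← Category.assoc, ← pfCx_natural_right, Category.assoc, IsIso.hom_inv_id_assoc, IsIso.hom_inv_id_assoc]

theorem tr_counitC_natural {W : DRing.Cx A} {J : DRing.Cx R} (c : (DTen.resCx φ).obj W ⟶ J) {C C' : DRing.Cx R}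
    (g : C ⟶ C') {X : Dual.D A} (v : X ⟶ DerivedCategory.Q.obj (W ⊗ (DTen.extCx φ).obj C)) :
    tr φ (cQ φ (counitC φ c C')) X (v ≫ DerivedCategory.Q.map (W ◁ (DTen.extCx φ).map g)) =
      tr φ (cQ φ (counitC φ c C)) X v ≫ DerivedCategory.Q.map (J ◁ g) := by
  have h := (DTen.resFactors φ).hom.naturality (W ◁ (DTen.extCx φ).map g)
  rw [tr, tr, Functor.map_comp, Category.assoc, Category.assoc]
  refine congrArg (_ ≫ ·) ?_
  rw [cQ, cQ, Category.assoc, ← Functor.map_comp, ← counitC_natural, Functor.map_comp]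
  exact (Category.assoc _ _ _).symm.trans ((congrArg (· ≫ _) h).trans (Category.assoc _ _ _))

theorem exists_natural_counit (hA : letI := φ.toAlgebra; DRing.IsPerfectModule R A) {W : DRing.Cx A}
    {J : DRing.Cx R} [J.IsKInjective] (h : RA φ (DerivedCategory.Q.obj W) (DerivedCategory.Q.obj J)) :
    ∃ c : (DTen.resCx φ).obj W ⟶ J, ∀ C : DRing.Cx R, DRing.IsKFlat R C → IsU φ (cQ φ (counitC φ c C)) := by
  obtain ⟨d⟩ := exists_perfData φ hA
  obtain ⟨c₀, hc₀⟩ := h
  obtain ⟨c, hc⟩ := exists_lift_kInj ((DTen.resFactors φ).inv.app W ≫ c₀)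
  have hcQ : cQ φ c = c₀ := by rw [cQ, hc, Iso.hom_inv_id_app_assoc]
  refine ⟨c, fun C hC => ?_⟩
  letI := d.pair
  haveI := d.hα
  haveI := quasiIso_flatCx (D := d.D) φ d.α c d.hF d.hD d.hFS (hcQ ▸ hc₀)
  haveI := quasiIso_tensor_hom hC (flatCx (D := d.D) φ d.α c)
  haveI : QuasiIso (pfCx φ W C ≫ flatCx (D := d.D) φ d.α (counitC φ c C)) := by
    rw [counitC, pfCx_flatCx]; infer_instance
  haveI := quasiIso_of_comp_left (pfCx φ W C) (flatCx (D := d.D) φ d.α (counitC φ c C))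
  refine IsU.of_gen φ _ fun i => tr_bijective_congr φ (extFreeShiftIso φ i) _ ?_
  exact (bij_iff φ d.α (counitC φ c C) d.hF d.hD d.hFS (-i)).2
    ⟨fun a b h => (cancel_mono _).1 h,
      fun y => ⟨y ≫ inv (DerivedCategory.Q.map (flatCx φ d.α (counitC φ c C))), by simp⟩⟩

/-- extension in two steps, naturally -/
def extCompNat {P B : Type u} [CommRing P] [CommRing B] (θ : R →+* P) (ρ : P →+* B) (χ : R →+* B)
    (h : ρ.comp θ = χ) : DTen.extCx θ ⋙ DTen.extCx ρ ≅ DTen.extCx χ :=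
  NatIso.ofComponents (fun C => extComp θ ρ χ h C) fun {C C'} g => by
    subst h
    simp only [extComp, eqToIso_refl, Iso.trans_refl]
    exact ((NatIso.mapHomologicalComplex (ModuleCat.extendScalarsComp.{u} θ ρ) (ComplexShape.up ℤ)).inv).naturality g

/-- extension along the identity -/
def extIdNat (R : Type u) [CommRing R] : DTen.extCx (RingHom.id R) ≅ 𝟭 (DRing.Cx R) :=
  NatIso.mapHomologicalComplex (ModuleCat.extendScalarsId.{u} R) (ComplexShape.up ℤ) ≪≫
    Functor.mapHomologicalComplexIdIso _ _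

end

end Groth.Agent.Shriek
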