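import Groth.Agent.Shriek.RA
import Groth.Agent.Shriek.ActCx
import Groth.Agent.DTenLib.BraidCx
import Groth.Agent.DRingKP.Pseudo
import Mathlib.CategoryTheory.Monoidal.Rigid.Basic

/-!
The pairing criterion for `W = RHom_R(A, J)` when `A` is perfect over `R`.
-/

set_option autoImplicit false
set_option linter.style.haveILetI false
set_option maxHeartbeats 1000000
set_option backward.isDefEq.respectTransparency false
universe u

namespace Groth.Agent.Shriek

open CategoryTheory CategoryTheory.Limits MonoidalCategory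

attribute [local instance] HasDerivedCategory.standard

noncomputable section

variable {R A : Type u} [CommRing R] [CommRing A] (φ : R →+* A)

/-- equalities in `D` are kept by tensoring with a K-flat complex -/
theorem Q_whiskerLeft_congr {K : DRing.Cx R} (hK : DRing.IsKFlat R K) {X Y : DRing.Cx R} {f g : X ⟶ Y}
    (h : DerivedCategory.Q.map f = DerivedCategory.Q.map g) :
    DerivedCategory.Q.map (K ◁ f) = DerivedCategory.Q.map (K ◁ g) := by
  let G : DRing.Cx R ⥤ Dual.D R := tensorLeft K ⋙ DerivedCategory.Q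
  have hG : (HomologicalComplex.quasiIso (ModuleCat.{u} R) (ComplexShape.up ℤ)).IsInvertedBy G := fun X Y a ha => by
    haveI := DTenLib.isKFlat_comm hK a ha
    exact inferInstanceAs (IsIso (DerivedCategory.Q.map (K ◁ a)))
  let e : DerivedCategory.Q ⋙ Localization.lift G hG DerivedCategory.Q ≅ G := Localization.fac G hG _
  show G.map f = G.map g
  rw [← cancel_epi (e.hom.app X), ← e.hom.naturality f, ← e.hom.naturality g, Functor.comp_map, Functor.comp_map, h]

/-- equalities in `D` are kept by tensoring on the right with a K-flat complex -/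
theorem quasiIso_tensor_hom {K : DRing.Cx R} (hK : DRing.IsKFlat R K) {X Y : DRing.Cx R} (f : X ⟶ Y) [QuasiIso f] :
    QuasiIso (f ▷ K) :=
  DRingKP.quasiIso_whiskerRight hK f

/-- the free module in one degree -/
abbrev freeAt (R : Type u) [CommRing R] (k : ℤ) : DRing.Cx R :=
  (HomologicalComplex.single (ModuleCat.{u} R) (ComplexShape.up ℤ) k).obj (ModuleCat.of R R)

theorem vanishesAbove_freeAt (k : ℤ) : DRing.VanishesAbove (freeAt R k) k := fun i hi =>
  HomologicalComplex.isZero_single_obj_X _ _ _ _ hi.ne'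

theorem termwiseFiniteProjective_freeAt (k : ℤ) : DRing.TermwiseFiniteProjective (freeAt R k) := fun i => by
  by_cases hi : i = k
  · subst hi
    let e : (freeAt R i).X i ≃ₗ[R] R :=
      (HomologicalComplex.singleObjXSelf (ComplexShape.up ℤ) i (ModuleCat.of R R)).toLinearEquiv
    exact ⟨Module.Finite.equiv e.symm, Module.Projective.of_equiv e.symm⟩
  · haveI : Subsingleton ((freeAt R k).X i) :=
      ModuleCat.subsingleton_of_isZero (HomologicalComplex.isZero_single_obj_X _ _ _ _ hi)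
    exact ⟨inferInstance, inferInstance⟩

instance isKProjective_freeAt (k : ℤ) : (freeAt R k).IsKProjective :=
  DRingKP.isKProjective_of_finiteProjective k (vanishesAbove_freeAt k) (termwiseFiniteProjective_freeAt k)

theorem isKFlat_freeAt (k : ℤ) : DRing.IsKFlat R (freeAt R k) :=
  DRingKP.isKFlat_of_finiteProjective (vanishesAbove_freeAt k) (termwiseFiniteProjective_freeAt k)

/-- `R[i]` in `D(R)` -/
def freeShiftIso (R : Type u) [CommRing R] (i : ℤ) :
    DerivedCategory.Q.obj (freeAt R (-i)) ≅ (Dual.inD R R)⟦i⟧ :=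
  ((DerivedCategory.singleFunctorIsoCompQ (ModuleCat.{u} R) (-i)).app (ModuleCat.of R R)).symm ≪≫
    (((DerivedCategory.singleFunctors (ModuleCat.{u} R)).shiftIso i (-i) 0 (add_neg_cancel i)).app
      (ModuleCat.of R R)).symm

/-- `A[i]` in `D(A)` is the extension of `R[i]` -/
def extFreeShiftIso (i : ℤ) :
    DerivedCategory.Q.obj ((DTen.extCx φ).obj (freeAt R (-i))) ≅ (Dual.inD A A)⟦i⟧ :=
  DerivedCategory.Q.mapIso ((HomologicalComplex.singleMapHomologicalComplex (ModuleCat.extendScalars.{u, u, u} φ)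
      (ComplexShape.up ℤ) (-i)).app (ModuleCat.of R R) ≪≫
    (HomologicalComplex.single _ _ (-i)).mapIso (letI := φ.toAlgebra
      (TensorProduct.AlgebraTensorModule.rid R A A).toModuleIso)) ≪≫ freeShiftIso A i

/-- a chain map out of an extension, in `D` -/
theorem γ₀_res (S : DRing.Cx R) {W : DRing.Cx A} (z : (DTen.extCx φ).obj S ⟶ W) :
    DTenLib.γ₀ φ S ≫ (DRing.restrictD φ).map (DerivedCategory.Q.map z) =
      DerivedCategory.Q.map ((DTen.unitCx φ).app S ≫ (DTen.resCx φ).map z) ≫ (DTen.resFactors φ).inv.app W := by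
  have h := (DTen.resFactors φ).inv.naturality z
  rw [DTenLib.γ₀, Category.assoc, Functor.map_comp, Category.assoc]
  exact congrArg (_ ≫ ·) h.symm

variable {F D : DRing.Cx R} [ExactPairing D F] (α : F ⟶ (DTen.resCx φ).obj (𝟙_ (DRing.Cx A)))
  {J : DRing.Cx R} {W : DRing.Cx A} (c : (DTen.resCx φ).obj W ⟶ J)

/-- the pairing `F ⊗ W → J` -/
def evCx : F ⊗ (DTen.resCx φ).obj W ⟶ J := act φ α W ≫ c

/-- its transpose `W → F^∨ ⊗ J` -/
def flatCx : (DTen.resCx φ).obj W ⟶ D ⊗ J :=
  tensorLeftHomEquiv _ D F _ (evCx φ α c)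

/-- the candidate counit -/
def cQ : (DRing.restrictD φ).obj (DerivedCategory.Q.obj W) ⟶ DerivedCategory.Q.obj J :=
  (DTen.resFactors φ).hom.app W ≫ DerivedCategory.Q.map c

/-- `F ⊗ S → res (A ⊗ S)` -/
def thetaCx (S : DRing.Cx R) : F ⊗ S ⟶ (DTen.resCx φ).obj ((DTen.extCx φ).obj S) :=
  (F ◁ (DTen.unitCx φ).app S) ≫ act φ α _

theorem thetaCx_eq (S : DRing.Cx R) :
    thetaCx φ α S = (α ▷ S) ≫ pfCx φ (𝟙_ (DRing.Cx A)) S ≫
      (DTen.resCx φ).map (λ_ ((DTen.extCx φ).obj S)).hom := by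
  let E := (DTen.extCx φ).obj S
  let r := DTen.resCx φ
  let u : S ⟶ r.obj E := (DTen.unitCx φ).app S
  let t : r.obj (𝟙_ (DRing.Cx A)) ⊗ r.obj E ⟶ r.obj (𝟙_ (DRing.Cx A) ⊗ E) := DTen.resTenCx φ (𝟙_ (DRing.Cx A)) E
  show (F ◁ u) ≫ (α ▷ r.obj E) ≫ t ≫ r.map (λ_ E).hom =
    (α ▷ S) ≫ ((r.obj (𝟙_ (DRing.Cx A)) ◁ u) ≫ t) ≫ r.map (λ_ E).hom
  rw [whisker_exchange_assoc, Category.assoc]

theorem quasiIso_thetaCx [QuasiIso α] {S : DRing.Cx R} (hS : DRing.IsKFlat R S) : QuasiIso (thetaCx φ α S) := by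
  rw [thetaCx_eq]
  haveI := quasiIso_tensor_hom hS α
  haveI : IsIso ((DTen.resCx φ).map (λ_ ((DTen.extCx φ).obj S)).hom) := inferInstance
  infer_instance

theorem tr_Q (S : DRing.Cx R) (z : (DTen.extCx φ).obj S ⟶ W) :
    tr φ (cQ φ c) _ (DerivedCategory.Q.map z) =
      (DTen.resFactors φ).hom.app _ ≫ DerivedCategory.Q.map ((DTen.resCx φ).map z ≫ c) := by
  have h := (DTen.resFactors φ).hom.naturality z
  rw [tr, cQ, Functor.map_comp]
  exact (Category.assoc _ _ _).symm.trans ((congrArg (· ≫ _) h).trans (Category.assoc _ _ _))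

theorem theta_res (S : DRing.Cx R) (z : (DTen.extCx φ).obj S ⟶ W) :
    thetaCx φ α S ≫ (DTen.resCx φ).map z ≫ c =
      (F ◁ ((DTen.unitCx φ).app S ≫ (DTen.resCx φ).map z)) ≫ evCx φ α c := by
  rw [thetaCx, evCx, MonoidalCategory.whiskerLeft_comp, Category.assoc, Category.assoc,
    reassoc_of% (act_natural φ α z)]

theorem tr_theta (S : DRing.Cx R) (z : (DTen.extCx φ).obj S ⟶ W) :
    DerivedCategory.Q.map (thetaCx φ α S) ≫ (DTen.resFactors φ).inv.app _ ≫
        tr φ (cQ φ c) _ (DerivedCategory.Q.map z) =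
      DerivedCategory.Q.map ((F ◁ ((DTen.unitCx φ).app S ≫ (DTen.resCx φ).map z)) ≫ evCx φ α c) := by
  rw [tr_Q, Iso.inv_hom_id_app_assoc, ← Functor.map_comp, theta_res]

theorem homEquiv_Q_congr (hD : DRing.IsKFlat R D) {X M : DRing.Cx R} {a b : F ⊗ X ⟶ M}
    (h : DerivedCategory.Q.map a = DerivedCategory.Q.map b) :
    DerivedCategory.Q.map (tensorLeftHomEquiv X D F M a) = DerivedCategory.Q.map (tensorLeftHomEquiv X D F M b) := by
  simp only [tensorLeftHomEquiv, Equiv.coe_fn_mk, Functor.map_comp]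
  rw [Q_whiskerLeft_congr hD h]

theorem homEquiv_symm_Q_congr (hF : DRing.IsKFlat R F) {X M : DRing.Cx R} {a b : X ⟶ D ⊗ M}
    (h : DerivedCategory.Q.map a = DerivedCategory.Q.map b) :
    DerivedCategory.Q.map ((tensorLeftHomEquiv X D F M).symm a) =
      DerivedCategory.Q.map ((tensorLeftHomEquiv X D F M).symm b) := by
  simp only [tensorLeftHomEquiv, Equiv.coe_fn_symm_mk, Functor.map_comp]
  rw [Q_whiskerLeft_congr hF h]

theorem symm_comp_flat {S : DRing.Cx R} (f : S ⟶ (DTen.resCx φ).obj W) :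
    (tensorLeftHomEquiv S D F J).symm (f ≫ flatCx φ α c) = (F ◁ f) ≫ evCx φ α c := by
  rw [tensorLeftHomEquiv_symm_naturality, flatCx, Equiv.symm_apply_apply]

section Criterion

variable [QuasiIso α] (hF : DRing.IsKFlat R F) (hD : DRing.IsKFlat R D)
  (hFS : ∀ k : ℤ, (F ⊗ freeAt R k).IsKProjective)

include hD hFS hF in
theorem bij_iff (k : ℤ) :
    Function.Bijective (tr φ (cQ φ c) (DerivedCategory.Q.obj ((DTen.extCx φ).obj (freeAt R k)))) ↔
      Function.Bijective (fun g : DerivedCategory.Q.obj (freeAt R k) ⟶ DerivedCategory.Q.obj ((DTen.resCx φ).obj W) =>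
        g ≫ DerivedCategory.Q.map (flatCx (D := D) φ α c)) := by
  let S := freeAt R k
  haveI := DTenLib.isKProjective_ext φ S
  haveI := hFS k
  haveI : IsIso (DerivedCategory.Q.map (thetaCx φ α S)) := by
    haveI := quasiIso_thetaCx φ α (isKFlat_freeAt (R := R) k); infer_instance
  let i := DerivedCategory.Q.map (thetaCx φ α S) ≫ (DTen.resFactors φ).inv.app ((DTen.extCx φ).obj S)
  haveI : IsIso i := inferInstance
  have key : ∀ (z : (DTen.extCx φ).obj S ⟶ W) (f : S ⟶ (DTen.resCx φ).obj W),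
      (DTen.unitCx φ).app S ≫ (DTen.resCx φ).map z = f →
        i ≫ tr φ (cQ φ c) _ (DerivedCategory.Q.map z) =
          DerivedCategory.Q.map ((tensorLeftHomEquiv S D F J).symm (f ≫ flatCx φ α c)) := fun z f h => by
    rw [Category.assoc, tr_theta, h, symm_comp_flat]
  constructor
  · intro hb
    constructor
    · intro g₁ g₂ h
      obtain ⟨f₁, rfl⟩ := PerfLocal.exists_lift (R := R) g₁
      obtain ⟨f₂, rfl⟩ := PerfLocal.exists_lift (R := R) g₂
      have h' : DerivedCategory.Q.map (f₁ ≫ flatCx (D := D) φ α c) = DerivedCategory.Q.map (f₂ ≫ flatCx φ α c) := by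
        simpa only [Functor.map_comp] using h
      let z₁ := (DTen.extCx φ).map f₁ ≫ DTenLib.counitCx φ W
      let z₂ := (DTen.extCx φ).map f₂ ≫ DTenLib.counitCx φ W
      have h1 : DerivedCategory.Q.map z₁ = DerivedCategory.Q.map z₂ := hb.1 ((cancel_epi i).1 (by
        rw [key z₁ f₁ (DTenLib.unit_res_counit φ f₁), key z₂ f₂ (DTenLib.unit_res_counit φ f₂)]
        exact homEquiv_symm_Q_congr hF h'))
      have h2 := congrArg (fun w => DTenLib.γ₀ φ S ≫ (DRing.restrictD φ).map w) h1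
      simp only [γ₀_res, cancel_mono] at h2
      rwa [DTenLib.unit_res_counit, DTenLib.unit_res_counit] at h2
    · intro g
      obtain ⟨g₀, rfl⟩ := PerfLocal.exists_lift (R := R) g
      obtain ⟨v, hv⟩ := hb.2 (inv i ≫ DerivedCategory.Q.map ((tensorLeftHomEquiv S D F J).symm g₀))
      obtain ⟨z, rfl⟩ := PerfLocal.exists_lift (R := A) v
      refine ⟨DerivedCategory.Q.map ((DTen.unitCx φ).app S ≫ (DTen.resCx φ).map z), ?_⟩
      have h1 := key z _ rfl
      rw [hv, IsIso.hom_inv_id_assoc] at h1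
      have h2 := homEquiv_Q_congr hD h1
      rw [Equiv.apply_symm_apply, Equiv.apply_symm_apply] at h2
      exact ((DerivedCategory.Q.map_comp _ _).symm.trans h2.symm)
  · intro hb
    constructor
    · intro v₁ v₂ h
      obtain ⟨z₁, rfl⟩ := PerfLocal.exists_lift (R := A) v₁
      obtain ⟨z₂, rfl⟩ := PerfLocal.exists_lift (R := A) v₂
      have h1 := (key z₁ _ rfl).symm.trans ((congrArg (i ≫ ·) h).trans (key z₂ _ rfl))
      have h2 := homEquiv_Q_congr hD h1
      rw [Equiv.apply_symm_apply, Equiv.apply_symm_apply, Functor.map_comp _ _ (flatCx φ α c),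
        Functor.map_comp _ _ (flatCx φ α c)] at h2
      refine (DTenLib.bijective_γ₀ φ S W).1 ?_
      show DTenLib.γ₀ φ S ≫ _ = DTenLib.γ₀ φ S ≫ _
      rw [γ₀_res, γ₀_res, hb.1 h2]
    · intro y
      obtain ⟨g₁, hg₁⟩ := PerfLocal.exists_lift (R := R) (i ≫ y)
      obtain ⟨g, hg⟩ := hb.2 (DerivedCategory.Q.map (tensorLeftHomEquiv S D F J g₁))
      obtain ⟨f, rfl⟩ := PerfLocal.exists_lift (R := R) g
      refine ⟨DerivedCategory.Q.map ((DTen.extCx φ).map f ≫ DTenLib.counitCx φ W), (cancel_epi i).1 ?_⟩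
      rw [key _ f (DTenLib.unit_res_counit φ f)]
      have h3 : DerivedCategory.Q.map (f ≫ flatCx φ α c) = DerivedCategory.Q.map (tensorLeftHomEquiv S D F J g₁) :=
        (DerivedCategory.Q.map_comp _ _).trans hg
      rw [homEquiv_symm_Q_congr hF h3, Equiv.symm_apply_apply]
      exact hg₁

omit [QuasiIso α] in
theorem tr_bijective_congr {X X' : Dual.D A} (e : X ≅ X') {W' : Dual.D A} {L : Dual.D R}
    (c' : (DRing.restrictD φ).obj W' ⟶ L) (h : Function.Bijective (tr φ c' X)) :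
    Function.Bijective (tr φ c' X') := by
  have h1 : tr φ c' X' = (fun y => (DRing.restrictD φ).map e.inv ≫ y) ∘ tr φ c' X ∘ (fun v => e.hom ≫ v) := by
    funext v
    show tr φ c' X' v = (DRing.restrictD φ).map e.inv ≫ tr φ c' X (e.hom ≫ v)
    rw [← tr_comp, Iso.inv_hom_id_assoc]
  rw [h1]
  exact Function.Bijective.comp ⟨fun a b h => (cancel_epi _).1 h,
    fun y => ⟨(DRing.restrictD φ).map e.hom ≫ y, by simp [← Functor.map_comp_assoc]⟩⟩
    (h.comp ⟨fun a b h => (cancel_epi _).1 h, fun y => ⟨e.inv ≫ y, by simp⟩⟩)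

include hD hFS hF in
/-- A non-degenerate pairing gives `RHom_R(A, J)`. -/
theorem RA.of_pairing (h : QuasiIso (flatCx (D := D) φ α c)) :
    RA φ (DerivedCategory.Q.obj W) (DerivedCategory.Q.obj J) := by
  haveI := h
  refine RA.of_gen (cQ φ c) fun i => tr_bijective_congr φ (extFreeShiftIso φ i) _ ?_
  refine (bij_iff φ α c hF hD hFS (-i)).2 ?_
  exact ⟨fun a b h => (cancel_mono _).1 h, fun y => ⟨y ≫ inv (DerivedCategory.Q.map (flatCx φ α c)), by simp⟩⟩

include hD hFS hF in
/-- The pairing of `RHom_R(A, J)` is non-degenerate. -/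
theorem quasiIso_flatCx (h : IsU φ (cQ φ c)) : QuasiIso (flatCx (D := D) φ α c) := by
  have hb : ∀ i : ℤ, Function.Bijective
      (fun v : (Dual.inD R R)⟦i⟧ ⟶ DerivedCategory.Q.obj ((DTen.resCx φ).obj W) =>
        v ≫ DerivedCategory.Q.map (flatCx (D := D) φ α c)) := fun i => by
    have h1 := (bij_iff φ α c hF hD hFS (-i)).1 (h _)
    constructor
    · intro a b hab
      refine (cancel_epi (freeShiftIso R i).hom).1 (h1.1 ?_)
      simp only [Category.assoc]
      exact congrArg ((freeShiftIso R i).hom ≫ ·) hab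
    · intro y
      obtain ⟨v, hv⟩ := h1.2 ((freeShiftIso R i).hom ≫ y)
      exact ⟨(freeShiftIso R i).inv ≫ v, by simp only [Category.assoc] at hv ⊢; rw [hv, Iso.inv_hom_id_assoc]⟩
  haveI := isIso_of_gen (DerivedCategory.Q.map (flatCx (D := D) φ α c)) hb
  exact (DerivedCategory.isIso_Q_map_iff_quasiIso _ (flatCx (D := D) φ α c)).1 inferInstance

end Criterion

/-- The pairing of a tensor product. -/
theorem pfCx_flatCx (C : DRing.Cx R) :
    pfCx φ W C ≫ flatCx (D := D) φ α (inv (pfCx φ W C) ≫ (c ▷ C)) = (flatCx φ α c ▷ C) ≫ (α_ D J C).hom := by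
  have h : (F ◁ pfCx φ W C) ≫ evCx φ α (inv (pfCx φ W C) ≫ (c ▷ C)) =
      (α_ _ _ _).inv ≫ (evCx φ α c ▷ C) := by
    rw [evCx, evCx, reassoc_of% (act_pfCx φ α W C), IsIso.hom_inv_id_assoc, comp_whiskerRight]
  apply (tensorLeftHomEquiv _ D F _).symm.injective
  rw [tensorLeftHomEquiv_symm_naturality, flatCx, Equiv.symm_apply_apply, h]
  apply (tensorLeftHomEquiv _ D F _).injective
  rw [Equiv.apply_symm_apply, flatCx]
  simp only [tensorLeftHomEquiv, Equiv.coe_fn_mk]
  monoidal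

/-- A tensor product keeps non-degenerate pairings. -/
theorem RA.tensor [QuasiIso α] (hF : DRing.IsKFlat R F) (hD : DRing.IsKFlat R D)
    (hFS : ∀ k : ℤ, (F ⊗ freeAt R k).IsKProjective) (h : IsU φ (cQ φ c)) {C : DRing.Cx R}
    (hC : DRing.IsKFlat R C) :
    RA φ (DerivedCategory.Q.obj (W ⊗ (DTen.extCx φ).obj C)) (DerivedCategory.Q.obj (J ⊗ C)) := by
  haveI := quasiIso_flatCx (D := D) φ α c hF hD hFS h
  haveI := quasiIso_tensor_hom hC (flatCx (D := D) φ α c)
  let c' : (DTen.resCx φ).obj (W ⊗ (DTen.extCx φ).obj C) ⟶ J ⊗ C := inv (pfCx φ W C) ≫ (c ▷ C)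
  haveI : QuasiIso (pfCx φ W C ≫ flatCx (D := D) φ α c') := by
    rw [pfCx_flatCx]; infer_instance
  exact RA.of_pairing (D := D) φ α c' hF hD hFS (quasiIso_of_comp_left (pfCx φ W C) _)

end

end Groth.Agent.Shriek
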