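import Groth.Agent.Shriek.SecMain
import Groth.Agent.DualFlat.Global
import Mathlib.RingTheory.Polynomial.Ideal
import Mathlib.Algebra.MvPolynomial.CommRing

/-!
`RHom_{R[x]}(R, K[x]) = K[-n]` for evaluation at a point.
-/

set_option autoImplicit false
set_option linter.style.haveILetI false
set_option maxHeartbeats 1000000
universe u

namespace Groth.Agent.Shriek

open CategoryTheory CategoryTheory.Limits DerivedCategory MvPolynomial
open Groth.Agent.DualCx

attribute [local instance] HasDerivedCategory.standard

noncomputable section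

section Equiv

variable {A B : Type u} [CommRing A] [CommRing B]

/-- restriction along the identity -/
def restrictDId : DRing.restrictD (RingHom.id A) ≅ 𝟭 (Dual.D A) :=
  Localization.liftNatIso DerivedCategory.Q (HomologicalComplex.quasiIso (ModuleCat.{u} A) (ComplexShape.up ℤ))
    (DerivedCategory.Q ⋙ DRing.restrictD (RingHom.id A)) (DerivedCategory.Q ⋙ 𝟭 (Dual.D A)) _ _
    ((rs (RingHom.id A)).mapDerivedCategoryFactors ≪≫
      Functor.isoWhiskerRight (NatIso.mapHomologicalComplex (ModuleCat.restrictScalarsId' (RingHom.id A) rfl) _ ≪≫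
        Functor.mapHomologicalComplexIdIso _ _) DerivedCategory.Q ≪≫
      Functor.leftUnitor _ ≪≫ (Functor.rightUnitor _).symm)

/-- restriction along an isomorphism is an equivalence -/
def restrictDEquiv (φ : A →+* B) (ψ : B →+* A) (h₁ : ψ.comp φ = RingHom.id A) (h₂ : φ.comp ψ = RingHom.id B) :
    Dual.D B ≌ Dual.D A :=
  CategoryTheory.Equivalence.mk (DRing.restrictD φ) (DRing.restrictD ψ)
    (restrictDComp ψ φ (RingHom.id B) h₂ ≪≫ restrictDId).symm (restrictDComp φ ψ (RingHom.id A) h₁ ≪≫ restrictDId)

theorem RA.of_ringIso (φ : A →+* B) (ψ : B →+* A) (h₁ : ψ.comp φ = RingHom.id A) (h₂ : φ.comp ψ = RingHom.id B)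
    [PreservesFiniteLimits (DualCx.ext ψ)] (K : Dual.D B) : RA φ K ((locD ψ).obj K) := by
  let E := restrictDEquiv φ ψ h₁ h₂
  haveI : (DRing.restrictD φ).IsEquivalence := E.isEquivalence_functor
  let e : DRing.restrictD φ ≅ locD ψ := E.toAdjunction.leftAdjointUniq (dAdj ψ)
  exact ⟨(e.app K).hom, fun X => Function.Bijective.comp
    ⟨fun a b h => (cancel_mono (e.app K).hom).1 h, fun y => ⟨y ≫ (e.app K).inv, by
      show (y ≫ (e.app K).inv) ≫ (e.app K).hom = y
      rw [Category.assoc, Iso.inv_hom_id, Category.comp_id]⟩⟩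
    ⟨(DRing.restrictD φ).map_injective, (DRing.restrictD φ).map_surjective⟩⟩

theorem preservesFiniteLimits_of_flat (φ : A →+* B) (h : φ.Flat) : PreservesFiniteLimits (DualCx.ext φ) := by
  letI := φ.toAlgebra
  haveI : Module.Flat A B := h
  exact DualCx.preservesFiniteLimits_ext

theorem flat_of_inverse (φ : A →+* B) (ψ : B →+* A) (h₁ : ψ.comp φ = RingHom.id A) (h₂ : φ.comp ψ = RingHom.id B) :
    φ.Flat :=
  RingHom.Flat.of_bijective
    ⟨fun a b h => by simpa [← RingHom.comp_apply, h₁] using congrArg ψ h,
      fun y => ⟨ψ y, by rw [← RingHom.comp_apply, h₂]; rfl⟩⟩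

end Equiv

variable (R : Type u) [CommRing R]

/-- extension to a polynomial ring -/
abbrev polyD (n : ℕ) : Dual.D R ⥤ Dual.D (MvPolynomial (Fin n) R) := locD (algebraMap R (MvPolynomial (Fin n) R))

/-- evaluation at a point -/
theorem RA.eval : ∀ (n : ℕ) (f : Fin n → R) (K : Dual.D R),
    RA (MvPolynomial.eval f) K (((polyD R n).obj K)⟦(n : ℤ)⟧) := by
  intro n
  induction n with
  | zero =>
    intro f K
    have h₁ : (algebraMap R (MvPolynomial (Fin 0) R)).comp (MvPolynomial.eval f) = RingHom.id _ :=
      MvPolynomial.ringHom_ext (fun r => by simp) fun i => i.elim0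
    have h₂ : (MvPolynomial.eval f).comp (algebraMap R (MvPolynomial (Fin 0) R)) = RingHom.id R :=
      RingHom.ext fun r => by simp
    exact RA.of_iso (RA.of_ringIso (MvPolynomial.eval f) (algebraMap R (MvPolynomial (Fin 0) R)) h₁ h₂ K)
      (Iso.refl K) ((shiftFunctorZero' (Dual.D (MvPolynomial (Fin 0) R)) ((0 : ℕ) : ℤ) rfl).app _).symm
  | succ n ih =>
    intro f K
    let S := MvPolynomial (Fin n) R
    let e := MvPolynomial.finSuccEquiv R n
    letI : Algebra S (MvPolynomial (Fin (n + 1)) R) := (e.symm.toRingHom.comp Polynomial.C).toAlgebra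
    haveI : Module.Flat S (MvPolynomial (Fin (n + 1)) R) := by
      have h : (e.symm.toRingHom.comp (Polynomial.C : S →+* Polynomial S)).Flat :=
        RingHom.Flat.comp (show (algebraMap S (Polynomial S)).Flat from RingHom.flat_algebraMap_iff.2 inferInstance)
          (RingHom.Flat.of_bijective e.symm.bijective)
      exact h
    let s : MvPolynomial (Fin (n + 1)) R →ₐ[S] S :=
      { (Polynomial.evalRingHom (MvPolynomial.C (f 0))).comp e.toRingHom with
        commutes' := fun p => by
          show Polynomial.eval (MvPolynomial.C (f 0)) (e (e.symm (Polynomial.C p))) = p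
          rw [e.apply_symm_apply, Polynomial.eval_C] }
    let t : MvPolynomial (Fin (n + 1)) R := e.symm (Polynomial.X - Polynomial.C (MvPolynomial.C (f 0)))
    have hs : Sect s t := by
      refine ⟨?_, ?_⟩
      · ext y
        show Polynomial.eval (MvPolynomial.C (f 0)) (e y) = 0 ↔ _
        rw [Ideal.mem_span_singleton]
        refine Polynomial.dvd_iff_isRoot.symm.trans ⟨?_, ?_⟩
        · intro h
          have h' := map_dvd e.symm h
          rwa [e.symm_apply_apply] at h'
        · intro h
          have h' := map_dvd e h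
          rwa [e.apply_symm_apply] at h'
      · intro a b h
        apply e.injective
        have h' := congrArg e h
        simp only [smul_eq_mul, map_mul, t, e.apply_symm_apply] at h'
        exact (Polynomial.monic_X_sub_C _).isRegular.left h'
    haveI := DualCx.preservesFiniteLimits_ext (A := S) (B := MvPolynomial (Fin (n + 1)) R)
    obtain ⟨ec⟩ := DualFlat.nonempty_locD_comp (algebraMap R S) (algebraMap S (MvPolynomial (Fin (n + 1)) R))
      (algebraMap R (MvPolynomial (Fin (n + 1)) R)) (RingHom.ext fun r => by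
        show e.symm (Polynomial.C (MvPolynomial.C r)) = MvPolynomial.C r
        apply e.injective
        rw [e.apply_symm_apply]
        simp [e, MvPolynomial.finSuccEquiv_apply]) K
    have h1 := RA.sect hs (((polyD R n).obj K)⟦(n : ℤ)⟧)
    have h2 : RA (MvPolynomial.eval fun i : Fin n => f i.succ) K (((polyD R n).obj K)⟦(n : ℤ)⟧) := ih _ K
    have hcomp : (MvPolynomial.eval fun i : Fin n => f i.succ).comp s.toRingHom = MvPolynomial.eval f := by
      refine MvPolynomial.ringHom_ext (fun r => ?_) fun i => ?_
      · show MvPolynomial.eval _ (Polynomial.eval (MvPolynomial.C (f 0)) (e (MvPolynomial.C r))) = _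
        simp [e, MvPolynomial.finSuccEquiv_apply]
      · show MvPolynomial.eval _ (Polynomial.eval (MvPolynomial.C (f 0)) (e (MvPolynomial.X i))) = _
        cases i using Fin.cases <;> simp [e, MvPolynomial.finSuccEquiv_apply]
    refine RA.of_iso (RA.comp h1 h2 _ hcomp) (Iso.refl K) ?_
    exact (shiftFunctor _ (1 : ℤ)).mapIso
        (((locD (algebraMap S (MvPolynomial (Fin (n + 1)) R))).commShiftIso (n : ℤ)).app _ ≪≫
          (shiftFunctor _ (n : ℤ)).mapIso ec) ≪≫
      ((shiftFunctorAdd' (Dual.D (MvPolynomial (Fin (n + 1)) R)) (n : ℤ) 1 ((n + 1 : ℕ) : ℤ) (by lia)).app _).symm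

end

end Groth.Agent.Shriek
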