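import Groth.Agent.Shriek.SecModule
import Groth.Agent.DualCx.LocGlobal
import Mathlib.CategoryTheory.Localization.Adjunction
import Mathlib.Algebra.Homology.DerivedCategory.ShortExact

/-!
`RHom_T(S, T ⊗_S K) = K[-1]` for a section `T → S` cut out by a regular element.
-/

set_option autoImplicit false
set_option linter.style.haveILetI false
set_option maxHeartbeats 1000000
universe u

namespace Groth.Agent.Shriek

open CategoryTheory CategoryTheory.Limits DerivedCategory Pretriangulated TensorProduct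
open Groth.Agent.DualCx

attribute [local instance] HasDerivedCategory.standard

noncomputable section

section Adj

variable {A B : Type u} [CommRing A] [CommRing B] (φ : A →+* B) [PreservesFiniteLimits (DualCx.ext φ)]

/-- termwise extension -/
abbrev eC : CochainComplex (ModuleCat.{u} A) ℤ ⥤ CochainComplex (ModuleCat.{u} B) ℤ :=
  (DualCx.ext φ).mapHomologicalComplex (ComplexShape.up ℤ)

/-- termwise restriction -/
abbrev rC : CochainComplex (ModuleCat.{u} B) ℤ ⥤ CochainComplex (ModuleCat.{u} A) ℤ :=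
  (rs φ).mapHomologicalComplex (ComplexShape.up ℤ)

instance sqExt : CatCommSq (eC φ) DerivedCategory.Q DerivedCategory.Q (locD φ) :=
  ⟨(DualCx.ext φ).mapDerivedCategoryFactors.symm⟩

omit [PreservesFiniteLimits (DualCx.ext φ)] in
instance sqRes : CatCommSq (rC φ) DerivedCategory.Q DerivedCategory.Q (DRing.restrictD φ) :=
  ⟨(rs φ).mapDerivedCategoryFactors.symm⟩

/-- termwise adjunction -/
abbrev cAdj : eC φ ⊣ rC φ :=
  KInj.mapHomologicalComplexAdj (ModuleCat.extendRestrictScalarsAdj φ) (ComplexShape.up ℤ)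

/-- extension is left adjoint to restriction on derived categories -/
def dAdj : locD φ ⊣ DRing.restrictD φ :=
  (cAdj φ).localization DerivedCategory.Q (HomologicalComplex.quasiIso (ModuleCat.{u} A) (ComplexShape.up ℤ))
    DerivedCategory.Q (HomologicalComplex.quasiIso (ModuleCat.{u} B) (ComplexShape.up ℤ)) (locD φ) (DRing.restrictD φ)

theorem dAdj_homEquiv {C : CochainComplex (ModuleCat.{u} A) ℤ} {D : CochainComplex (ModuleCat.{u} B) ℤ}
    (g : (eC φ).obj C ⟶ D) (Y : Dual.D B) (e : DerivedCategory.Q.obj D ≅ Y) :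
    (dAdj φ).homEquiv _ _ ((locQ φ C).hom ≫ DerivedCategory.Q.map g ≫ e.hom) =
      DerivedCategory.Q.map ((cAdj φ).homEquiv C D g) ≫
        ((rs φ).mapDerivedCategoryFactors.app D).inv ≫ (DRing.restrictD φ).map e.hom := by
  rw [Adjunction.homEquiv_unit, Adjunction.homEquiv_unit, dAdj, Adjunction.localization_unit_app]
  show (DerivedCategory.Q.map _ ≫ (rs φ).mapDerivedCategoryFactors.inv.app _ ≫
      (DRing.restrictD φ).map ((DualCx.ext φ).mapDerivedCategoryFactors.inv.app C)) ≫ _ = _
  simp only [Functor.map_comp, Category.assoc]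
  rw [← Functor.map_comp_assoc (DRing.restrictD φ) _ (locQ φ C).hom]
  erw [Iso.inv_hom_id_app, CategoryTheory.Functor.map_id, Category.id_comp]
  have h := (rs φ).mapDerivedCategoryFactors.inv.naturality g
  simp only [Functor.comp_map] at h
  erw [← reassoc_of% h]
  rfl

end Adj

section Main

variable {S T : Type u} [CommRing S] [CommRing T] [Algebra S T] [Module.Flat S T] {s : T →ₐ[S] S} {t : T}

variable (s) in
/-- `T ⊗ C → C` -/
def πC (C : CochainComplex (ModuleCat.{u} S) ℤ) : (eC (algebraMap S T)).obj C ⟶ (rC s.toRingHom).obj C :=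
  (NatTrans.mapHomologicalComplex (πM s) (ComplexShape.up ℤ)).app C

variable (s) in
/-- `C = res res C` -/
def jC (C : CochainComplex (ModuleCat.{u} S) ℤ) : C ≅ (rC (algebraMap S T)).obj ((rC s.toRingHom).obj C) :=
  HomologicalComplex.Hom.isoOfComponents (fun i => (ιM s).app (C.X i))
    (fun i j _ => ((ιM s).hom.naturality (C.d i j)).symm)

omit [Module.Flat S T] in
theorem homEquiv_πC (C : CochainComplex (ModuleCat.{u} S) ℤ) :
    (cAdj (algebraMap S T)).homEquiv C _ (πC s C) = (jC s C).hom := by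
  refine HomologicalComplex.hom_ext _ _ fun i => ?_
  exact ((erAdj (S := S) (T := T)).homEquiv_unit (C.X i) _ ((πM s).app (C.X i))).symm.trans (homEquiv_πM s (C.X i))

omit [Module.Flat S T] in
theorem shortExact_cx (hs : Sect s t) (C : CochainComplex (ModuleCat.{u} S) ℤ) :
    ∃ h : (t • 𝟙 ((eC (algebraMap S T)).obj C)) ≫ πC s C = 0,
      (ShortComplex.mk (t • 𝟙 ((eC (algebraMap S T)).obj C)) (πC s C) h).ShortExact := by
  have h : (t • 𝟙 ((eC (algebraMap S T)).obj C)) ≫ πC s C = 0 :=
    HomologicalComplex.hom_ext _ _ fun i =>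
      (fun {S' : ShortComplex (ModuleCat.{u} T)} (_ : S'.ShortExact) => S'.zero) (shortExact_module hs (C.X i))
  exact ⟨h, HomologicalComplex.shortExact_of_degreewise_shortExact _ fun i => shortExact_module hs (C.X i)⟩

/-- multiplication by `t` is injective on the cohomology of an extended complex -/
theorem smul_hd_injective (hs : Sect s t) (K : Dual.D S) (j : ℤ)
    (z : Dual.HD T ((locD (algebraMap S T)).obj K) j) (hz : t • z = 0) : z = 0 := by
  let M := (DerivedCategory.homologyFunctor (ModuleCat.{u} S) j).obj K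
  let e := (locHD (algebraMap S T) K j).toLinearEquiv
  have hinj := (ModuleCat.mono_iff_injective _).1 (shortExact_module hs M).mono_f
  refine e.injective ((hinj ?_).trans (map_zero e).symm)
  show t • e z = t • (0 : ((eT (T := T)).obj M : Type u))
  rw [← map_smul, hz, map_zero, smul_zero]

/-- maps out of the ring into a shift -/
abbrev T' (L : Dual.D T) (i : ℤ) : Type _ := Dual.inD T T ⟶ L⟦i⟧

/-- multiplication by `t` is injective on maps out of the shifts of the free module -/
theorem smul_hom_injective (hs : Sect s t) (K : Dual.D S) (i : ℤ) (g : (Dual.inD T T)⟦i⟧ ⟶ (locD (algebraMap S T)).obj K)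
    (hg : t • g = 0) : g = 0 := by
  let L := (locD (algebraMap S T)).obj K
  let adj : shiftFunctor (Dual.D T) i ⊣ shiftFunctor (Dual.D T) (-i) := (shiftEquiv (Dual.D T) i).toAdjunction
  have hu : ∀ g : (Dual.inD T T)⟦i⟧ ⟶ L, adj.homEquiv _ L g =
      (adj.unit.app (Dual.inD T T) ≫ (shiftFunctor (Dual.D T) (-i)).map g : T' L (-i)) := fun g =>
    adj.homEquiv_unit _ _ g
  have h1 : t • (adj.homEquiv _ L g : T' L (-i)) = 0 := by
    rw [hu, ← Linear.comp_smul, ← Functor.map_smul, hg, Functor.map_zero]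
    exact comp_zero
  have h2 : (adj.homEquiv _ L g : T' L (-i)) = 0 := (DualCx.homEquiv L (-i)).injective (by
    refine Eq.trans ?_ (map_zero _).symm
    exact smul_hd_injective hs K (-i) _ ((map_smul (DualCx.homEquiv L (-i)) t _).symm.trans
      ((congrArg _ h1).trans (map_zero (DualCx.homEquiv L (-i))))))
  exact (adj.homEquiv _ L).injective (h2.trans ((hu 0).trans (by rw [Functor.map_zero]; exact comp_zero)).symm)

/-- The key computation. -/
theorem RA.sect (hs : Sect s t) (K : Dual.D S) :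
    RA s.toRingHom K (((locD (algebraMap S T)).obj K)⟦(1 : ℤ)⟧) := by
  -- a triangle `EX → EX → res X → EX[1]` for every `X`
  have tri : ∀ X : Dual.D S, ∃ (q : (locD (algebraMap S T)).obj X ⟶ (DRing.restrictD s.toRingHom).obj X)
      (δ : (DRing.restrictD s.toRingHom).obj X ⟶ ((locD (algebraMap S T)).obj X)⟦(1 : ℤ)⟧),
      Triangle.mk (t • 𝟙 ((locD (algebraMap S T)).obj X)) q δ ∈ distTriang (Dual.D T) ∧
      IsIso ((dAdj (algebraMap S T)).homEquiv _ _ q) := by
    intro X
    let C := DerivedCategory.Q.objPreimage X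
    let eX := DerivedCategory.Q.objObjPreimageIso X
    obtain ⟨h0, hse⟩ := shortExact_cx hs C
    let e₁ : (locD (algebraMap S T)).obj X ≅ DerivedCategory.Q.obj ((eC (algebraMap S T)).obj C) :=
      (locD (algebraMap S T)).mapIso eX.symm ≪≫ locQ (algebraMap S T) C
    let f₃ : DerivedCategory.Q.obj ((rC s.toRingHom).obj C) ≅ (DRing.restrictD s.toRingHom).obj X :=
      ((rs s.toRingHom).mapDerivedCategoryFactors.app C).symm ≪≫ (DRing.restrictD s.toRingHom).mapIso eX
    refine ⟨e₁.hom ≫ DerivedCategory.Q.map (πC s C) ≫ f₃.hom, f₃.inv ≫ triangleOfSESδ hse ≫ e₁.inv⟦(1 : ℤ)⟧',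
      isomorphic_distinguished _ (triangleOfSES_distinguished hse) _ (Triangle.isoMk _ _ e₁ e₁ f₃.symm ?_ ?_ ?_), ?_⟩
    · show (t • 𝟙 _) ≫ e₁.hom = e₁.hom ≫ DerivedCategory.Q.map (t • 𝟙 _)
      rw [Functor.map_smul, CategoryTheory.Functor.map_id, Linear.smul_comp, Linear.comp_smul, Category.id_comp,
        Category.comp_id]
    · show (e₁.hom ≫ DerivedCategory.Q.map (πC s C) ≫ f₃.hom) ≫ f₃.inv = e₁.hom ≫ DerivedCategory.Q.map (πC s C)
      simp
    · show (f₃.inv ≫ triangleOfSESδ hse ≫ e₁.inv⟦(1 : ℤ)⟧') ≫ e₁.hom⟦(1 : ℤ)⟧' = f₃.inv ≫ triangleOfSESδ hse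
      rw [Category.assoc, Category.assoc, ← Functor.map_comp, e₁.inv_hom_id, CategoryTheory.Functor.map_id,
        Category.comp_id]
    · show IsIso ((dAdj (algebraMap S T)).homEquiv _ _ (((locD (algebraMap S T)).map eX.inv ≫
        (locQ (algebraMap S T) C).hom) ≫ DerivedCategory.Q.map (πC s C) ≫ f₃.hom))
      rw [Category.assoc, Adjunction.homEquiv_naturality_left, dAdj_homEquiv, homEquiv_πC]
      exact IsIso.comp_isIso' inferInstance (IsIso.comp_isIso' inferInstance (IsIso.comp_isIso' inferInstance inferInstance))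
  obtain ⟨q, δ, hT, hq⟩ := tri K
  refine RA.of_gen δ fun i => ?_
  let X : Dual.D S := (Dual.inD S S)⟦i⟧
  let EK := (locD (algebraMap S T)).obj K
  obtain ⟨qX, δX, hTX, hqX⟩ := tri X
  -- adjunction bijection
  let adj := dAdj (algebraMap S T)
  let j := adj.homEquiv K _ q
  haveI : IsIso j := hq
  let jX := adj.homEquiv X _ qX
  haveI : IsIso jX := hqX
  let eX : (locD (algebraMap S T)).obj X ≅ (Dual.inD T T)⟦i⟧ :=
    ((locD (algebraMap S T)).commShiftIso i).app (Dual.inD S S) ≪≫ (shiftFunctor (Dual.D T) i).mapIso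
      (locInD (algebraMap S T) S ≪≫ (DerivedCategory.singleFunctor (ModuleCat.{u} T) 0).mapIso
        ((DRingKP.extendTensorIso (B := T) S) ≪≫ (TensorProduct.AlgebraTensorModule.rid S T T).toModuleIso))
  have hinj : ∀ g : (locD (algebraMap S T)).obj X ⟶ EK, t • g = 0 → g = 0 := fun g hg => by
    refine (cancel_epi eX.inv).1 ?_
    rw [comp_zero]
    refine smul_hom_injective hs K i _ ?_
    rw [← Linear.comp_smul, hg, comp_zero]
  have hinj1 : ∀ g : ((locD (algebraMap S T)).obj X)⟦(1 : ℤ)⟧ ⟶ EK, t • g = 0 → g = 0 := fun g hg => by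
    let e1 := (shiftFunctor (Dual.D T) (1 : ℤ)).mapIso eX ≪≫
      ((shiftFunctorAdd' (Dual.D T) i 1 (i + 1) rfl).app (Dual.inD T T)).symm
    refine (cancel_epi e1.inv).1 ?_
    rw [comp_zero]
    refine smul_hom_injective hs K (i + 1) _ ?_
    rw [← Linear.comp_smul, hg, comp_zero]
  have ht : s t = 0 := by
    have : t ∈ RingHom.ker s.toRingHom := hs.ker_eq ▸ Ideal.mem_span_singleton_self t
    exact this
  have hkill : ∀ {Y : Dual.D T} (h : (DRing.restrictD s.toRingHom).obj X ⟶ Y), t • h = 0 := fun h => by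
    letI := s.toRingHom.toAlgebra
    have h2 := resD_smul_id (A := T) (B := S) t X
    rw [show algebraMap T S t = 0 from ht, zero_smul, Functor.map_zero] at h2
    have h3 : t • 𝟙 ((DRing.restrictD s.toRingHom).obj X) = 0 := h2.symm
    rw [← Category.id_comp h, ← Linear.smul_comp, h3, zero_comp]
  have hbij : Function.Bijective fun x : X ⟶ K => qX ≫ (DRing.restrictD s.toRingHom).map x := by
    have h1 : (fun x : X ⟶ K => qX ≫ (DRing.restrictD s.toRingHom).map x) = (adj.homEquiv X _).symm ∘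
        fun x => jX ≫ (DRing.restrictD (algebraMap S T)).map ((DRing.restrictD s.toRingHom).map x) := funext fun x =>
      ((adj.homEquiv_naturality_right_symm jX _).trans
        (congrArg (· ≫ (DRing.restrictD s.toRingHom).map x) ((adj.homEquiv X _).symm_apply_apply qX))).symm
    rw [h1]
    refine (adj.homEquiv X _).symm.bijective.comp ?_
    let e := restrictDComp (algebraMap S T) s.toRingHom (RingHom.id S) (comp_eq_id s)
    let e' : DRing.restrictD (RingHom.id S) ≅ 𝟭 (Dual.D S) :=
      Localization.liftNatIso DerivedCategory.Q (HomologicalComplex.quasiIso (ModuleCat.{u} S) (ComplexShape.up ℤ))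
        (DerivedCategory.Q ⋙ DRing.restrictD (RingHom.id S)) (DerivedCategory.Q ⋙ 𝟭 (Dual.D S)) _ _
        ((rs (RingHom.id S)).mapDerivedCategoryFactors ≪≫
          Functor.isoWhiskerRight (NatIso.mapHomologicalComplex (ModuleCat.restrictScalarsId' (RingHom.id S) rfl) _ ≪≫
            Functor.mapHomologicalComplexIdIso _ _) DerivedCategory.Q ≪≫
          Functor.leftUnitor _ ≪≫ (Functor.rightUnitor _).symm)
    let f := e ≪≫ e'
    have h2 : (fun x : X ⟶ K => jX ≫ (DRing.restrictD (algebraMap S T)).map ((DRing.restrictD s.toRingHom).map x)) =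
        fun x => (jX ≫ f.hom.app X) ≫ x ≫ f.inv.app K := funext fun x => by
      have h3 := f.hom.naturality x
      simp only [Functor.comp_map, Functor.id_map] at h3
      rw [Category.assoc, ← reassoc_of% h3]
      simp
    rw [h2]
    exact ⟨fun a b h => (cancel_mono (f.inv.app K)).1 ((cancel_epi (jX ≫ f.hom.app X)).1 h),
      fun y => ⟨inv (jX ≫ f.hom.app X) ≫ y ≫ f.hom.app K, by simp⟩⟩
  refine ⟨fun x y hxy => ?_, fun f => ?_⟩
  · refine sub_eq_zero.1 (hbij.1 ?_)
    show qX ≫ (DRing.restrictD s.toRingHom).map (x - y) = qX ≫ (DRing.restrictD s.toRingHom).map 0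
    have h1 : (DRing.restrictD s.toRingHom).map (x - y) ≫ δ = 0 := by
      rw [Functor.map_sub, Preadditive.sub_comp, sub_eq_zero]; exact hxy
    obtain ⟨g, hg'⟩ : ∃ g : (DRing.restrictD s.toRingHom).obj X ⟶ EK,
        (DRing.restrictD s.toRingHom).map (x - y) = g ≫ q := Triangle.coyoneda_exact₃ _ hT _ h1
    have h2 : qX ≫ g = 0 := hinj _ (by rw [← Linear.comp_smul, hkill g, comp_zero])
    rw [hg', ← Category.assoc, h2, zero_comp, Functor.map_zero, comp_zero]
  · have h1 : f ≫ (t • 𝟙 EK)⟦(1 : ℤ)⟧' = 0 := by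
      rw [Functor.map_smul, CategoryTheory.Functor.map_id, Linear.comp_smul, Category.comp_id, hkill]
    obtain ⟨y, hy'⟩ : ∃ y : (DRing.restrictD s.toRingHom).obj X ⟶ (DRing.restrictD s.toRingHom).obj K,
        f = y ≫ δ := Triangle.coyoneda_exact₁ _ hT f h1
    obtain ⟨x, hx⟩ := hbij.2 (qX ≫ y)
    have hx' : qX ≫ (DRing.restrictD s.toRingHom).map x = qX ≫ y := hx
    obtain ⟨z, hz'⟩ : ∃ z : ((locD (algebraMap S T)).obj X)⟦(1 : ℤ)⟧ ⟶ (DRing.restrictD s.toRingHom).obj K,
        y - (DRing.restrictD s.toRingHom).map x = δX ≫ z := Triangle.yoneda_exact₃ _ hTX (y - (DRing.restrictD s.toRingHom).map x) (by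
      show qX ≫ _ = 0
      rw [Preadditive.comp_sub, hx', sub_self])
    have h2 : z ≫ δ = 0 := by
      have h3 : (t • 𝟙 ((locD (algebraMap S T)).obj X))⟦(1 : ℤ)⟧' ≫ (z ≫ δ) = 0 → z ≫ δ = 0 := fun h => by
        obtain ⟨w, hw⟩ : ∃ w : ((locD (algebraMap S T)).obj X)⟦(1 : ℤ)⟧ ⟶ EK⟦(1 : ℤ)⟧, w = z ≫ δ := ⟨_, rfl⟩
        obtain ⟨w₀, rfl⟩ := (shiftFunctor (Dual.D T) (1 : ℤ)).map_surjective w
        rw [← hw] at h ⊢
        rw [← Functor.map_comp, Linear.smul_comp, Category.id_comp] at h
        rw [hinj w₀ ((shiftFunctor (Dual.D T) (1 : ℤ)).map_injective (h.trans (Functor.map_zero _ _ _).symm)),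
          Functor.map_zero]
      have h4 : δ ≫ (t • 𝟙 EK)⟦(1 : ℤ)⟧' = 0 := comp_distTriang_mor_zero₃₁ _ hT
      refine h3 ?_
      rw [Functor.map_smul, CategoryTheory.Functor.map_id, Linear.smul_comp, Category.id_comp]
      rw [Functor.map_smul, CategoryTheory.Functor.map_id, Linear.comp_smul, Category.comp_id] at h4
      rw [← Linear.comp_smul, h4, comp_zero]
    refine ⟨x, ?_⟩
    show (DRing.restrictD s.toRingHom).map x ≫ δ = f
    rw [hy', ← sub_add_cancel y ((DRing.restrictD s.toRingHom).map x), hz', Preadditive.add_comp, Category.assoc, h2,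
      comp_zero, zero_add]

end Main

end

end Groth.Agent.Shriek
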