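import Groth.Agent.Shriek.RA
import Groth.Agent.DRingKP.FlatBC
import Groth.Agent.DualCx.LocD

/-!
The basic exact sequence of a section cut out by a regular element, on modules.
-/

set_option autoImplicit false
set_option linter.style.haveILetI false
set_option maxHeartbeats 1000000
universe u

namespace Groth.Agent.Shriek

open CategoryTheory CategoryTheory.Limits TensorProduct

attribute [local instance] HasDerivedCategory.standard

noncomputable section

variable {S T : Type u} [CommRing S] [CommRing T] [Algebra S T]

/-- A section of `S → T` cut out by a regular element `t`. -/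
structure Sect (s : T →ₐ[S] S) (t : T) : Prop where
  ker_eq : RingHom.ker s.toRingHom = Ideal.span {t}
  regular : IsSMulRegular T t

variable (s : T →ₐ[S] S) (t : T)

/-- extension of scalars -/
abbrev eT : ModuleCat.{u} S ⥤ ModuleCat.{u} T := DualCx.ext (algebraMap S T)

/-- the adjunction -/
abbrev erAdj : eT (S := S) (T := T) ⊣ rs (algebraMap S T) := ModuleCat.extendRestrictScalarsAdj (algebraMap S T)

theorem comp_eq_id : s.toRingHom.comp (algebraMap S T) = RingHom.id S := RingHom.ext s.commutes

/-- the two restrictions of an `S`-module along `S → T → S` give it back -/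
def ιM : 𝟭 (ModuleCat.{u} S) ≅ rs s.toRingHom ⋙ rs (algebraMap S T) :=
  (ModuleCat.restrictScalarsId' (RingHom.id S) rfl).symm ≪≫
    ModuleCat.restrictScalarsComp' (algebraMap S T) s.toRingHom (RingHom.id S) (comp_eq_id s).symm

/-- `T ⊗ M → M` -/
def πM : eT (S := S) (T := T) ⟶ rs s.toRingHom where
  app M := (erAdj.homEquiv M _).symm ((ιM s).hom.app M)
  naturality M N f := by
    rw [← Adjunction.homEquiv_naturality_left_symm, ← Adjunction.homEquiv_naturality_right_symm]
    exact congrArg _ ((ιM s).hom.naturality f)

theorem homEquiv_πM (M : ModuleCat.{u} S) : erAdj.homEquiv M _ ((πM s).app M) = (ιM s).hom.app M :=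
  (erAdj.homEquiv M _).apply_symm_apply _

variable {s t}

theorem πM_tmul (M : ModuleCat.{u} S) (τ : T) (m : M) :
    ((πM s).app M).hom ((DRingKP.extendTensorIso (B := T) M).inv.hom (τ ⊗ₜ[S] m)) = (s τ • m : M) := by
  rfl

theorem mulLeft_retraction (hs : Sect s t) :
    ∃ q : T →ₗ[S] T, q ∘ₗ (LinearMap.mulLeft S t) = LinearMap.id := by
  have h1 : ∀ τ : T, ∃ x : T, t * x = τ - algebraMap S T (s τ) := fun τ => by
    have h : τ - algebraMap S T (s τ) ∈ RingHom.ker s.toRingHom := by
      show s (τ - algebraMap S T (s τ)) = 0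
      rw [map_sub, s.commutes]; exact sub_self _
    rw [hs.ker_eq, Ideal.mem_span_singleton'] at h
    obtain ⟨x, hx⟩ := h
    exact ⟨x, by rw [mul_comm, hx]⟩
  choose q hq using h1
  refine ⟨{ toFun := q, map_add' := fun a b => hs.regular ?_, map_smul' := fun c a => hs.regular ?_ },
    LinearMap.ext fun a => hs.regular ?_⟩
  · show t * q (a + b) = t * (q a + q b)
    rw [mul_add, hq, hq, hq, map_add, map_add]; ring
  · show t * q (c • a) = t * (c • q a)
    rw [Algebra.mul_smul_comm, hq, hq, map_smul, smul_sub]
    rw [Algebra.smul_def c (algebraMap S T (s a)), ← map_mul]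
    rfl
  · show t * q (t * a) = t * a
    have ht : s t = 0 := by
      have : t ∈ RingHom.ker s.toRingHom := hs.ker_eq ▸ Ideal.mem_span_singleton_self t
      exact this
    rw [hq, map_mul s t a, ht, zero_mul, map_zero, sub_zero]

/-- `0 → T ⊗ M → T ⊗ M → M → 0` -/
theorem shortExact_module (hs : Sect s t) (M : ModuleCat.{u} S) :
    (ShortComplex.mk (t • 𝟙 ((eT (T := T)).obj M)) ((πM s).app M) (by
      refine ModuleCat.hom_ext (LinearMap.ext fun x => ?_)
      refine (((πM s).app M).hom.map_smul t x).trans ?_
      have ht : s t = 0 := by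
        have : t ∈ RingHom.ker s.toRingHom := hs.ker_eq ▸ Ideal.mem_span_singleton_self t
        exact this
      show s t • (show (M : Type u) from ((πM s).app M).hom x) = 0
      rw [ht, zero_smul]) : ShortComplex (ModuleCat.{u} T)).ShortExact := by
  let e : ((eT (T := T)).obj M : Type u) ≃ₗ[T] T ⊗[S] M := (DRingKP.extendTensorIso (B := T) M).toLinearEquiv
  let μ := LinearMap.mulLeft S t
  have hμ : ∀ z : T ⊗[S] M, μ.rTensor M z = t • z := fun z => by
    induction z using TensorProduct.induction_on with
    | zero => simp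
    | tmul a b => simp [μ, TensorProduct.smul_tmul']
    | add a b ha hb => rw [map_add, ha, hb, smul_add]
  have hπ : ∀ z : T ⊗[S] M, (((πM s).app M).hom (e.symm z) : M) =
      (TensorProduct.lid S M) (s.toLinearMap.rTensor M z) := fun z => by
    induction z using TensorProduct.induction_on with
    | zero => rw [map_zero, map_zero, map_zero, map_zero]; rfl
    | tmul a b => exact (πM_tmul M a b).trans (by simp)
    | add a b ha hb => rw [map_add, map_add, map_add, map_add, ← ha, ← hb]; rfl
  have hex : Function.Exact μ s.toLinearMap := fun τ => by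
    constructor
    · intro h
      have : τ ∈ RingHom.ker s.toRingHom := h
      rw [hs.ker_eq, Ideal.mem_span_singleton'] at this
      obtain ⟨x, rfl⟩ := this
      exact ⟨x, mul_comm t x⟩
    · rintro ⟨x, rfl⟩
      have : t * x ∈ RingHom.ker s.toRingHom := hs.ker_eq ▸ Ideal.mul_mem_right _ _ (Ideal.mem_span_singleton_self t)
      exact this
  have hsurj : Function.Surjective s.toLinearMap := fun x => ⟨algebraMap S T x, s.commutes x⟩
  obtain ⟨q, hq⟩ := mulLeft_retraction hs
  refine ShortComplex.ShortExact.mk' ?_ ((ModuleCat.mono_iff_injective _).2 ?_) ((ModuleCat.epi_iff_surjective _).2 ?_)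
  · refine (ShortComplex.moduleCat_exact_iff _).2 fun x hx => ?_
    obtain ⟨z, hz⟩ : ∃ z, μ.rTensor M z = e x := by
      refine ((rTensor_exact M hex hsurj) (e x)).1 ((TensorProduct.lid S M).injective ?_)
      rw [map_zero, ← hπ, e.symm_apply_apply]
      exact hx
    refine ⟨e.symm z, e.injective ?_⟩
    show e (t • e.symm z) = e x
    rw [map_smul, e.apply_symm_apply, ← hμ, hz]
  · intro x y h
    apply e.injective
    have h' : μ.rTensor M (e x) = μ.rTensor M (e y) := by
      rw [hμ, hμ, ← map_smul, ← map_smul]
      exact congrArg e h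
    have h2 := congrArg (q.rTensor M) h'
    rwa [← LinearMap.comp_apply, ← LinearMap.comp_apply, ← LinearMap.rTensor_comp, hq, LinearMap.rTensor_id,
      LinearMap.id_apply, LinearMap.id_apply] at h2
  · intro m
    obtain ⟨z, hz⟩ := LinearMap.rTensor_surjective M hsurj ((TensorProduct.lid S M).symm m)
    exact ⟨e.symm z, (hπ z).trans (by rw [hz, LinearEquiv.apply_symm_apply])⟩

end

end Groth.Agent.Shriek
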