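import Groth.Agent.Shriek.ActCx
import Groth.Agent.RelPC.Away
import Groth.Agent.DTenLib.DualCx
import Groth.Agent.Shriek.Poly
import Mathlib.Algebra.Category.ModuleCat.Monoidal.Symmetric

/-!
The projection maps of a square of rings.
-/

set_option autoImplicit false
set_option linter.style.haveILetI false
set_option maxHeartbeats 1000000
set_option backward.isDefEq.respectTransparency false
universe u

namespace Groth.Agent.Shriek

open CategoryTheory CategoryTheory.Limits MonoidalCategory HomologicalComplex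

attribute [local instance] HasDerivedCategory.standard

noncomputable section

section One

variable {R A : Type u} [CommRing R] [CommRing A] (φ : R →+* A)

/-- `M ⊗ res N ≅ res (A ⊗ M ⊗ N)` -/
def projIso' (M : ModuleCat.{u} R) (N : ModuleCat.{u} A) :
    M ⊗ (DTen.resM φ).obj N ≅ (DTen.resM φ).obj ((ModuleCat.extendScalars.{u, u, u} φ).obj M ⊗ N) :=
  β_ M ((DTen.resM φ).obj N) ≪≫ KFlat.projIso φ N M ≪≫ (DTen.resM φ).mapIso (β_ N ((ModuleCat.extendScalars.{u, u, u} φ).obj M))

/-- the projection map from the other side -/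
def pfrCx (X : DRing.Cx R) (Y : DRing.Cx A) :
    X ⊗ (DTen.resCx φ).obj Y ⟶ (DTen.resCx φ).obj ((DTen.extCx φ).obj X ⊗ Y) :=
  ((DTen.unitCx φ).app X ▷ (DTen.resCx φ).obj Y) ≫ DTen.resTenCx φ ((DTen.extCx φ).obj X) Y

theorem projIso'_natural_left {M M' : ModuleCat.{u} R} (f : M ⟶ M') (N : ModuleCat.{u} A) :
    (f ▷ (DTen.resM φ).obj N) ≫ (projIso' φ M' N).hom =
      (projIso' φ M N).hom ≫ (DTen.resM φ).map ((ModuleCat.extendScalars.{u, u, u} φ).map f ▷ N) :=
  ModuleCat.MonoidalCategory.tensor_ext fun _ _ => rfl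

theorem projIso'_natural_right (M : ModuleCat.{u} R) {N N' : ModuleCat.{u} A} (g : N ⟶ N') :
    (M ◁ (DTen.resM φ).map g) ≫ (projIso' φ M N').hom =
      (projIso' φ M N).hom ≫ (DTen.resM φ).map ((ModuleCat.extendScalars.{u, u, u} φ).obj M ◁ g) :=
  ModuleCat.MonoidalCategory.tensor_ext fun _ _ => rfl

/-- the iso underlying `pfrCx` -/
def projTotIso' (X : DRing.Cx R) (Y : DRing.Cx A) :
    X ⊗ (DTen.resCx φ).obj Y ≅ (DTen.resCx φ).obj ((DTen.extCx φ).obj X ⊗ Y) :=
  KFlat.mapTensIso (𝟭 _) (ModuleCat.restrictScalars.{u} φ) (ModuleCat.extendScalars.{u, u, u} φ) (𝟭 _)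
    (ModuleCat.restrictScalars φ) (curriedTensor (ModuleCat.{u} A)) (curriedTensor (ModuleCat.{u} R))
    (projIso' φ) (fun f N => projIso'_natural_left φ f N) (fun M _ _ g => projIso'_natural_right φ M g) X Y

theorem pfrCx_eq (X : DRing.Cx R) (Y : DRing.Cx A) : pfrCx φ X Y = (projTotIso' φ X Y).hom := by
  refine HomologicalComplex.hom_ext _ _ fun n => mapBifunctor.hom_ext fun p q h => ?_
  refine Eq.trans ?_ (KFlat.ι_mapTensX (𝟭 _) (ModuleCat.restrictScalars.{u} φ)
    (ModuleCat.extendScalars.{u, u, u} φ) (𝟭 _) (ModuleCat.restrictScalars φ) (curriedTensor (ModuleCat.{u} A))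
    (curriedTensor (ModuleCat.{u} R)) (projIso' φ) X Y n p q h).symm
  simp only [pfrCx, HomologicalComplex.comp_f]
  erw [ι_mapBifunctorMap_assoc, DTen.ι_resTenCx φ ((DTen.extCx φ).obj X) Y p q n h]
  refine ModuleCat.MonoidalCategory.tensor_ext fun a b => ?_
  rfl

instance isIso_pfrCx (X : DRing.Cx R) (Y : DRing.Cx A) : IsIso (pfrCx φ X Y) := by
  rw [pfrCx_eq]; infer_instance

theorem pfrCx_natural {X X' : DRing.Cx R} {Y Y' : DRing.Cx A} (f : X ⟶ X') (g : Y ⟶ Y') :
    (f ⊗ₘ (DTen.resCx φ).map g) ≫ pfrCx φ X' Y' =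
      pfrCx φ X Y ≫ (DTen.resCx φ).map ((DTen.extCx φ).map f ⊗ₘ g) := by
  have h := DTen.resTenCx_naturality φ ((DTen.extCx φ).map f) g
  have hu : f ≫ (DTen.unitCx φ).app X' = (DTen.unitCx φ).app X ≫ (DTen.resCx φ).map ((DTen.extCx φ).map f) :=
    (DTen.unitCx φ).naturality f
  let r := DTen.resCx φ
  have l : (f ⊗ₘ r.map g) ≫ ((DTen.unitCx φ).app X' ▷ r.obj Y') =
      ((DTen.unitCx φ).app X ▷ r.obj Y) ≫ (r.map ((DTen.extCx φ).map f) ⊗ₘ r.map g) := by
    rw [← MonoidalCategory.tensorHom_id, ← MonoidalCategory.tensorHom_id, MonoidalCategory.tensorHom_comp_tensorHom,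
      MonoidalCategory.tensorHom_comp_tensorHom, Category.comp_id, Category.id_comp, hu]
  exact (Category.assoc _ _ _).symm.trans ((congrArg (· ≫ _) l).trans ((Category.assoc _ _ _).trans
    ((congrArg (_ ≫ ·) h).trans (Category.assoc _ _ _).symm)))

/-- restriction keeps K-flatness along flat maps -/
theorem isKFlat_resCx (hφ : φ.Flat) {Z : DRing.Cx A} (hZ : DRing.IsKFlat A Z) :
    DRing.IsKFlat R ((DTen.resCx φ).obj Z) := by
  letI := φ.toAlgebra
  haveI : Module.Flat R A := hφ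
  haveI : PreservesFiniteLimits (ModuleCat.extendScalars.{u, u, u} φ) := preservesFiniteLimits_of_flat φ hφ
  intro M hM
  have hM' : ((DTen.extCx φ).obj M).Acyclic := fun i => by
    rw [exactAt_iff]
    exact ((exactAt_iff_isZero_homology _ _).2 (hM i)).map (ModuleCat.extendScalars.{u, u, u} φ)
  have h := hZ _ (KFlat.acyclic_iff_isZero.1 hM')
  refine KFlat.acyclic_iff_isZero.1 (KFlat.acyclic_of_iso (asIso (pfrCx φ M Z)).symm fun i => ?_)
  rw [exactAt_iff]
  exact ((exactAt_iff_isZero_homology _ _).2 (h i)).map (ModuleCat.restrictScalars.{u} φ)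

/-- the unit of restriction -/
def eta : 𝟙_ (DRing.Cx R) ⟶ (DTen.resCx φ).obj (𝟙_ (DRing.Cx A)) :=
  mkHomFromSingle (ModuleCat.ofHom (X := R) (Y := (DTen.resM φ).obj (𝟙_ (ModuleCat.{u} A)))
      { toFun := fun r => (φ r : A)
        map_add' := fun a b => map_add φ a b
        map_smul' := fun a b => (map_mul φ a b).trans rfl } ≫
      (DTen.resM φ).map (singleObjXSelf (ComplexShape.up ℤ) 0 (𝟙_ (ModuleCat.{u} A))).inv)
    fun j hj => by
      simp only [Category.assoc]
      have : ((DTen.resCx φ).obj (𝟙_ (DRing.Cx A))).d 0 j = 0 :=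
        ((DTen.resM φ).congr_map (HomologicalComplex.single_obj_d _ _ _ _ _)).trans (by simp)
      erw [this]
      simp

/-- restriction is right unital -/
theorem resTenCx_rightUnit (Y : DRing.Cx A) :
    ((DTen.resCx φ).obj Y ◁ eta φ) ≫ DTen.resTenCx φ Y (𝟙_ (DRing.Cx A)) ≫ (DTen.resCx φ).map (ρ_ Y).hom =
      (ρ_ ((DTen.resCx φ).obj Y)).hom := by
  rw [← cancel_epi (ρ_ ((DTen.resCx φ).obj Y)).inv, Iso.inv_hom_id]
  refine HomologicalComplex.hom_ext _ _ fun n => ?_
  let r := DTen.resCx φ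
  let rM := DTen.resM φ
  let I : DRing.Cx A := 𝟙_ (DRing.Cx A)
  let s : 𝟙_ (ModuleCat.{u} R) ⟶ (𝟙_ (DRing.Cx R)).X 0 :=
    (singleObjXSelf (ComplexShape.up ℤ) 0 (𝟙_ (ModuleCat.{u} R))).inv
  let sA : 𝟙_ (ModuleCat.{u} A) ⟶ I.X 0 := (singleObjXSelf (ComplexShape.up ℤ) 0 (𝟙_ (ModuleCat.{u} A))).inv
  have e1 : ιTensorObj (r.obj Y) (𝟙_ (DRing.Cx R)) n 0 n (add_zero n) ≫ (r.obj Y ◁ eta φ).f n =
      (rM.obj (Y.X n) ◁ (eta φ).f 0) ≫ ιTensorObj (r.obj Y) (r.obj I) n 0 n (add_zero n) := by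
    refine (ι_mapBifunctorMap (𝟙 (r.obj Y)) (eta φ) (curriedTensor (ModuleCat.{u} R))
      (ComplexShape.up ℤ) n 0 n (add_zero n)).trans ?_
    rw [HomologicalComplex.id_f, CategoryTheory.Functor.map_id]
    exact (Category.assoc _ _ _).symm.trans (congrArg (fun w => w ≫ _) (Category.id_comp _))
  have e2 : ιTensorObj (r.obj Y) (r.obj I) n 0 n (add_zero n) ≫ (DTen.resTenCx φ Y I).f n =
      DTen.resTen₀app φ (Y.X n) (I.X 0) ≫ rM.map (ιTensorObj Y I n 0 n (add_zero n)) :=
    DTen.ι_resTenCx φ Y I n 0 n (add_zero n)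
  have hρ : (Y.X n ◁ sA) ≫ ιTensorObj Y I n 0 n (add_zero n) ≫ (ρ_ Y).hom.f n = (ρ_ (Y.X n)).hom := by
    have h : (ρ_ Y).inv.f n = (ρ_ (Y.X n)).inv ≫ (Y.X n ◁ sA) ≫ ιTensorObj Y I n 0 n (add_zero n) :=
      DTenLib.PreDual.rightUnitor_inv_f Y n
    rw [← cancel_epi (ρ_ (Y.X n)).inv, Iso.inv_hom_id, ← reassoc_of% h, ← HomologicalComplex.comp_f, Iso.inv_hom_id,
      HomologicalComplex.id_f]
  let m : R →ₗ[R] rM.obj (𝟙_ (ModuleCat.{u} A)) :=
    { toFun := fun r => (φ r : A)
      map_add' := fun a b => map_add φ a b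
      map_smul' := fun a b => (map_mul φ a b).trans rfl }
  have e3 : s ≫ (eta φ).f 0 = ModuleCat.ofHom m ≫ rM.map sA := by
    rw [eta, mkHomFromSingle_f]
    exact Iso.inv_hom_id_assoc _ _
  show (ρ_ (r.obj Y)).inv.f n ≫ (r.obj Y ◁ eta φ).f n ≫ (DTen.resTenCx φ Y I).f n ≫ rM.map ((ρ_ Y).hom.f n) =
    𝟙 (rM.obj (Y.X n))
  have h0 : (ρ_ (r.obj Y)).inv.f n =
      (ρ_ (rM.obj (Y.X n))).inv ≫ (rM.obj (Y.X n) ◁ s) ≫ ιTensorObj (r.obj Y) (𝟙_ (DRing.Cx R)) n 0 n (add_zero n) :=
    DTenLib.PreDual.rightUnitor_inv_f (r.obj Y) n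
  rw [h0]
  simp only [Category.assoc]
  rw [reassoc_of% e1]
  erw [reassoc_of% e2]
  rw [← MonoidalCategory.whiskerLeft_comp_assoc]
  erw [e3]
  have hfin : (ρ_ (rM.obj (Y.X n))).inv ≫ (rM.obj (Y.X n) ◁ (ModuleCat.ofHom m ≫ rM.map sA)) ≫
      DTen.resTen₀app φ (Y.X n) (I.X 0) ≫
        rM.map (ιTensorObj Y I n 0 n (add_zero n) ≫ (ρ_ Y).hom.f n) = 𝟙 (rM.obj (Y.X n)) := by
    have : (rM.obj (Y.X n) ◁ rM.map sA) ≫ DTen.resTen₀app φ (Y.X n) (I.X 0) =
        DTen.resTen₀app φ (Y.X n) (𝟙_ (ModuleCat.{u} A)) ≫ rM.map (Y.X n ◁ sA) :=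
      ModuleCat.MonoidalCategory.tensor_ext fun _ _ => rfl
    rw [MonoidalCategory.whiskerLeft_comp, Category.assoc, reassoc_of% this, ← Functor.map_comp, hρ]
    refine ModuleCat.hom_ext (LinearMap.ext fun y => ?_)
    show (φ 1 : A) • (y : Y.X n) = y
    rw [map_one, one_smul]
  rw [Functor.map_comp] at hfin
  exact hfin

end One

section Square

variable {P P' A A' : Type u} [CommRing P] [CommRing P'] [CommRing A] [CommRing A'] [Algebra P P'] [Algebra P A]
  [Algebra P' A'] [Algebra A A'] [Algebra P A'] [IsScalarTower P P' A'] [IsScalarTower P A A']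
  [Algebra.IsPushout P P' A A']

/-- the two restrictions of the square -/
def rrM : DTen.resM (algebraMap P' A') ⋙ DTen.resM (algebraMap P P') ≅
    DTen.resM (algebraMap A A') ⋙ DTen.resM (algebraMap P A) :=
  (ModuleCat.restrictScalarsComp'.{u} (algebraMap P P') (algebraMap P' A') (algebraMap P A')
      (IsScalarTower.algebraMap_eq P P' A')).symm ≪≫
    ModuleCat.restrictScalarsComp'.{u} (algebraMap P A) (algebraMap A A') (algebraMap P A')
      (IsScalarTower.algebraMap_eq P A A')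

/-- the two restrictions of the square, on complexes -/
def rrCx (Y : DRing.Cx A') :
    (DTen.resCx (algebraMap P P')).obj ((DTen.resCx (algebraMap P' A')).obj Y) ≅
      (DTen.resCx (algebraMap P A)).obj ((DTen.resCx (algebraMap A A')).obj Y) :=
  HomologicalComplex.Hom.isoOfComponents (fun n => (rrM (P := P) (P' := P') (A := A) (A' := A')).app (Y.X n))
    fun i j _ => ((rrM (P := P) (P' := P') (A := A) (A' := A')).hom.naturality (Y.d i j)).symm

omit [Algebra.IsPushout P P' A A'] in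
theorem rrCx_natural {Y Y' : DRing.Cx A'} (f : Y ⟶ Y') :
    (DTen.resCx (algebraMap P P')).map ((DTen.resCx (algebraMap P' A')).map f) ≫
        (rrCx (P := P) (P' := P') (A := A) Y').hom =
      (rrCx (P := P) (P' := P') (A := A) Y).hom ≫
        (DTen.resCx (algebraMap P A)).map ((DTen.resCx (algebraMap A A')).map f) :=
  HomologicalComplex.hom_ext _ _ fun _ => rfl

/-- `P' ⊗ res = res (A' ⊗ -)` -/
def kapCx (X : DRing.Cx A) :
    (DTen.extCx (algebraMap P P')).obj ((DTen.resCx (algebraMap P A)).obj X) ≅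
      (DTen.resCx (algebraMap P' A')).obj ((DTen.extCx (algebraMap A A')).obj X) :=
  RelPC.bcSquareCxIso (P := P) (Q := P') (A := A) (B := A') X

theorem kapCx_natural {X X' : DRing.Cx A} (f : X ⟶ X') :
    (DTen.extCx (algebraMap P P')).map ((DTen.resCx (algebraMap P A)).map f) ≫
        (kapCx (P' := P') (A' := A') X').hom =
      (kapCx (P' := P') (A' := A') X).hom ≫
        (DTen.resCx (algebraMap P' A')).map ((DTen.extCx (algebraMap A A')).map f) :=
  HomologicalComplex.hom_ext _ _ fun n =>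
    (RelPC.bcSquareIso (P := P) (Q := P') (A := A) (B := A')).hom.naturality (f.f n)

/-- the unit of base change restricted -/
theorem unit_kapCx (X : DRing.Cx A) :
    (DTen.unitCx (algebraMap P P')).app ((DTen.resCx (algebraMap P A)).obj X) ≫
        (DTen.resCx (algebraMap P P')).map (kapCx (P' := P') (A' := A') X).hom ≫
          (rrCx (P := P) (P' := P') (A := A) ((DTen.extCx (algebraMap A A')).obj X)).hom =
      (DTen.resCx (algebraMap P A)).map ((DTen.unitCx (algebraMap A A')).app X) := by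
  refine HomologicalComplex.hom_ext _ _ fun n => ModuleCat.hom_ext (LinearMap.ext fun x => ?_)
  refine (RelPC.bcSquareHom_tmul (P := P) (Q := P') (A := A) (B := A') (X.X n) (1 : P') x).trans ?_
  exact congrArg (fun a => TensorProduct.tmul A (M := (ModuleCat.restrictScalars (algebraMap A A')).obj (ModuleCat.of A' A'))
    (N := X.X n) a x) (map_one (algebraMap P' A'))

/-- the two projection maps of the square agree -/
theorem pfr_square (W : DRing.Cx A) (Y : DRing.Cx A') :
    ((DTen.resCx (algebraMap P A)).obj W ◁ (rrCx (P := P) (P' := P') (A := A) Y).hom) ≫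
        DTen.resTenCx (algebraMap P A) W ((DTen.resCx (algebraMap A A')).obj Y) ≫
          (DTen.resCx (algebraMap P A)).map (pfrCx (algebraMap A A') W Y) =
      pfrCx (algebraMap P P') ((DTen.resCx (algebraMap P A)).obj W) ((DTen.resCx (algebraMap P' A')).obj Y) ≫
        (DTen.resCx (algebraMap P P')).map
          (((kapCx (P := P) (P' := P') (A := A) (A' := A') W).hom ▷ (DTen.resCx (algebraMap P' A')).obj Y) ≫
            DTen.resTenCx (algebraMap P' A') ((DTen.extCx (algebraMap A A')).obj W) Y) ≫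
          (rrCx (P := P) (P' := P') (A := A) ((DTen.extCx (algebraMap A A')).obj W ⊗ Y)).hom := by
  let φ := algebraMap P A
  let θ := algebraMap P P'
  let φ' := algebraMap P' A'
  let χ := algebraMap A A'
  let EW := (DTen.extCx χ).obj W
  have nat := DTen.resTenCx_naturality θ (kapCx (P := P) (P' := P') (A := A) (A' := A') W).hom (𝟙 ((DTen.resCx φ').obj Y))
  rw [CategoryTheory.Functor.map_id, MonoidalCategory.tensorHom_id, MonoidalCategory.tensorHom_id] at nat
  have nat2 := DTen.resTenCx_naturality φ ((DTen.unitCx χ).app W) (𝟙 ((DTen.resCx χ).obj Y))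
  rw [CategoryTheory.Functor.map_id, MonoidalCategory.tensorHom_id, MonoidalCategory.tensorHom_id] at nat2
  have comp : DTen.resTenCx θ ((DTen.resCx φ').obj EW) ((DTen.resCx φ').obj Y) ≫
        (DTen.resCx θ).map (DTen.resTenCx φ' EW Y) ≫ (rrCx (P := P) (P' := P') (A := A) (EW ⊗ Y)).hom =
      ((rrCx (P := P) (P' := P') (A := A) EW).hom ⊗ₘ (rrCx (P := P) (P' := P') (A := A) Y).hom) ≫
        DTen.resTenCx φ ((DTen.resCx χ).obj EW) ((DTen.resCx χ).obj Y) ≫
          (DTen.resCx φ).map (DTen.resTenCx χ EW Y) := by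
    refine HomologicalComplex.hom_ext _ _ fun n => mapBifunctor.hom_ext fun p q h => ?_
    simp only [HomologicalComplex.comp_f]
    erw [DTen.ι_resTenCx_assoc θ ((DTen.resCx φ').obj EW) ((DTen.resCx φ').obj Y) p q n h]
    erw [ι_mapBifunctorMap_assoc, DTen.ι_resTenCx_assoc φ ((DTen.resCx χ).obj EW) ((DTen.resCx χ).obj Y) p q n h]
    have a : ιTensorObj ((DTen.resCx φ').obj EW) ((DTen.resCx φ').obj Y) p q n h ≫ (DTen.resTenCx φ' EW Y).f n =
        DTen.resTen₀app φ' (EW.X p) (Y.X q) ≫ (DTen.resM φ').map (ιTensorObj EW Y p q n h) :=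
      DTen.ι_resTenCx φ' EW Y p q n h
    have b : ιTensorObj ((DTen.resCx χ).obj EW) ((DTen.resCx χ).obj Y) p q n h ≫ (DTen.resTenCx χ EW Y).f n =
        DTen.resTen₀app χ (EW.X p) (Y.X q) ≫ (DTen.resM χ).map (ιTensorObj EW Y p q n h) :=
      DTen.ι_resTenCx χ EW Y p q n h
    erw [← Functor.map_comp_assoc, a, ← Functor.map_comp, b]
    exact ModuleCat.MonoidalCategory.tensor_ext fun _ _ => rfl
  show ((DTen.resCx φ).obj W ◁ (rrCx (P := P) (P' := P') (A := A) Y).hom) ≫
      DTen.resTenCx φ W ((DTen.resCx χ).obj Y) ≫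
        (DTen.resCx φ).map (((DTen.unitCx χ).app W ▷ (DTen.resCx χ).obj Y) ≫ DTen.resTenCx χ EW Y) =
    (((DTen.unitCx θ).app ((DTen.resCx φ).obj W) ▷ (DTen.resCx θ).obj ((DTen.resCx φ').obj Y)) ≫
      DTen.resTenCx θ ((DTen.extCx θ).obj ((DTen.resCx φ).obj W)) ((DTen.resCx φ').obj Y)) ≫
        (DTen.resCx θ).map (((kapCx (P := P) (P' := P') (A := A) (A' := A') W).hom ▷ (DTen.resCx φ').obj Y) ≫
          DTen.resTenCx φ' EW Y) ≫ (rrCx (P := P) (P' := P') (A := A) (EW ⊗ Y)).hom
  rw [Functor.map_comp, Functor.map_comp]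
  simp only [Category.assoc]
  erw [← reassoc_of% nat2, ← reassoc_of% nat, comp]
  rw [← MonoidalCategory.tensorHom_id, ← MonoidalCategory.tensorHom_id, ← MonoidalCategory.tensorHom_id,
    MonoidalCategory.tensorHom_comp_tensorHom_assoc, MonoidalCategory.tensorHom_comp_tensorHom_assoc,
    ← MonoidalCategory.id_tensorHom, MonoidalCategory.tensorHom_comp_tensorHom_assoc]
  simp only [Category.id_comp, Category.comp_id]
  rw [← unit_kapCx (P := P) (P' := P') (A := A) (A' := A') W]
  erw [Category.comp_id]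
  rfl

end Square

section Flat

/-- base change keeps quasi-isomorphisms of complexes that are K-flat over the base -/
theorem quasiIso_ext_of_base (R R' : Type u) {P P' : Type u} [CommRing R] [CommRing R'] [CommRing P] [CommRing P']
    [Algebra R R'] [Algebra R P] [Algebra R' P'] [Algebra P P'] [Algebra R P'] [IsScalarTower R R' P']
    [IsScalarTower R P P'] [Algebra.IsPushout R R' P P'] {X Y : DRing.Cx P} (f : X ⟶ Y) [QuasiIso f]
    (hX : DRing.IsKFlat R ((DTen.resCx (algebraMap R P)).obj X))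
    (hY : DRing.IsKFlat R ((DTen.resCx (algebraMap R P)).obj Y)) :
    QuasiIso ((DTen.extCx (algebraMap P P')).map f) := by
  haveI : QuasiIso ((DTen.resCx (algebraMap R P)).map f) :=
    (quasiIso_map_iff_of_preservesHomology f (ModuleCat.restrictScalars.{u} (algebraMap R P))).2 inferInstance
  haveI := DTenLib.quasiIso_ext (algebraMap R R') ((DTen.resCx (algebraMap R P)).map f) hX hY
  haveI : QuasiIso ((DTen.resCx (algebraMap R' P')).map ((DTen.extCx (algebraMap P P')).map f)) := by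
    have h : (DTen.resCx (algebraMap R' P')).map ((DTen.extCx (algebraMap P P')).map f) =
        (kapCx (P := R) (P' := R') (A := P) (A' := P') X).inv ≫
          (DTen.extCx (algebraMap R R')).map ((DTen.resCx (algebraMap R P)).map f) ≫
            (kapCx (P := R) (P' := R') (A := P) (A' := P') Y).hom := by
      rw [Iso.eq_inv_comp]
      exact (kapCx_natural (P := R) (P' := R') (A := P) (A' := P') f).symm
    rw [h]; infer_instance
  exact (quasiIso_map_iff_of_preservesHomology _ (ModuleCat.restrictScalars.{u} (algebraMap R' P'))).1 inferInstance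

end Flat

end

end Groth.Agent.Shriek
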