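import Groth.Agent.Shriek.UniqUnit
import Groth.Agent.Shriek.NatCounit

/-!
Uniqueness of relative dualizing complexes of flat algebras of finite presentation.
-/

set_option autoImplicit false
set_option linter.style.haveILetI false
set_option maxHeartbeats 1000000
set_option backward.isDefEq.respectTransparency false
universe u

namespace Groth.Agent.Shriek

open CategoryTheory CategoryTheory.Limits MonoidalCategory TensorProduct Pretriangulated

attribute [local instance] HasDerivedCategory.standard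

noncomputable section

variable {R A : Type u} [CommRing R] [CommRing A] [Algebra R A] [Module.Flat R A] [Algebra.FinitePresentation R A]
  {n : ℕ} {ψ : MvPolynomial (Fin n) R →ₐ[R] A} {W₀ : DRing.Cx A} {b₀ : ℤ}

/-- `μ_* A` has a resolution by finite free modules -/
theorem exists_diag_resolution (hψ : Function.Surjective ψ) :
    ∃ (Z : DRing.Cx (A ⊗[R] A)) (bZ : ℤ), DRing.VanishesAbove Z bZ ∧ DRing.TermwiseFiniteFree Z ∧
      Nonempty (DerivedCategory.Q.obj Z ≅
        (DRing.restrictD (Algebra.TensorProduct.lmul' R (S := A)).toRingHom).obj (Dual.inD A A)) := by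
  let P' := MvPolynomial (Fin n) A
  let φ := (bcPres (R' := A) ψ).toRingHom
  let μ := (Algebra.TensorProduct.lmul' R (S := A)).toRingHom
  let ev : P' →+* A := MvPolynomial.eval fun i => ψ (MvPolynomial.X i)
  letI : Algebra P' (A ⊗[R] A) := φ.toAlgebra
  have hS : DRing.IsPseudoCoherentModule' P' (A ⊗[R] A) := DRingKP.pc'_of_isPerfect (perfectModule_bcPres hψ)
  have hev : DRing.IsPseudoCoherent' P' ((DRing.restrictD ev).obj (Dual.inD A A)) := by
    letI : Algebra P' A := ev.toAlgebra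
    exact (DRingKP.pc'_res_iff (A := P') (B := A) (DRingKP.pc'_of_isPerfect (perfectModule_eval _)) _).1
      (DRingKP.pc'_of_isPerfect ⟨freeAt A 0, 0, 0, fun i hi => HomologicalComplex.isZero_single_obj_X _ _ _ _ (by lia),
        termwiseFiniteProjective_freeAt 0,
        ⟨((DerivedCategory.singleFunctorIsoCompQ (ModuleCat.{u} A) 0).app (ModuleCat.of A A)).symm⟩⟩)
  have hpc : DRing.IsPseudoCoherent' (A ⊗[R] A) ((DRing.restrictD μ).obj (Dual.inD A A)) :=
    (DRingKP.pc'_res_iff (A := P') (B := A ⊗[R] A) hS _).2 (DRingKP.pc'_iff.2 fun m =>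
      DRingKP.pc_of_iso ((restrictDComp φ μ ev (lmul'_comp_bcPres ψ)).app _).symm (DRingKP.pc'_iff.1 hev m))
  obtain ⟨Z, bZ, hbZ, hfZ, ⟨e⟩⟩ := hpc
  exact ⟨Z, bZ, hbZ, hfZ, ⟨e⟩⟩

/-- Every map `μ_* A → L K` factors through the pullback of a map `W → K`. -/
theorem exists_factor (hψ : Function.Surjective ψ) (hb : DRing.VanishesAbove W₀ b₀)
    (hf : DRing.TermwiseFiniteFree W₀) (h : Shr ψ (DerivedCategory.Q.obj W₀) (Dual.inD R R)) {C : DRing.Cx A} {b : ℤ}
    (hC : DRing.VanishesAbove C b) (hCf : DRing.TermwiseFiniteFree C)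
    (y : (DRing.restrictD (Algebra.TensorProduct.lmul' R (S := A)).toRingHom).obj (Dual.inD A A) ⟶
      DerivedCategory.Q.obj ((extL R A).obj C)) :
    ∃ (g : W₀ ⟶ C) (y₀ : (DRing.restrictD (Algebra.TensorProduct.lmul' R (S := A)).toRingHom).obj (Dual.inD A A) ⟶
      DerivedCategory.Q.obj ((extL R A).obj W₀)), y₀ ≫ DerivedCategory.Q.map ((extL R A).map g) = y := by
  let P' := MvPolynomial (Fin n) A
  let φ := (bcPres (R' := A) ψ).toRingHom
  let μ := (Algebra.TensorProduct.lmul' R (S := A)).toRingHom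
  let ir := (Algebra.TensorProduct.includeRight : A →ₐ[R] A ⊗[R] A).toRingHom
  let il : A →+* A ⊗[R] A := Algebra.TensorProduct.includeLeftRingHom
  let ev : P' →+* A := MvPolynomial.eval fun i => ψ (MvPolynomial.X i)
  let W' := pullW R W₀
  obtain ⟨Z, bZ, hbZ, hfZ, ⟨eZ⟩⟩ := exists_diag_resolution hψ
  have hW'f : DRing.TermwiseFiniteProjective W' := fun i => finiteFree_ext _ (hf i)
  have hW'b : DRing.VanishesAbove W' b₀ := fun i hi => (ModuleCat.extendScalars.{u, u, u} _).map_isZero (hb i hi)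
  have hW'flat : DRing.IsKFlat _ W' := isKFlat_pullW hb hf
  have hZp := DRingKP.termwiseFiniteProjective_of_free hfZ
  haveI := DRingKP.isKProjective_of_finiteProjective bZ hbZ hZp
  haveI : (Z ⊗ W').IsKProjective := DRingKP.isKProjective_of_finiteProjective (bZ + b₀)
    (fun i hi => DRingKP.tensor_vanishes i fun p q hpq => by
      by_cases hp : bZ < p
      · exact Or.inl (hbZ p hp)
      · exact Or.inr (hW'b q (by lia)))
    (DRingKP.tensor_finiteProjective hbZ hW'b hZp hW'f)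
  haveI := DRingKP.isKProjective_of_finiteProjective b₀ hb (DRingKP.termwiseFiniteProjective_of_free hf)
  haveI := quasiIso_unit_extL hψ hb hf h hb hf
  haveI := quasiIso_unit_extL hψ hb hf h hC hCf
  -- the two universal counits
  obtain ⟨J, fJ, hJ, hfJ, -, -⟩ := KInj.exists_kInjective (freeAt P' (-(n : ℤ)))
  haveI := hJ
  haveI := hfJ
  let eJ := asIso (DerivedCategory.Q.map fJ)
  obtain ⟨c, hc⟩ := exists_natural_counit φ (perfectModule_bcPres hψ)
    (RA.of_iso (ra_pullW hψ hb hf h) (Iso.refl _) eJ)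
  obtain ⟨c'', hc''⟩ := exists_natural_counit ev (perfectModule_eval _) (W := 𝟙_ (DRing.Cx A)) (J := J)
    (RA.of_iso (RA.eval A n (fun i => ψ (MvPolynomial.X i)) (Dual.inD A A))
      ((DerivedCategory.singleFunctorIsoCompQ (ModuleCat.{u} A) 0).app (ModuleCat.of A A))
      ((shiftFunctor _ (n : ℤ)).mapIso (polyD_self A n).some ≪≫ (freeShiftIso P' (n : ℤ)).symm ≪≫ eJ))
  -- natural identifications
  letI := DTenLib.braidedCx (A := A ⊗[R] A)
  let N := extCompNat (algebraMap A P') φ il (RingHom.ext fun a => (bcPres (R' := A) ψ).commutes a)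
  let eX : ∀ C : DRing.Cx A, (extL R A).obj C ⊗ W' ≅ W' ⊗ (DTen.extCx φ).obj ((DTen.extCx (algebraMap A P')).obj C) :=
    fun C => β_ _ _ ≪≫ whiskerLeftIso W' (N.app C).symm
  have eX_nat : ∀ {C C' : DRing.Cx A} (g : C ⟶ C'), ((extL R A).map g ▷ W') ≫ (eX C').hom =
      (eX C).hom ≫ (W' ◁ (DTen.extCx φ).map ((DTen.extCx (algebraMap A P')).map g)) := fun {C C'} g => by
    simp only [eX, Iso.trans_hom, whiskerLeftIso_hom, Iso.symm_hom, Iso.app_inv, Category.assoc]
    rw [BraidedCategory.braiding_naturality_left_assoc, ← MonoidalCategory.whiskerLeft_comp,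
      ← MonoidalCategory.whiskerLeft_comp]
    exact congrArg (_ ≫ ·) (congrArg (W' ◁ ·) (N.inv.naturality g))
  let NV := extCompNat (algebraMap A P') ev (RingHom.id A) (RingHom.ext fun a => MvPolynomial.eval_C (f := fun i => ψ (MvPolynomial.X i)) a) ≪≫ extIdNat A
  let eV : ∀ C : DRing.Cx A, 𝟙_ (DRing.Cx A) ⊗ (DTen.extCx ev).obj ((DTen.extCx (algebraMap A P')).obj C) ≅ C :=
    fun C => λ_ _ ≪≫ NV.app C
  have eV_nat : ∀ {C C' : DRing.Cx A} (g : C ⟶ C'),
      (eV C).inv ≫ (𝟙_ (DRing.Cx A) ◁ (DTen.extCx ev).map ((DTen.extCx (algebraMap A P')).map g)) =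
        g ≫ (eV C').inv := fun {C C'} g => by
    simp only [eV, Iso.trans_inv, Category.assoc]
    rw [← MonoidalCategory.leftUnitor_inv_naturality]
    exact (Category.assoc _ _ _).symm.trans ((congrArg (· ≫ _) (NV.inv.naturality g).symm).trans (Category.assoc _ _ _))
  -- the source
  obtain ⟨i0⟩ : Nonempty ((DRing.restrictD φ).obj (DerivedCategory.Q.obj (Z ⊗ W')) ≅
      (DRing.restrictD ev).obj (DerivedCategory.Q.obj W₀)) := by
    let u1 := (DTen.resCx μ).obj (𝟙_ (DRing.Cx A))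
    let eu : DerivedCategory.Q.obj Z ≅ DerivedCategory.Q.obj u1 :=
      eZ ≪≫ (DRing.restrictD μ).mapIso ((DerivedCategory.singleFunctorIsoCompQ (ModuleCat.{u} A) 0).app _) ≪≫
        (DTen.resFactors μ).app (𝟙_ (DRing.Cx A))
    obtain ⟨e1⟩ := nonempty_tensIso hW'flat eu
    let eμ : (DTen.extCx μ).obj W' ≅ W₀ :=
      (extCompNat ir μ (RingHom.id A) (RingHom.ext fun a => by simp [ir, μ]) ≪≫ extIdNat A).app W₀
    let e2 : DerivedCategory.Q.obj (u1 ⊗ W') ≅ (DRing.restrictD μ).obj (DerivedCategory.Q.obj W₀) :=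
      DerivedCategory.Q.mapIso (asIso (pfCx μ (𝟙_ (DRing.Cx A)) W') ≪≫
        (DTen.resCx μ).mapIso (λ_ _ ≪≫ eμ)) ≪≫ ((DTen.resFactors μ).app W₀).symm
    exact ⟨(DRing.restrictD φ).mapIso (e1 ≪≫ e2) ≪≫ (restrictDComp φ μ ev (lmul'_comp_bcPres ψ)).app _⟩
  let C' := fun C : DRing.Cx A => (DTen.extCx (algebraMap A P')).obj C
  let Γ : ∀ C : DRing.Cx A, (Z ⟶ (extL R A).obj C) →
      ((DRing.restrictD ev).obj (DerivedCategory.Q.obj W₀) ⟶ DerivedCategory.Q.obj (J ⊗ C' C)) := fun C z =>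
    i0.inv ≫ tr φ (cQ φ (counitC φ c (C' C))) _ (DerivedCategory.Q.map ((z ▷ W') ≫ (eX C).hom))
  have Γ_nat : ∀ {C₁ C₂ : DRing.Cx A} (z : Z ⟶ (extL R A).obj C₁) (g : C₁ ⟶ C₂),
      Γ C₂ (z ≫ (extL R A).map g) =
        Γ C₁ z ≫ DerivedCategory.Q.map (J ◁ (DTen.extCx (algebraMap A P')).map g) := fun {C₁ C₂} z g => by
    show i0.inv ≫ _ = (i0.inv ≫ _) ≫ _
    rw [Category.assoc, ← tr_counitC_natural, ← Functor.map_comp, comp_whiskerRight, Category.assoc, eX_nat,
      Category.assoc]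
  have hflat : ∀ {C : DRing.Cx A} {b : ℤ}, DRing.VanishesAbove C b → DRing.TermwiseFiniteFree C →
      DRing.IsKFlat P' (C' C) := fun hb hf => KFlat.isKFlat_extendScalars _ (isKFlat_of_finiteFree hb hf)
  -- the element of `W`
  let t := tr ev (cQ ev (counitC ev c'' (C' W₀))) _ (DerivedCategory.Q.map (eV W₀).inv)
  obtain ⟨x, hx⟩ := ((hc (C' W₀) (hflat hb hf)) (DerivedCategory.Q.obj (Z ⊗ W'))).2 (i0.hom ≫ t)
  obtain ⟨zW, hzW⟩ := whisker_surjective (Z := Z) (x ≫ DerivedCategory.Q.map (eX W₀).inv)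
  have hΓW : Γ W₀ zW = t := by
    show i0.inv ≫ tr φ _ _ _ = t
    rw [Functor.map_comp, hzW, Category.assoc, ← Functor.map_comp, Iso.inv_hom_id,
      CategoryTheory.Functor.map_id, Category.comp_id, hx, Iso.inv_hom_id_assoc]
  -- the map
  obtain ⟨z, hz⟩ := PerfLocal.exists_lift (R := A ⊗[R] A) (eZ.hom ≫ y)
  obtain ⟨v, hv⟩ := ((hc'' (C' C) (hflat hC hCf)) (DerivedCategory.Q.obj W₀)).2 (Γ C z)
  obtain ⟨g, hg⟩ := PerfLocal.exists_lift (R := A) (v ≫ DerivedCategory.Q.map (eV C).hom)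
  refine ⟨g, eZ.inv ≫ DerivedCategory.Q.map zW, ?_⟩
  have hΓ : Γ C (zW ≫ (extL R A).map g) = Γ C z := by
    rw [Γ_nat, hΓW, ← hv]
    show tr ev _ _ _ ≫ _ = tr ev _ _ v
    rw [← tr_counitC_natural]
    refine congrArg (tr ev _ _) ?_
    rw [← Functor.map_comp, eV_nat, Functor.map_comp, hg, Category.assoc, ← Functor.map_comp, Iso.hom_inv_id,
      CategoryTheory.Functor.map_id, Category.comp_id]
  have h1 : DerivedCategory.Q.map ((zW ≫ (extL R A).map g) ▷ W') = DerivedCategory.Q.map (z ▷ W') := by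
    have h2 := (hc (C' C) (hflat hC hCf) _).1 ((cancel_epi i0.inv).1 hΓ)
    rw [Functor.map_comp, Functor.map_comp] at h2
    exact (cancel_mono _).1 h2
  have h3 := whisker_injective h1
  rw [Functor.map_comp] at h3
  rw [Category.assoc, h3, hz, Iso.inv_hom_id_assoc]

theorem isIso_of_split_epi_inD {B : Type u} [CommRing B] {u g : Dual.inD B B ⟶ Dual.inD B B} (h : IsIso (u ≫ g)) :
    IsIso g := by
  let F := DerivedCategory.singleFunctor (ModuleCat.{u} B) 0
  obtain ⟨a, rfl⟩ := F.map_surjective u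
  obtain ⟨b, rfl⟩ := F.map_surjective g
  rw [← F.map_comp] at h
  haveI : IsIso (a ≫ b) := isIso_of_reflects_iso _ F
  have hab : a ≫ b = b ≫ a := ModuleCat.hom_ext (LinearMap.ext_ring (by
    show b.hom (a.hom (1 : B)) = a.hom (b.hom (1 : B))
    have ha : ∀ x : B, a.hom x = x * a.hom (1 : B) := fun x => by
      conv_lhs => rw [← mul_one x, ← smul_eq_mul, map_smul]
      rfl
    have hb : ∀ x : B, b.hom x = x * b.hom (1 : B) := fun x => by
      conv_lhs => rw [← mul_one x, ← smul_eq_mul, map_smul]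
      rfl
    rw [hb, ha (b.hom 1)]
    exact mul_comm _ _))
  haveI : IsIso (b ≫ a) := hab ▸ inferInstance
  haveI : Epi b := epi_of_epi a b
  haveI : Mono b := mono_of_mono b a
  haveI := isIso_of_mono_of_epi b
  infer_instance

variable [DRing.HasLBaseChange (Algebra.TensorProduct.includeLeftRingHom : A →+* A ⊗[R] A)]

/-- A map out of `W` inducing an isomorphism after the diagonal restriction is an isomorphism. -/
theorem nonempty_iso_of_isRelDualizing (hψ : Function.Surjective ψ) {W : Dual.D A}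
    (h : Shr ψ W (Dual.inD R R)) (Rμ : Dual.D (A ⊗[R] A) ⥤ Dual.D A)
    (adjμ : DRing.restrictD (Algebra.TensorProduct.lmul' R (S := A)).toRingHom ⊣ Rμ) {K : Dual.D A}
    (hK : Dual2.IsRelDualizing R A Rμ K) : Nonempty (K ≅ W) := by
  haveI := fun (P B : Type u) [CommRing P] [CommRing B] (θ : P →+* B) => DRingKP.hasLBaseChange θ
  let il : A →+* A ⊗[R] A := Algebra.TensorProduct.includeLeftRingHom
  let μ := (Algebra.TensorProduct.lmul' R (S := A)).toRingHom
  obtain ⟨W₀, b₀, hb, hf, ⟨eW⟩⟩ := h.isPseudoCoherent' hψ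
  have h₀ : Shr ψ (DerivedCategory.Q.obj W₀) (Dual.inD R R) := RA.of_iso h eW.symm (Iso.refl _)
  obtain ⟨⟨⟨C, b, hC, hCf, ⟨eK⟩⟩, -⟩, ⟨eA⟩⟩ := hK
  let LW := DerivedCategory.Q.obj ((extL R A).obj W₀)
  let LC := DerivedCategory.Q.obj ((extL R A).obj C)
  let lW : (DRing.LBaseChange il).obj W ≅ LW :=
    (DRing.LBaseChange il).mapIso eW.symm ≪≫ lbcKFlatIso il (isKFlat_of_finiteFree hb hf)
  let lC : (DRing.LBaseChange il).obj K ≅ LC :=
    (DRing.LBaseChange il).mapIso eK.symm ≪≫ lbcKFlatIso il (isKFlat_of_finiteFree hC hCf)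
  obtain ⟨eWA⟩ := RA.unique (RA.of_adj adjμ ((DRing.LBaseChange il).obj W)) (h.rigid hψ)
  let aC : Rμ.obj LC ≅ Dual.inD A A := Rμ.mapIso lC.symm ≪≫ eA
  let aW : Rμ.obj LW ≅ Dual.inD A A := Rμ.mapIso lW.symm ≪≫ eWA
  obtain ⟨g, y₀, hy⟩ := exists_factor hψ hb hf h₀ hC hCf ((adjμ.homEquiv _ _).symm aC.inv)
  let G := DerivedCategory.Q.map ((extL R A).map g)
  have hG : IsIso (Rμ.map G) := by
    have h1 : adjμ.homEquiv _ _ y₀ ≫ Rμ.map G = aC.inv := by
      rw [← adjμ.homEquiv_naturality_right, hy, Equiv.apply_symm_apply]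
    haveI := isIso_of_split_epi_inD (u := adjμ.homEquiv _ _ y₀ ≫ aW.hom) (g := aW.inv ≫ Rμ.map G ≫ aC.hom) (by
      rw [Category.assoc, Iso.hom_inv_id_assoc, ← Category.assoc, h1, Iso.inv_hom_id]
      infer_instance)
    have : Rμ.map G = aW.hom ≫ (aW.inv ≫ Rμ.map G ≫ aC.hom) ≫ aC.inv := by simp
    rw [this]
    infer_instance
  let D := CochainComplex.mappingCone g
  let T := CochainComplex.mappingCone.triangle g
  have hT := DerivedCategory.mappingCone_triangle_distinguished ((extL R A).map g)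
  have hpost : ∀ (V : Dual.D A), Function.Bijective fun f : (DRing.restrictD μ).obj V ⟶ LW => f ≫ G := fun V => by
    have : (fun f : (DRing.restrictD μ).obj V ⟶ LW => f ≫ G) =
        (adjμ.homEquiv _ _).symm ∘ (fun f => f ≫ Rμ.map G) ∘ adjμ.homEquiv _ _ := funext fun f => by
      show _ = (adjμ.homEquiv _ _).symm (_ ≫ Rμ.map G)
      rw [← adjμ.homEquiv_naturality_right, Equiv.symm_apply_apply]
    rw [this]
    exact (adjμ.homEquiv _ _).symm.bijective.comp (Function.Bijective.comp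
      ⟨fun a b h => (cancel_mono (Rμ.map G)).1 h, fun w => ⟨w ≫ inv (Rμ.map G), by simp⟩⟩
      (adjμ.homEquiv _ _).bijective)
  have hpost1 : ∀ (V : Dual.D A) (f : (DRing.restrictD μ).obj V ⟶ LW⟦(1 : ℤ)⟧), f ≫ G⟦(1 : ℤ)⟧' = 0 → f = 0 :=
    fun V f hf0 => by
    have h1 := (hpost (V⟦(-1 : ℤ)⟧)).1 (a₁ := ((DRing.restrictD μ).commShiftIso (-1 : ℤ)).hom.app V ≫ f⟦(-1 : ℤ)⟧' ≫
      (shiftFunctorCompIsoId (Dual.D (A ⊗[R] A)) (1 : ℤ) (-1) (by lia)).hom.app LW) (a₂ := 0) (by
        simp only [Category.assoc, zero_comp]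
        have hn := (shiftFunctorCompIsoId (Dual.D (A ⊗[R] A)) (1 : ℤ) (-1) (by lia)).hom.naturality G
        simp only [Functor.comp_map, Functor.id_map] at hn
        rw [← hn, ← Functor.map_comp_assoc, hf0, Functor.map_zero, zero_comp, comp_zero])
    rw [Preadditive.IsIso.comp_left_eq_zero, Preadditive.IsIso.comp_right_eq_zero] at h1
    exact (shiftFunctor _ (-1 : ℤ)).map_injective (by rw [h1, Functor.map_zero])
  have hDflat : DRing.IsKFlat A D :=
    DRingKP.isKFlat_of_bounded (DRingKP.cone_vanishesAbove g hb hC)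
      (DRingKP.cone_flat g (fun i => haveI := (hf i).2; inferInstance) fun i => haveI := (hCf i).2; inferInstance)
  have hN : ∀ (V : Dual.D A) (f : (DRing.restrictD μ).obj V ⟶
      (DRing.LBaseChange il).obj (DerivedCategory.Q.obj D)), f = 0 := fun V f => by
    let eD : (DRing.LBaseChange il).obj (DerivedCategory.Q.obj D) ≅
        DerivedCategory.Q.obj (CochainComplex.mappingCone ((extL R A).map g)) :=
      lbcKFlatIso il hDflat ≪≫ DerivedCategory.Q.mapIso
        (CochainComplex.mappingCone.mapHomologicalComplexIso g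
          (ModuleCat.extendScalars.{u, u, u} il))
    suffices hh : f ≫ eD.hom = 0 by rwa [Preadditive.IsIso.comp_right_eq_zero] at hh
    obtain ⟨h', hh'⟩ := Triangle.coyoneda_exact₃ _ hT (f ≫ eD.hom) (hpost1 V _ (by
      rw [Category.assoc]
      erw [comp_distTriang_mor_zero₃₁ _ hT, comp_zero]))
    obtain ⟨w, hw⟩ := (hpost V).2 h'
    rw [hh', ← hw]
    show (w ≫ G) ≫ _ = 0
    rw [Category.assoc]
    erw [comp_distTriang_mor_zero₁₂ _ hT, comp_zero]
  have hz : IsZero (DerivedCategory.Q.obj D) := isZero_of_hom_restrict_eq_zero hψ _ hN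
  haveI : IsIso (DerivedCategory.Q.map g) :=
    (Triangle.isZero₃_iff_isIso₁ _ (DerivedCategory.mappingCone_triangle_distinguished g)).1 hz
  exact ⟨eK.symm ≪≫ (asIso (DerivedCategory.Q.map g)).symm ≪≫ eW⟩

end

end Groth.Agent.Shriek
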