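import Groth.Agent.Shriek.RelDual
import Groth.Agent.Shriek.BCShr
import Groth.Agent.DRingKP.Modules
import Groth.Agent.DRingKP.PerfDesc

/-!
An object with no maps from `μ_* V` to its pullback along a projection vanishes.
-/

set_option autoImplicit false
set_option linter.style.haveILetI false
set_option maxHeartbeats 1000000
set_option backward.isDefEq.respectTransparency false
universe u

namespace Groth.Agent.Shriek

open CategoryTheory CategoryTheory.Limits MonoidalCategory TensorProduct Pretriangulated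
open scoped ZeroObject

attribute [local instance] HasDerivedCategory.standard

noncomputable section

section General

variable {S A : Type u} [CommRing S] [CommRing A] (μ : S →+* A)

theorem exists_restrict_of_killed (hμ : Function.Surjective μ) (M : ModuleCat.{u} S)
    (h : ∀ s, μ s = 0 → ∀ x : M, s • x = 0) :
    ∃ M' : ModuleCat.{u} A, Nonempty ((ModuleCat.restrictScalars.{u} μ).obj M' ≅ M) := by
  have htor : Module.IsTorsionBySet S M (RingHom.ker μ) := fun x s => h _ s.2 x
  letI := htor.module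
  let e := (RingHom.quotientKerEquivOfSurjective hμ).symm
  letI : Module A M := Module.compHom M e.toRingHom
  let E : ((ModuleCat.restrictScalars.{u} μ).obj (ModuleCat.of A M) : Type u) ≃ₗ[S] M :=
    { toFun := fun x => x, invFun := fun x => x, map_add' := fun _ _ => rfl, left_inv := fun _ => rfl,
      right_inv := fun _ => rfl
      map_smul' := fun s x => ?_ }
  · exact ⟨ModuleCat.of A M, ⟨E.toModuleIso⟩⟩
  show e (μ s) • (show M from x) = s • (show M from x)
  have : e (μ s) = Ideal.Quotient.mk (RingHom.ker μ) s := by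
    apply (RingHom.quotientKerEquivOfSurjective hμ).injective
    rw [RingEquiv.apply_symm_apply, RingHom.quotientKerEquivOfSurjective_apply_mk]
  rw [this]
  exact Module.IsTorsionBySet.mk_smul htor s _

theorem hom_eq_zero_of_killed (hμ : Function.Surjective μ) {N : Dual.D S}
    (hN : ∀ (V : Dual.D A) (f : (DRing.restrictD μ).obj V ⟶ N), f = 0) :
    ∀ (d : ℕ) (a b : ℤ) (X : Dual.D S), b < a + d →
      (∀ i, i < a ∨ b < i → Subsingleton (Dual.HD S X i)) →
      (∀ i s, μ s = 0 → ∀ x : Dual.HD S X i, s • x = 0) → ∀ f : X ⟶ N, f = 0 := by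
  intro d
  induction d with
  | zero =>
    intro a b X hab hz _ f
    have : IsZero X := by
      rw [IsZero.iff_id_eq_zero]
      haveI : X.IsLE (a - 1) := (DerivedCategory.isLE_iff X _).2 fun i _ =>
        haveI := hz i (by lia); ModuleCat.isZero_of_subsingleton _
      haveI : X.IsGE a := (DerivedCategory.isGE_iff X _).2 fun i hi =>
        haveI := hz i (Or.inl hi); ModuleCat.isZero_of_subsingleton _
      exact ((DerivedCategory.TStructure.t.isZero X (a - 1) a (by lia)).eq_of_src _ _)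
    exact this.eq_of_src _ _
  | succ d ih =>
    intro a b X hab hz hk f
    by_cases hba : b < a + d
    · exact ih a b X hba hz hk f
    obtain ⟨Y, B, i, p, w, hT, hY, hlt, ⟨eB⟩⟩ := DRingKP.exists_top_triangle X b fun j hj =>
      haveI := hz j (Or.inr (by lia)); ModuleCat.isZero_of_subsingleton _
    have hYz : ∀ j, j < a ∨ b - 1 < j → Subsingleton (Dual.HD S Y j) := fun j hj => by
      rcases hj with hj | hj
      · obtain ⟨e⟩ := hlt j (by lia)
        haveI := hz j (Or.inl hj)
        exact e.toLinearEquiv.toEquiv.subsingleton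
      · exact ModuleCat.subsingleton_of_isZero (hY j (by lia))
    have hYk : ∀ j s, μ s = 0 → ∀ x : Dual.HD S Y j, s • x = 0 := fun j s hs x => by
      by_cases hj : j < b
      · obtain ⟨e⟩ := hlt j hj
        apply e.toLinearEquiv.injective
        rw [map_smul, map_zero]
        exact hk j s hs _
      · haveI := hYz j (Or.inr (by lia))
        exact Subsingleton.elim _ _
    have h1 : i ≫ f = 0 := ih a (b - 1) Y (by lia) hYz hYk _
    obtain ⟨g, rfl⟩ := Triangle.yoneda_exact₂ _ hT f h1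
    obtain ⟨M', ⟨eM⟩⟩ := exists_restrict_of_killed μ hμ _ (hk b)
    let eB' : (DRing.restrictD μ).obj ((DerivedCategory.singleFunctor (ModuleCat.{u} A) b).obj M') ≅ B :=
      ((ModuleCat.restrictScalars.{u} μ).mapDerivedCategorySingleFunctor b).app M' ≪≫
        (DerivedCategory.singleFunctor (ModuleCat.{u} S) b).mapIso eM ≪≫ eB.symm
    have h2 : eB'.hom ≫ g = 0 := hN _ _
    have h3 : g = 0 := by
      rw [← eB'.inv_hom_id_assoc g, h2, comp_zero]
    rw [h3, comp_zero]

/-- a scalar killing an object kills its extension -/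
theorem lbc_smul_id_eq_zero {φ : S →+* A} [DRing.HasLBaseChange φ] {U : Dual.D S} {s : S}
    (h : s • 𝟙 U = 0) : φ s • 𝟙 ((DRing.LBaseChange φ).obj U) = 0 := by
  haveI : DTen.HasLBase φ := DTenLib.hasLBase φ
  obtain ⟨adj⟩ := DTenLib.nonempty_adjunction φ
  apply (adj.homEquiv _ _).injective
  rw [adj.homEquiv_unit, adj.homEquiv_unit, Functor.map_zero, comp_zero]
  erw [resD_smul', CategoryTheory.Functor.map_id, Linear.comp_smul, Category.comp_id]
  have : s • adj.unit.app U = (s • 𝟙 U) ≫ adj.unit.app U := by rw [Linear.smul_comp, Category.id_comp]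
  rw [this, h, zero_comp]

theorem HD_smul_eq_zero {X : Dual.D S} {s : S} (h : s • 𝟙 X = 0) (i : ℤ) (x : Dual.HD S X i) : s • x = 0 := by
  obtain ⟨t, rfl⟩ := (DualCx.homEquiv X i).surjective x
  rw [← map_smul]
  have h1 : t ≫ (s • 𝟙 X)⟦i⟧' = s • t := by
    rw [Functor.map_smul, CategoryTheory.Functor.map_id, Linear.comp_smul, Category.comp_id]
  rw [← h1, h, Functor.map_zero, comp_zero, map_zero]

end General

variable {R A : Type u} [CommRing R] [CommRing A] [Algebra R A] [Module.Flat R A] [Algebra.FinitePresentation R A]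
  {n : ℕ} {ψ : MvPolynomial (Fin n) R →ₐ[R] A}

omit [Module.Flat R A] [Algebra.FinitePresentation R A] in
theorem lmul'_comp_bcPres (ψ : MvPolynomial (Fin n) R →ₐ[R] A) :
    (Algebra.TensorProduct.lmul' R (S := A)).toRingHom.comp (bcPres (R' := A) ψ).toRingHom =
      MvPolynomial.eval fun i => ψ (MvPolynomial.X i) := by
  refine MvPolynomial.ringHom_ext (fun a => ?_) fun i => ?_
  · show Algebra.TensorProduct.lmul' R (S := A) (bcPres (R' := A) ψ (MvPolynomial.C a)) = _
    rw [bcPres, MvPolynomial.aeval_C, MvPolynomial.eval_C, Algebra.TensorProduct.algebraMap_apply]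
    simp
  · show Algebra.TensorProduct.lmul' R (S := A) (bcPres (R' := A) ψ (MvPolynomial.X i)) = _
    rw [bcPres, MvPolynomial.aeval_X, MvPolynomial.eval_X]
    simp

omit [Module.Flat R A] [Algebra.FinitePresentation R A] in
theorem perfectModule_eval (f : Fin n → A) :
    letI := (MvPolynomial.eval f).toAlgebra
    DRing.IsPerfectModule (MvPolynomial (Fin n) A) A := by
  let e : MvPolynomial (Fin n) A →ₐ[A] A := MvPolynomial.aeval f
  have h : e.toRingHom = MvPolynomial.eval f := MvPolynomial.ringHom_ext (fun a => by simp [e]) fun i => by simp [e]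
  have := isPerfectModule_pres (R := A) (A := A) e fun a => ⟨MvPolynomial.C a, by simp [e]⟩
  rwa [h] at this

/-- The vanishing lemma. -/
theorem isZero_of_hom_restrict_eq_zero (hψ : Function.Surjective ψ) (K : Dual.D A)
    [DRing.HasLBaseChange (Algebra.TensorProduct.includeLeftRingHom : A →+* A ⊗[R] A)]
    (hK : ∀ (V : Dual.D A) (f : (DRing.restrictD (Algebra.TensorProduct.lmul' R (S := A)).toRingHom).obj V ⟶
      (DRing.LBaseChange (Algebra.TensorProduct.includeLeftRingHom : A →+* A ⊗[R] A)).obj K), f = 0) :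
    IsZero K := by
  haveI := fun (P B : Type u) [CommRing P] [CommRing B] (θ : P →+* B) => DTenLib.hasLBase θ
  haveI := fun (P B : Type u) [CommRing P] [CommRing B] (θ : P →+* B) => DRingKP.hasLBaseChange θ
  let P' := MvPolynomial (Fin n) A
  let φ : P' →+* A ⊗[R] A := (bcPres (R' := A) ψ).toRingHom
  let μ : A ⊗[R] A →+* A := (Algebra.TensorProduct.lmul' R (S := A)).toRingHom
  let il : A →+* A ⊗[R] A := Algebra.TensorProduct.includeLeftRingHom
  let ev : P' →+* A := MvPolynomial.eval fun i => ψ (MvPolynomial.X i)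
  have hφs : Function.Surjective φ := bcPres_surjective hψ
  have hμs : Function.Surjective μ := fun a => ⟨a ⊗ₜ 1, by simp [μ]⟩
  have hμφ : μ.comp φ = ev := lmul'_comp_bcPres ψ
  let N := (DRing.LBaseChange il).obj K
  -- no maps from the extension of `A` along the presentation
  letI : Algebra P' A := ev.toAlgebra
  have hperf : DRing.IsPerfectModule P' A := perfectModule_eval _
  obtain ⟨d⟩ := exists_perfData ev hperf
  haveI := d.hα
  have hsm : ∀ p : P', ev p = 0 → p • 𝟙 ((DRing.restrictD ev).obj (Dual.inD A A)) = 0 := fun p hp => by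
    rw [← CategoryTheory.Functor.map_id, ← resD_smul', hp, zero_smul, Functor.map_zero]
  have hXk : ∀ (i : ℤ) s, μ s = 0 → ∀ x : Dual.HD _
      ((DRing.LBaseChange φ).obj ((DRing.restrictD ev).obj (Dual.inD A A))) i, s • x = 0 := fun i s hs => by
    obtain ⟨p, rfl⟩ := hφs s
    exact HD_smul_eq_zero (lbc_smul_id_eq_zero (hsm p (by rw [← hμφ]; exact hs))) i
  let eF : DerivedCategory.Q.obj d.F ≅ (DRing.restrictD ev).obj (Dual.inD A A) :=
    asIso (DerivedCategory.Q.map d.α) ≪≫ ((DTen.resFactors ev).app _).symm ≪≫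
      (DRing.restrictD ev).mapIso ((DerivedCategory.singleFunctorIsoCompQ (ModuleCat.{u} A) 0).app _).symm
  let eX := ((DRing.LBaseChange φ).mapIso eF).symm ≪≫ lbcKFlatIso φ d.hF
  have hXb : ∀ i, i < d.a ∨ d.b < i → Subsingleton
      (Dual.HD _ ((DRing.LBaseChange φ).obj ((DRing.restrictD ev).obj (Dual.inD A A))) i) := fun i hi => by
    refine ModuleCat.subsingleton_of_isZero (IsZero.of_iso ?_
      ((DerivedCategory.homologyFunctor (ModuleCat.{u} (A ⊗[R] A)) i).mapIso eX))
    exact (ShortComplex.isZero_homology_of_isZero_X₂ _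
      ((ModuleCat.extendScalars.{u, u, u} φ).map_isZero (d.hzero i hi))).of_iso
        ((DerivedCategory.homologyFunctorFactors _ i).app _)
  -- no maps from `A` to the restriction of `N`
  obtain ⟨adjφ⟩ := DTenLib.nonempty_adjunction φ
  have hA : ∀ (i : ℤ) (f : ((DRing.restrictD ev).obj (Dual.inD A A))⟦i⟧ ⟶ (DRing.restrictD φ).obj N), f = 0 := by
    intro i f
    have key : ∀ g : (DRing.LBaseChange φ).obj ((DRing.restrictD ev).obj (Dual.inD A A)) ⟶ N⟦-i⟧, g = 0 :=
      hom_eq_zero_of_killed μ hμs (fun V g => by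
        have h1 := hK (V⟦i⟧) (((DRing.restrictD μ).commShiftIso i).hom.app V ≫ g⟦i⟧' ≫
          ((shiftFunctorCompIsoId (Dual.D (A ⊗[R] A)) (-i) i (neg_add_cancel i)).app N).hom)
        rw [Preadditive.IsIso.comp_left_eq_zero, Preadditive.IsIso.comp_right_eq_zero] at h1
        exact (shiftFunctor _ i).map_injective (by rw [h1, Functor.map_zero]))
        (d.b - d.a + 1).toNat d.a d.b _ (by lia) hXb hXk
    have key2 : ∀ g : (DRing.restrictD ev).obj (Dual.inD A A) ⟶ ((DRing.restrictD φ).obj N)⟦-i⟧, g = 0 := fun g => by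
      have h2 := key ((adjφ.homEquiv _ _).symm (g ≫ ((DRing.restrictD φ).commShiftIso (-i)).inv.app N))
      have h3 := congrArg (adjφ.homEquiv _ _) h2
      rw [Equiv.apply_symm_apply, adjφ.homEquiv_unit, Functor.map_zero, comp_zero] at h3
      exact (cancel_mono (((DRing.restrictD φ).commShiftIso (-i)).inv.app N)).1 (h3.trans zero_comp.symm)
    have h4 := key2 ((shiftFunctorCompIsoId (Dual.D P') i (-i) (add_neg_cancel i)).inv.app _ ≫ f⟦-i⟧')
    rw [Preadditive.IsIso.comp_left_eq_zero] at h4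
    exact (shiftFunctor _ (-i)).map_injective (by rw [h4, Functor.map_zero])
  -- so the fibre along `ev` vanishes
  obtain ⟨M, hM, ⟨eM⟩⟩ := DTenLib.exists_kFlat_rep (((DRing.restrictD φ).obj N)⟦-(n : ℤ)⟧)
  obtain ⟨W₁, hW₁, ⟨eW₁⟩⟩ := DTenLib.exists_kFlat_rep (Dual.inD A A)
  let eP : (polyD A n).obj (Dual.inD A A) ≅ Dual.inD P' P' := (polyD_self A n).some
  have h1 : RA ev (DerivedCategory.Q.obj W₁) (DerivedCategory.Q.obj (freeAt P' (-(n : ℤ)))) :=
    RA.of_iso (RA.eval A n (fun i => ψ (MvPolynomial.X i)) (Dual.inD A A)) eW₁.symm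
      ((shiftFunctor _ (n : ℤ)).mapIso eP ≪≫ (freeShiftIso P' (n : ℤ)).symm)
  obtain ⟨c, hc⟩ := RA.tensor_of_perfect ev hperf h1 hM
  obtain ⟨eJ⟩ := nonempty_freeAt_tensor P' (n : ℤ) M
  let eJN : DerivedCategory.Q.obj (freeAt P' (-(n : ℤ)) ⊗ M) ≅ (DRing.restrictD φ).obj N :=
    eJ ≪≫ (shiftFunctor _ (n : ℤ)).mapIso eM ≪≫ (shiftFunctorCompIsoId (Dual.D P') (-(n : ℤ)) n (by lia)).app _
  have hV : ∀ (i : ℤ) (v : (Dual.inD A A)⟦i⟧ ⟶ DerivedCategory.Q.obj (W₁ ⊗ (DTen.extCx ev).obj M)), v = 0 :=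
    fun i v => (hc _).1 (by
      show tr ev c _ v = tr ev c _ 0
      have := hA i ((((DRing.restrictD ev).commShiftIso i).inv.app _) ≫ tr ev c _ v ≫ eJN.hom)
      rw [Preadditive.IsIso.comp_left_eq_zero, Preadditive.IsIso.comp_right_eq_zero] at this
      rw [this]
      simp [tr])
  have hext : IsZero (DerivedCategory.Q.obj ((DTen.extCx ev).obj M)) := by
    have hz : IsZero (DerivedCategory.Q.obj (W₁ ⊗ (DTen.extCx ev).obj M)) := by
      haveI := isIso_of_gen (0 : DerivedCategory.Q.obj (W₁ ⊗ (DTen.extCx ev).obj M) ⟶ 0) fun i =>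
        ⟨fun a b _ => (hV i a).trans (hV i b).symm, fun y => ⟨0, (isZero_zero _).eq_of_tgt _ _⟩⟩
      exact (isZero_zero _).of_iso (asIso (0 : DerivedCategory.Q.obj (W₁ ⊗ (DTen.extCx ev).obj M) ⟶ 0))
    let e1 : DerivedCategory.Q.obj W₁ ≅ DerivedCategory.Q.obj (𝟙_ (DRing.Cx A)) :=
      eW₁ ≪≫ (DerivedCategory.singleFunctorIsoCompQ (ModuleCat.{u} A) 0).app _
    obtain ⟨e2⟩ := nonempty_tensIso (KFlat.isKFlat_extendScalars ev hM) e1
    exact hz.of_iso ((DerivedCategory.Q.mapIso (λ_ ((DTen.extCx ev).obj M))).symm ≪≫ e2.symm)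
  -- hence nothing maps from `N` to objects killed by `μ`
  obtain ⟨adjev⟩ := DTenLib.nonempty_adjunction ev
  have hres : ∀ (V : Dual.D A) (g : (DRing.restrictD φ).obj N ⟶ (DRing.restrictD ev).obj V), g = 0 := fun V g => by
    have key : ∀ (U : Dual.D A) (y : DerivedCategory.Q.obj M ⟶ (DRing.restrictD ev).obj U), y = 0 := fun U y => by
      apply (adjev.homEquiv _ _).symm.injective
      exact (hext.of_iso (lbcKFlatIso ev hM)).eq_of_src _ _
    have h5 := key (V⟦-(n : ℤ)⟧) (eM.hom ≫ g⟦-(n : ℤ)⟧' ≫ ((DRing.restrictD ev).commShiftIso (-(n : ℤ))).inv.app V)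
    rw [Preadditive.IsIso.comp_left_eq_zero, Preadditive.IsIso.comp_right_eq_zero] at h5
    exact (shiftFunctor _ (-(n : ℤ))).map_injective (by rw [h5, Functor.map_zero])
  -- but `N` maps to `μ_* K` compatibly with the identity
  obtain ⟨adjil⟩ := DTenLib.nonempty_adjunction il
  let eid : (DRing.restrictD il).obj ((DRing.restrictD μ).obj K) ≅ K :=
    (restrictDComp il μ (RingHom.id A) (RingHom.ext fun a => by simp [il, μ])).app K ≪≫ restrictDId.app K
  let f : N ⟶ (DRing.restrictD μ).obj K := (adjil.homEquiv _ _).symm eid.inv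
  have hf : adjil.unit.app K ≫ (DRing.restrictD il).map f = eid.inv := by
    exact ((adjil.homEquiv_unit _ _ _).symm).trans (Equiv.apply_symm_apply _ _)
  have hfφ : (DRing.restrictD φ).map f = 0 := by
    have h6 := hres K ((DRing.restrictD φ).map f ≫ ((restrictDComp φ μ ev hμφ).app K).hom)
    rwa [Preadditive.IsIso.comp_right_eq_zero] at h6
  have hg : ∀ (i : ℤ) (v : (Dual.inD A A)⟦i⟧ ⟶ K), v ≫ eid.inv = 0 := fun i v => by
    apply (adjil.homEquiv _ _).symm.injective
    rw [adjil.homEquiv_naturality_left_symm]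
    rw [show (adjil.homEquiv _ _).symm (0 : (Dual.inD A A)⟦i⟧ ⟶ _) = 0 from
      (adjil.homEquiv _ _).symm_apply_eq.2 (by rw [adjil.homEquiv_unit, Functor.map_zero, comp_zero])]
    let eU : (DRing.LBaseChange il).obj ((Dual.inD A A)⟦i⟧) ≅ (DRing.LBaseChange φ).obj ((Dual.inD P' P')⟦i⟧) :=
      (DRing.LBaseChange il).mapIso (freeShiftIso A i).symm ≪≫ lbcKFlatIso il (isKFlat_freeAt (-i)) ≪≫
        extFreeShiftIso il i ≪≫ (extFreeShiftIso φ i).symm ≪≫ (lbcKFlatIso φ (isKFlat_freeAt (-i))).symm ≪≫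
        (DRing.LBaseChange φ).mapIso (freeShiftIso P' i)
    rw [← cancel_epi eU.inv]
    apply (adjφ.homEquiv _ _).injective
    rw [adjφ.homEquiv_unit, adjφ.homEquiv_unit]
    simp only [Functor.map_comp, Functor.map_zero, comp_zero]
    rw [show (adjil.homEquiv _ _).symm eid.inv = f from rfl, hfφ, comp_zero, comp_zero, comp_zero]
  have hK0 : ∀ (i : ℤ) (v : (Dual.inD A A)⟦i⟧ ⟶ K), v = 0 := fun i v =>
    (cancel_mono eid.inv).1 ((hg i v).trans zero_comp.symm)
  haveI := isIso_of_gen (0 : K ⟶ 0) fun i =>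
    ⟨fun a b _ => (hK0 i a).trans (hK0 i b).symm, fun y => ⟨0, (isZero_zero _).eq_of_tgt _ _⟩⟩
  exact (isZero_zero _).of_iso (asIso (0 : K ⟶ 0))

end

end Groth.Agent.Shriek
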