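import Groth.Agent.Shriek.HomTensor
import Groth.Agent.Shriek.UniqVanish
import Mathlib.Algebra.Homology.HomologySequenceLemmas

/-!
Tensoring with the dualizing complex is fully faithful on maps into extensions from the base.
-/

set_option autoImplicit false
set_option linter.style.haveILetI false
set_option maxHeartbeats 1000000
set_option backward.isDefEq.respectTransparency false
universe u

namespace Groth.Agent.Shriek

open CategoryTheory CategoryTheory.Limits MonoidalCategory TensorProduct Pretriangulated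
open CochainComplex CochainComplex.HomComplex

attribute [local instance] HasDerivedCategory.standard

noncomputable section

variable {S : Type u} [CommRing S] {W : DRing.Cx S}

instance preservesZeroMorphisms_tensorRightCx : (tensorRight W).PreservesZeroMorphisms where
  map_zero X Y := HomologicalComplex.hom_ext _ _ fun n => HomologicalComplex.mapBifunctor.hom_ext fun p q h => by
    show HomologicalComplex.ιTensorObj X W p q n h ≫ ((0 : X ⟶ Y) ▷ W).f n = _
    erw [HomologicalComplex.ι_mapBifunctorMap]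
    simp

instance : (DRing.homCxFunctor W).PreservesZeroMorphisms where
  map_zero X Y := HomologicalComplex.hom_ext _ _ fun i => ModuleCat.hom_ext (LinearMap.ext fun (z : Cochain W X i) => by
    show z.comp (Cochain.ofHom (0 : X ⟶ Y)) (add_zero i) = 0
    simp)

/-- `E ↦ Hom(W, E ⊗ W)` -/
abbrev unitTgt (W : DRing.Cx S) : DRing.Cx S ⥤ DRing.Cx S := tensorRight W ⋙ DRing.homCxFunctor W

/-- the unit as a natural transformation -/
def unitNat (W : DRing.Cx S) : 𝟭 (DRing.Cx S) ⟶ unitTgt W where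
  app E := etaCx E W
  naturality _ _ e := (etaCx_natural e W).symm

theorem quasiIso_unit_congr {E E' : DRing.Cx S} (e : E ≅ E') (h : QuasiIso (etaCx E W)) :
    QuasiIso (etaCx E' W) := by
  have h1 : etaCx E' W = e.inv ≫ etaCx E W ≫ (unitTgt W).map e.hom := by
    rw [← e.inv_hom_id_assoc (etaCx E' W)]
    exact congrArg (e.inv ≫ ·) ((unitNat W).naturality e.hom)
  rw [h1]
  infer_instance

theorem ι_wR {K L : DRing.Cx S} (g : K ⟶ L) (W : DRing.Cx S) (p q n : ℤ) (h : p + q = n) :
    HomologicalComplex.ιTensorObj K W p q n h ≫ (g ▷ W).f n =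
      (g.f p ▷ W.X q) ≫ HomologicalComplex.ιTensorObj L W p q n h := by
  refine (HomologicalComplex.ι_mapBifunctorMap g (𝟙 W) (curriedTensor (ModuleCat.{u} S))
    (ComplexShape.up ℤ) p q n h).trans ?_
  rw [HomologicalComplex.id_f, CategoryTheory.Functor.map_id]
  exact congrArg (_ ≫ ·) (Category.id_comp _)

/-- a degreewise map, tensored -/
def gradedWhisker {K L : DRing.Cx S} (r : ∀ p, K.X p ⟶ L.X p) (W : DRing.Cx S) (n : ℤ) :
    (K ⊗ W).X n ⟶ (L ⊗ W).X n :=
  HomologicalComplex.mapBifunctorDesc fun p q hpq =>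
    (r p ▷ W.X q) ≫ HomologicalComplex.ιTensorObj L W p q n hpq

theorem ι_gradedWhisker {K L : DRing.Cx S} (r : ∀ p, K.X p ⟶ L.X p) (W : DRing.Cx S) (p q n : ℤ) (h : p + q = n) :
    HomologicalComplex.ιTensorObj K W p q n h ≫ gradedWhisker r W n =
      (r p ▷ W.X q) ≫ HomologicalComplex.ιTensorObj L W p q n h :=
  HomologicalComplex.ι_mapBifunctorDesc (F := curriedTensor (ModuleCat.{u} S)) _ p q h

theorem gradedWhisker_id (K W : DRing.Cx S) (n : ℤ) :
    gradedWhisker (fun p => 𝟙 (K.X p)) W n = 𝟙 ((K ⊗ W).X n) :=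
  HomologicalComplex.mapBifunctor.hom_ext fun p q h => by
    refine (ι_gradedWhisker _ W p q n h).trans ?_
    rw [MonoidalCategory.id_whiskerRight, Category.id_comp]
    exact (Category.comp_id _).symm

theorem gradedWhisker_comp {K L M : DRing.Cx S} (r : ∀ p, K.X p ⟶ L.X p) (s : ∀ p, L.X p ⟶ M.X p)
    (W : DRing.Cx S) (n : ℤ) :
    gradedWhisker r W n ≫ gradedWhisker s W n = gradedWhisker (fun p => r p ≫ s p) W n :=
  HomologicalComplex.mapBifunctor.hom_ext fun p q h => by
    refine ((Category.assoc _ _ _).symm.trans (congrArg (· ≫ _) (ι_gradedWhisker r W p q n h))).trans ?_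
    refine ((Category.assoc _ _ _).trans (congrArg (_ ≫ ·) (ι_gradedWhisker s W p q n h))).trans ?_
    refine ((Category.assoc _ _ _).symm.trans ?_).trans (ι_gradedWhisker _ W p q n h).symm
    rw [comp_whiskerRight]

theorem gradedWhisker_add {K L : DRing.Cx S} (r s : ∀ p, K.X p ⟶ L.X p) (W : DRing.Cx S) (n : ℤ) :
    gradedWhisker r W n + gradedWhisker s W n = gradedWhisker (fun p => r p + s p) W n :=
  HomologicalComplex.mapBifunctor.hom_ext fun p q h => by
    refine (Preadditive.comp_add _ _ _ _ _ _).trans ?_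
    refine (congrArg₂ (· + ·) (ι_gradedWhisker r W p q n h) (ι_gradedWhisker s W p q n h)).trans ?_
    refine Eq.trans ?_ (ι_gradedWhisker _ W p q n h).symm
    rw [← Preadditive.add_comp]
    exact congrArg (· ≫ _) (((tensoringRight (ModuleCat.{u} S)).obj (W.X q)).map_add).symm

theorem whiskerRight_f_eq {K L : DRing.Cx S} (g : K ⟶ L) (W : DRing.Cx S) (n : ℤ) :
    (g ▷ W).f n = gradedWhisker g.f W n :=
  HomologicalComplex.mapBifunctor.hom_ext fun p q h => (ι_wR g W p q n h).trans (ι_gradedWhisker _ W p q n h).symm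

/-- a degreewise splitting, tensored -/
def tensorSplitting {T : ShortComplex (DRing.Cx S)}
    (h : ∀ n, (T.map (HomologicalComplex.eval _ _ n)).Splitting) (W : DRing.Cx S) (n : ℤ) :
    ((T.map (tensorRight W)).map (HomologicalComplex.eval _ _ n)).Splitting where
  r := gradedWhisker (fun p => (h p).r) W n
  s := gradedWhisker (fun p => (h p).s) W n
  f_r := by
    show (T.f ▷ W).f n ≫ gradedWhisker _ W n = 𝟙 ((T.X₁ ⊗ W).X n)
    rw [whiskerRight_f_eq, gradedWhisker_comp, ← gradedWhisker_id]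
    congr 1
    exact funext fun p => (h p).f_r
  s_g := by
    show gradedWhisker _ W n ≫ (T.g ▷ W).f n = 𝟙 ((T.X₃ ⊗ W).X n)
    rw [whiskerRight_f_eq, gradedWhisker_comp, ← gradedWhisker_id]
    congr 1
    exact funext fun p => (h p).s_g
  id := by
    show gradedWhisker _ W n ≫ (T.f ▷ W).f n + (T.g ▷ W).f n ≫ gradedWhisker _ W n = 𝟙 ((T.X₂ ⊗ W).X n)
    rw [whiskerRight_f_eq, whiskerRight_f_eq, gradedWhisker_comp, gradedWhisker_comp, gradedWhisker_add,
      ← gradedWhisker_id]
    congr 1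
    exact funext fun p => (h p).id

/-- a degreewise splitting, under `Hom(W, -)` -/
def homSplitting {T : ShortComplex (DRing.Cx S)}
    (h : ∀ n, (T.map (HomologicalComplex.eval _ _ n)).Splitting) (W : DRing.Cx S)
    [(DRing.homCxFunctor W).PreservesZeroMorphisms] (n : ℤ) :
    ((T.map (DRing.homCxFunctor W)).map (HomologicalComplex.eval _ _ n)).Splitting where
  r := ModuleCat.ofHom
    { toFun := fun z => (show Cochain W T.X₂ n from z).comp (Cochain.ofHoms fun p => (h p).r) (add_zero n)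
      map_add' := fun a b => Cochain.add_comp _ _ _ _
      map_smul' := fun a b => Cochain.smul_comp _ _ _ _ }
  s := ModuleCat.ofHom
    { toFun := fun z => (show Cochain W T.X₃ n from z).comp (Cochain.ofHoms fun p => (h p).s) (add_zero n)
      map_add' := fun a b => Cochain.add_comp _ _ _ _
      map_smul' := fun a b => Cochain.smul_comp _ _ _ _ }
  f_r := ModuleCat.hom_ext (LinearMap.ext fun (z : Cochain W T.X₁ n) => Cochain.ext _ _ fun p q hpq => by
    show ((z.comp (Cochain.ofHom T.f) (add_zero n)).comp (Cochain.ofHoms fun p => (h p).r) (add_zero n)).v p q hpq = _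
    rw [Cochain.comp_zero_cochain_v, Cochain.comp_zero_cochain_v, Cochain.ofHom_v, Cochain.ofHoms_v, Category.assoc]
    erw [(h q).f_r, Category.comp_id]
    rfl)
  s_g := ModuleCat.hom_ext (LinearMap.ext fun (z : Cochain W T.X₃ n) => Cochain.ext _ _ fun p q hpq => by
    show ((z.comp (Cochain.ofHoms fun p => (h p).s) (add_zero n)).comp (Cochain.ofHom T.g) (add_zero n)).v p q hpq = _
    rw [Cochain.comp_zero_cochain_v, Cochain.comp_zero_cochain_v, Cochain.ofHom_v, Cochain.ofHoms_v, Category.assoc]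
    erw [(h q).s_g, Category.comp_id]
    rfl)
  id := ModuleCat.hom_ext (LinearMap.ext fun (z : Cochain W T.X₂ n) => Cochain.ext _ _ fun p q hpq => by
    show (((z.comp (Cochain.ofHoms fun p => (h p).r) (add_zero n)).comp (Cochain.ofHom T.f) (add_zero n)) +
      ((z.comp (Cochain.ofHom T.g) (add_zero n)).comp (Cochain.ofHoms fun p => (h p).s) (add_zero n))).v p q hpq = _
    simp only [Cochain.add_v, Cochain.comp_zero_cochain_v, Cochain.ofHom_v, Cochain.ofHoms_v, Category.assoc,
      ← Preadditive.comp_add]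
    erw [(h q).id, Category.comp_id]
    rfl)

theorem shortExact_of_splittings {T : ShortComplex (DRing.Cx S)}
    (h : ∀ n, (T.map (HomologicalComplex.eval _ _ n)).Splitting) : T.ShortExact :=
  HomologicalComplex.shortExact_of_degreewise_shortExact T fun n => (h n).shortExact

/-- the unit on a short complex -/
def unitSC (T : ShortComplex (DRing.Cx S)) (W : DRing.Cx S) :
    T ⟶ T.map (unitTgt W) where
  τ₁ := etaCx T.X₁ W
  τ₂ := etaCx T.X₂ W
  τ₃ := etaCx T.X₃ W
  comm₁₂ := etaCx_natural T.f W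
  comm₂₃ := etaCx_natural T.g W

theorem quasiIso_unit_mid {T : ShortComplex (DRing.Cx S)}
    (h : ∀ n, (T.map (HomologicalComplex.eval _ _ n)).Splitting) (h₁ : QuasiIso (etaCx T.X₁ W))
    (h₃ : QuasiIso (etaCx T.X₃ W)) : QuasiIso (etaCx T.X₂ W) := by
  have hT := shortExact_of_splittings h
  have hT' : (T.map (unitTgt W)).ShortExact := shortExact_of_splittings fun n => homSplitting (tensorSplitting h W) W n
  let f := unitSC T W
  let m : DerivedCategory.triangleOfSES hT ⟶ DerivedCategory.triangleOfSES hT' :=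
    Triangle.homMk _ _ (DerivedCategory.Q.map f.τ₁) (DerivedCategory.Q.map f.τ₂) (DerivedCategory.Q.map f.τ₃)
      (show DerivedCategory.Q.map T.f ≫ DerivedCategory.Q.map f.τ₂ = DerivedCategory.Q.map f.τ₁ ≫ DerivedCategory.Q.map _ by
        rw [← Functor.map_comp, ← Functor.map_comp, f.comm₁₂])
      (show DerivedCategory.Q.map T.g ≫ DerivedCategory.Q.map f.τ₃ = DerivedCategory.Q.map f.τ₂ ≫ DerivedCategory.Q.map _ by
        rw [← Functor.map_comp, ← Functor.map_comp, f.comm₂₃])
      (DerivedCategory.triangleOfSESδ_naturality hT hT' f)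
  haveI : IsIso m.hom₁ := show IsIso (DerivedCategory.Q.map f.τ₁) from
    haveI : QuasiIso f.τ₁ := h₁; inferInstance
  haveI : IsIso m.hom₃ := show IsIso (DerivedCategory.Q.map f.τ₃) from
    haveI : QuasiIso f.τ₃ := h₃; inferInstance
  exact (DerivedCategory.isIso_Q_map_iff_quasiIso _ f.τ₂).1 (isIso₂_of_isIso₁₃ m
    (DerivedCategory.triangleOfSES_distinguished hT) (DerivedCategory.triangleOfSES_distinguished hT')
    inferInstance inferInstance)

/-- maps in `D` out of `Z` into the unit target are transposes -/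
theorem quasiIso_unit_of_bijective {E : DRing.Cx S} [∀ j : ℤ, (freeAt S j ⊗ W).IsKProjective]
    (hinj : ∀ (j : ℤ) (z z' : freeAt S j ⟶ E), DerivedCategory.Q.map (z ▷ W) = DerivedCategory.Q.map (z' ▷ W) →
      DerivedCategory.Q.map z = DerivedCategory.Q.map z')
    (hsurj : ∀ (j : ℤ) (y : DerivedCategory.Q.obj (freeAt S j ⊗ W) ⟶ DerivedCategory.Q.obj (E ⊗ W)),
      ∃ z : freeAt S j ⟶ E, DerivedCategory.Q.map (z ▷ W) = y) :
    QuasiIso (etaCx E W) := by
  refine (DerivedCategory.isIso_Q_map_iff_quasiIso _ _).1 (isIso_of_gen _ fun i => ⟨fun a b hab => ?_, fun g => ?_⟩)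
  · obtain ⟨z, hz⟩ := PerfLocal.exists_lift (R := S) ((freeShiftIso S i).hom ≫ a)
    obtain ⟨z', hz'⟩ := PerfLocal.exists_lift (R := S) ((freeShiftIso S i).hom ≫ b)
    refine (cancel_epi (freeShiftIso S i).hom).1 ?_
    rw [← hz, ← hz']
    refine hinj _ z z' (Q_eq_of_homotopy ((nonempty_homotopy_tpHom_iff _ _).1 (DTenLib.homotopic_of_Q_map ?_)))
    rw [tpHom_whisker, tpHom_whisker, Functor.map_comp, Functor.map_comp, hz, hz', Category.assoc, Category.assoc]
    exact congrArg (_ ≫ ·) hab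
  · obtain ⟨g₀, hg₀⟩ := PerfLocal.exists_lift (R := S) ((freeShiftIso S i).hom ≫ g)
    obtain ⟨f, rfl⟩ := tpHom_surjective g₀
    obtain ⟨z, hz⟩ := hsurj _ (DerivedCategory.Q.map f)
    refine ⟨(freeShiftIso S i).inv ≫ DerivedCategory.Q.map z, ?_⟩
    have h := Q_eq_of_homotopy ((nonempty_homotopy_tpHom_iff _ _).2 (DTenLib.homotopic_of_Q_map hz))
    rw [tpHom_whisker, Functor.map_comp, hg₀] at h
    show ((freeShiftIso S i).inv ≫ DerivedCategory.Q.map z) ≫ DerivedCategory.Q.map (etaCx E W) = g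
    rw [Category.assoc, h, Iso.inv_hom_id_assoc]

theorem isZero_unitTgt_homology {X : DRing.Cx S} [∀ j : ℤ, (freeAt S j ⊗ W).IsKProjective] (i : ℤ)
    (h : ∀ y : DerivedCategory.Q.obj (freeAt S i ⊗ W) ⟶ DerivedCategory.Q.obj X, y = 0) :
    IsZero ((DRing.homCx W X).homology i) := by
  haveI : Subsingleton (Dual.HD S (DerivedCategory.Q.obj (DRing.homCx W X)) i) := by
    haveI : Subsingleton ((Dual.inD S S)⟦-i⟧ ⟶ DerivedCategory.Q.obj (DRing.homCx W X)) := by
      refine subsingleton_of_forall_eq 0 fun v => (cancel_epi (freeShiftIso S (-i)).hom).1 ?_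
      obtain ⟨g, hg⟩ := PerfLocal.exists_lift (R := S) ((freeShiftIso S (-i)).hom ≫ v)
      obtain ⟨f, rfl⟩ := tpHom_surjective g
      have h0 : DerivedCategory.Q.map f = DerivedCategory.Q.map ((0 : freeAt S (- -i) ⟶ X) ▷ W ≫ (0 : X ⊗ W ⟶ X)) := by
        have hh : ∀ (j : ℤ), j = i → ∀ y : DerivedCategory.Q.obj (freeAt S j ⊗ W) ⟶ DerivedCategory.Q.obj X, y = 0 := by
          rintro j rfl; exact h
        rw [comp_zero, Functor.map_zero]
        exact hh _ (neg_neg i) _
      have h1 := Q_eq_of_homotopy ((nonempty_homotopy_tpHom_iff _ _).2 (DTenLib.homotopic_of_Q_map h0))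
      rw [tpHom_comp, zero_comp, Functor.map_zero, hg] at h1
      rw [h1, comp_zero]
    let adj := (shiftEquiv (Dual.D S) i).symm.toAdjunction
    exact @Equiv.subsingleton _ _ ((DualCx.homEquiv (DerivedCategory.Q.obj (DRing.homCx W X)) i).toEquiv.symm.trans
      (adj.homEquiv _ _).symm) (by assumption)
  exact IsZero.of_iso (ModuleCat.isZero_of_subsingleton
      ((DerivedCategory.homologyFunctor (ModuleCat.{u} S) i).obj (DerivedCategory.Q.obj (DRing.homCx W X))))
    ((DerivedCategory.homologyFunctorFactors (ModuleCat.{u} S) i).app _).symm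

end

noncomputable section

variable {R A : Type u} [CommRing R] [CommRing A] [Algebra R A] [Module.Flat R A] [Algebra.FinitePresentation R A]
  {n : ℕ} {ψ : MvPolynomial (Fin n) R →ₐ[R] A} {W₀ : DRing.Cx A} {b₀ : ℤ}

/-- the pullback of `W₀` by the second projection -/
abbrev pullW (R : Type u) [CommRing R] [Algebra R A] (W₀ : DRing.Cx A) : DRing.Cx (A ⊗[R] A) :=
  (DTen.extCx (Algebra.TensorProduct.includeRight : A →ₐ[R] A ⊗[R] A).toRingHom).obj W₀

/-- extension by the first projection -/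
abbrev extL (R A : Type u) [CommRing R] [CommRing A] [Algebra R A] : DRing.Cx A ⥤ DRing.Cx (A ⊗[R] A) :=
  DTen.extCx (Algebra.TensorProduct.includeLeftRingHom : A →+* A ⊗[R] A)

theorem finiteFree_ext {P B : Type u} [CommRing P] [CommRing B] (θ : P →+* B) {M : ModuleCat.{u} P}
    (h : Module.Finite P M ∧ Module.Free P M) :
    Module.Finite B ((ModuleCat.extendScalars.{u, u, u} θ).obj M) ∧
      Module.Projective B ((ModuleCat.extendScalars.{u, u, u} θ).obj M) :=
  haveI := h.2
  DRingKP.extendScalars_finiteProjective θ ⟨h.1, inferInstance⟩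

omit [Module.Flat R A] [Algebra.FinitePresentation R A] in
theorem isKProjective_freeAt_tensor (hb : DRing.VanishesAbove W₀ b₀) (hf : DRing.TermwiseFiniteFree W₀) (j : ℤ) :
    (freeAt (A ⊗[R] A) j ⊗ pullW R W₀).IsKProjective := by
  have h1 : DRing.VanishesAbove (pullW R W₀) b₀ := fun i hi =>
    (ModuleCat.extendScalars.{u, u, u} _).map_isZero (hb i hi)
  have h2 : DRing.TermwiseFiniteProjective (pullW R W₀) := fun i => finiteFree_ext _ (hf i)
  refine DRingKP.isKProjective_of_finiteProjective (j + b₀) (fun i hi => DRingKP.tensor_vanishes i fun p q hpq => ?_)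
    (DRingKP.tensor_finiteProjective (vanishesAbove_freeAt j) h1 (termwiseFiniteProjective_freeAt j) h2)
  by_cases hp : j < p
  · exact Or.inl (vanishesAbove_freeAt j p hp)
  · exact Or.inr (h1 q (by lia))

theorem isKFlat_of_finiteFree {B : Type u} [CommRing B] {C : DRing.Cx B} {b : ℤ} (hb : DRing.VanishesAbove C b)
    (hf : DRing.TermwiseFiniteFree C) : DRing.IsKFlat B C :=
  DRingKP.isKFlat_of_finiteProjective hb (DRingKP.termwiseFiniteProjective_of_free hf)

omit [Module.Flat R A] [Algebra.FinitePresentation R A] in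
theorem isKFlat_pullW (hb : DRing.VanishesAbove W₀ b₀) (hf : DRing.TermwiseFiniteFree W₀) :
    DRing.IsKFlat (A ⊗[R] A) (pullW R W₀) :=
  KFlat.isKFlat_extendScalars _ (isKFlat_of_finiteFree hb hf)

theorem ra_pullW (hψ : Function.Surjective ψ) (hb : DRing.VanishesAbove W₀ b₀) (hf : DRing.TermwiseFiniteFree W₀)
    (h : Shr ψ (DerivedCategory.Q.obj W₀) (Dual.inD R R)) :
    RA (bcPres (R' := A) ψ).toRingHom (DerivedCategory.Q.obj (pullW R W₀))
      (DerivedCategory.Q.obj (freeAt (MvPolynomial (Fin n) A) (-(n : ℤ)))) :=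
  (shr_self_iff _ _).1 (Shr.baseChange_self (R' := A) hψ (isKFlat_of_finiteFree hb hf) h)

theorem perfectModule_bcPres (hψ : Function.Surjective ψ) :
    letI := (bcPres (R' := A) ψ).toRingHom.toAlgebra
    DRing.IsPerfectModule (MvPolynomial (Fin n) A) (A ⊗[R] A) :=
  isPerfectModule_pres (bcPres (R' := A) ψ) (bcPres_surjective hψ)

theorem end_pullW (hψ : Function.Surjective ψ) (hb : DRing.VanishesAbove W₀ b₀) (hf : DRing.TermwiseFiniteFree W₀)
    (h : Shr ψ (DerivedCategory.Q.obj W₀) (Dual.inD R R)) :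
    Function.Bijective (fun s : A ⊗[R] A => s • 𝟙 (DerivedCategory.Q.obj (pullW R W₀))) ∧
      ∀ i : ℤ, i ≠ 0 → Subsingleton (DerivedCategory.Q.obj (pullW R W₀) ⟶ (DerivedCategory.Q.obj (pullW R W₀))⟦i⟧) :=
  end_self _ (bcPres_surjective hψ) (perfectModule_bcPres hψ) (n : ℤ)
    (RA.of_iso (ra_pullW hψ hb hf h) (Iso.refl _) (freeShiftIso _ (n : ℤ)))

theorem hom_freeAt_eq_smul {B : Type u} [CommRing B] (k : ℤ) (z : freeAt B k ⟶ freeAt B k) :
    ∃ s : B, z = s • 𝟙 (freeAt B k) := by
  let e := HomologicalComplex.singleObjXSelf (ComplexShape.up ℤ) k (ModuleCat.of B B)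
  refine ⟨(e.inv ≫ z.f k ≫ e.hom).hom (1 : B), HomologicalComplex.to_single_hom_ext ?_⟩
  rw [← cancel_epi e.inv, ← cancel_mono e.hom]
  refine ModuleCat.hom_ext (LinearMap.ext_ring ?_)
  simp only [HomologicalComplex.smul_f_apply, HomologicalComplex.id_f, Linear.comp_smul, Linear.smul_comp,
    Category.comp_id, Category.id_comp, Iso.inv_hom_id, Category.assoc]
  simp

theorem quasiIso_unit_freeAt (hψ : Function.Surjective ψ) (hb : DRing.VanishesAbove W₀ b₀)
    (hf : DRing.TermwiseFiniteFree W₀) (h : Shr ψ (DerivedCategory.Q.obj W₀) (Dual.inD R R)) (k : ℤ) :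
    QuasiIso (etaCx (freeAt (A ⊗[R] A) k) (pullW R W₀)) := by
  haveI := fun j => isKProjective_freeAt_tensor (R := R) hb hf j
  let W' := pullW R W₀
  let X := fun j : ℤ => DerivedCategory.Q.obj (freeAt (A ⊗[R] A) j ⊗ W')
  have hX : ∀ j : ℤ, Nonempty (X j ≅ (DerivedCategory.Q.obj W')⟦-j⟧) := fun j => by
    obtain ⟨e⟩ := nonempty_freeAt_tensor (A ⊗[R] A) (-j) W'
    exact ⟨(DerivedCategory.Q.mapIso (eqToIso (by rw [neg_neg]))) ≪≫ e⟩
  obtain ⟨hbij, hvan⟩ := end_pullW hψ hb hf h
  have hoff : ∀ j, j ≠ k → ∀ y : X j ⟶ X k, y = 0 := fun j hj y => by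
    obtain ⟨ej⟩ := hX j
    obtain ⟨ek⟩ := hX k
    haveI := hvan (-k + j) (by lia)
    let adj := (shiftEquiv (Dual.D (A ⊗[R] A)) j).symm.toAdjunction
    have hsub : Subsingleton ((DerivedCategory.Q.obj W')⟦-j⟧ ⟶ (DerivedCategory.Q.obj W')⟦-k⟧) :=
      @Equiv.subsingleton _ _ ((adj.homEquiv (DerivedCategory.Q.obj W') _).trans
        (Iso.homCongr (Iso.refl _) ((CategoryTheory.shiftFunctorAdd' (Dual.D (A ⊗[R] A)) (-k) j _ rfl).app _).symm)) inferInstance
    exact (cancel_epi ej.inv).1 ((cancel_mono ek.hom).1 (Subsingleton.elim _ _))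
  have hon : Function.Bijective (fun s : A ⊗[R] A => s • 𝟙 (X k)) := by
    obtain ⟨ek⟩ := hX k
    have hsh : Function.Bijective (fun s : A ⊗[R] A => s • 𝟙 ((DerivedCategory.Q.obj W')⟦-k⟧)) := by
      have : (fun s : A ⊗[R] A => s • 𝟙 ((DerivedCategory.Q.obj W')⟦-k⟧)) =
          (CategoryTheory.shiftFunctor _ (-k)).map ∘ fun s : A ⊗[R] A => s • 𝟙 (DerivedCategory.Q.obj W') := funext fun s => by
        simp [Functor.map_smul]
      rw [this]
      exact ((Functor.FullyFaithful.ofFullyFaithful (CategoryTheory.shiftFunctor (Dual.D (A ⊗[R] A)) (-k))).map_bijective _ _).comp hbij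
    have : (fun s : A ⊗[R] A => s • 𝟙 (X k)) = (ek.homCongr ek).symm ∘ fun s => s • 𝟙 _ := funext fun s => by
      simp [Iso.homCongr]
    rw [this]
    exact (ek.homCongr ek).symm.bijective.comp hsh
  have hwhisk : ∀ s : A ⊗[R] A, DerivedCategory.Q.map ((s • 𝟙 (freeAt (A ⊗[R] A) k)) ▷ W') = s • 𝟙 (X k) := fun s => by
    have h1 : (s • 𝟙 (freeAt (A ⊗[R] A) k)) ▷ W' = s • 𝟙 (freeAt (A ⊗[R] A) k ⊗ W') := by
      refine HomologicalComplex.hom_ext _ _ fun m => HomologicalComplex.mapBifunctor.hom_ext fun p q hpq => ?_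
      refine (ι_wR _ W' p q m hpq).trans ?_
      simp only [HomologicalComplex.smul_f_apply, HomologicalComplex.id_f]
      refine ModuleCat.MonoidalCategory.tensor_ext fun x y => ?_
      show (HomologicalComplex.ιTensorObj _ W' p q m hpq).hom ((s • x) ⊗ₜ y) = s • _
      rw [← TensorProduct.smul_tmul', map_smul]
      rfl
    rw [h1, Functor.map_smul, CategoryTheory.Functor.map_id]
  refine quasiIso_unit_of_bijective (fun j z z' hzz => ?_) fun j y => ?_
  · by_cases hj : j = k
    · subst hj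
      obtain ⟨s, rfl⟩ := hom_freeAt_eq_smul j z
      obtain ⟨s', rfl⟩ := hom_freeAt_eq_smul j z'
      rw [hwhisk, hwhisk] at hzz
      rw [hon.1 hzz]
    · have hz : ∀ w : freeAt (A ⊗[R] A) j ⟶ freeAt (A ⊗[R] A) k, w = 0 := fun w =>
        HomologicalComplex.to_single_hom_ext
          ((HomologicalComplex.isZero_single_obj_X _ _ _ _ (Ne.symm hj)).eq_of_src _ _)
      rw [hz z, hz z']
  · by_cases hj : j = k
    · subst hj
      obtain ⟨s, hs⟩ := hon.2 y
      exact ⟨s • 𝟙 _, (hwhisk s).trans hs⟩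
    · exact ⟨0, (hoff j hj _).trans (hoff j hj _).symm⟩

theorem quasiIso_unit_extL_mid {T : ShortComplex (DRing.Cx A)}
    (h : ∀ m, (T.map (HomologicalComplex.eval _ _ m)).Splitting) {W : DRing.Cx (A ⊗[R] A)}
    (h₁ : QuasiIso (etaCx ((extL R A).obj T.X₁) W)) (h₃ : QuasiIso (etaCx ((extL R A).obj T.X₃) W)) :
    QuasiIso (etaCx ((extL R A).obj T.X₂) W) :=
  quasiIso_unit_mid (T := T.map (extL R A))
    (fun m => (h m).map (ModuleCat.extendScalars.{u, u, u} (Algebra.TensorProduct.includeLeftRingHom : A →+* A ⊗[R] A)))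
    h₁ h₃

theorem quasiIso_unit_of_isZero {S : Type u} [CommRing S] {W E : DRing.Cx S} (hE : IsZero E) :
    QuasiIso (etaCx E W) :=
  haveI : IsIso (etaCx E W) := ⟨0, hE.eq_of_src _ _, ((unitTgt W).map_isZero hE).eq_of_src _ _⟩
  inferInstance

theorem quasiIso_unit_single (hψ : Function.Surjective ψ) (hb : DRing.VanishesAbove W₀ b₀)
    (hf : DRing.TermwiseFiniteFree W₀) (h : Shr ψ (DerivedCategory.Q.obj W₀) (Dual.inD R R)) (k : ℤ) :
    ∀ r : ℕ, QuasiIso (etaCx ((extL R A).obj ((HomologicalComplex.single (ModuleCat.{u} A) (ComplexShape.up ℤ) k).obj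
      (ModuleCat.of A (Fin r → A)))) (pullW R W₀)) := by
  intro r
  induction r with
  | zero =>
    exact quasiIso_unit_of_isZero ((extL R A).map_isZero
      (Functor.map_isZero _ (ModuleCat.isZero_of_subsingleton _)))
  | succ r ih =>
    let f : ModuleCat.of A A ⟶ ModuleCat.of A (Fin (r + 1) → A) :=
      ModuleCat.ofHom (LinearMap.single A (fun _ => A) 0)
    let g : ModuleCat.of A (Fin (r + 1) → A) ⟶ ModuleCat.of A (Fin r → A) :=
      ModuleCat.ofHom (LinearMap.funLeft A A Fin.succ)
    let T₀ : ShortComplex (ModuleCat.{u} A) := ShortComplex.mk f g (ModuleCat.hom_ext (LinearMap.ext fun x =>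
      funext fun i => by simp [f, g, LinearMap.funLeft, Fin.succ_ne_zero]; rfl))
    let sp : T₀.Splitting :=
      { r := ModuleCat.ofHom (LinearMap.proj 0)
        s := ModuleCat.ofHom
          { toFun := fun x => Fin.cons 0 x
            map_add' := fun a b => funext fun i => by cases i using Fin.cases <;> simp
            map_smul' := fun c a => funext fun i => by cases i using Fin.cases <;> simp }
        f_r := ModuleCat.hom_ext (LinearMap.ext fun x => by simp [T₀, f])
        s_g := ModuleCat.hom_ext (LinearMap.ext fun x => funext fun i => by simp [T₀, g, LinearMap.funLeft])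
        id := ModuleCat.hom_ext (LinearMap.ext fun x => funext fun i => by
          cases i using Fin.cases <;> simp [T₀, f, g, LinearMap.funLeft, Fin.succ_ne_zero]) }
    exact quasiIso_unit_extL_mid
      (T := T₀.map (HomologicalComplex.single (ModuleCat.{u} A) (ComplexShape.up ℤ) k))
      (fun m => sp.map (HomologicalComplex.single (ModuleCat.{u} A) (ComplexShape.up ℤ) k ⋙
        HomologicalComplex.eval _ _ m))
      (quasiIso_unit_congr (extFreeIso _ k).symm (quasiIso_unit_freeAt hψ hb hf h k)) ih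

theorem exists_σSplitting {C : DRing.Cx A} (hC : DRing.TermwiseFiniteFree C) (m : ℤ) :
    Nonempty (∀ i, ((DRingKP.σSeq C m).map (HomologicalComplex.eval _ _ i)).Splitting) :=
  Classical.nonempty_pi.2 fun i => by
    have hse := (DRingKP.σSeq_shortExact C m).map_of_exact (HomologicalComplex.eval _ _ i)
    haveI : CategoryTheory.Projective ((DRingKP.σSeq C m).map (HomologicalComplex.eval _ _ i)).X₃ := by
      by_cases hi : m ≤ i
      · exact (DRingKP.isZero_σQuot C m i hi).projective
      · haveI := DRingKP.isIso_σπ_f C m i (not_le.1 hi)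
        exact Projective.of_iso (asIso ((DRingKP.σSeq C m).g.f i))
          (DRingKP.projective_X (DRingKP.termwiseFiniteProjective_of_free hC) i)
    exact ⟨hse.splittingOfProjective⟩

theorem quasiIso_unit_bounded (hψ : Function.Surjective ψ) (hb : DRing.VanishesAbove W₀ b₀)
    (hf : DRing.TermwiseFiniteFree W₀) (h : Shr ψ (DerivedCategory.Q.obj W₀) (Dual.inD R R)) :
    ∀ (d : ℕ) (a b : ℤ) (C : DRing.Cx A), b < a + d → DRing.VanishesOutside C a b → DRing.TermwiseFiniteFree C →
      QuasiIso (etaCx ((extL R A).obj C) (pullW R W₀)) := by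
  intro d
  induction d with
  | zero =>
    intro a b C hab hC _
    refine quasiIso_unit_of_isZero ((extL R A).map_isZero ?_)
    rw [IsZero.iff_id_eq_zero]
    exact HomologicalComplex.hom_ext _ _ fun i => (hC i (by lia)).eq_of_src _ _
  | succ d ih =>
    intro a b C hab hC hCf
    obtain ⟨sp⟩ := exists_σSplitting hCf (a + 1)
    refine quasiIso_unit_extL_mid sp (ih (a + 1) b _ (by lia)
      (DRingKP.σGE_vanishesOutside C (a + 1) b fun i hi => hC i (Or.inr hi)) (DRingKP.σGE_finiteFree C (a + 1) hCf)) ?_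
    let Q₃ := (DRingKP.σSeq C (a + 1)).X₃
    have hz : ∀ i, i ≠ a → IsZero (Q₃.X i) := fun i hi => by
      by_cases h1 : a + 1 ≤ i
      · exact DRingKP.isZero_σQuot C _ i h1
      · haveI := DRingKP.isIso_σπ_f C (a + 1) i (not_le.1 h1)
        exact (hC i (Or.inl (by lia))).of_iso (asIso ((DRingKP.σSeq C (a + 1)).g.f i)).symm
    haveI := DRingKP.isIso_σπ_f C (a + 1) a (by lia)
    haveI := (hCf a).1
    haveI := (hCf a).2
    let ea : Q₃.X a ≅ ModuleCat.of A (Fin (Fintype.card (Module.Free.ChooseBasisIndex A (C.X a))) → A) :=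
      (asIso ((DRingKP.σSeq C (a + 1)).g.f a)).symm ≪≫
        ((Module.Free.chooseBasis A (C.X a)).reindex (Fintype.equivFin _)).equivFun.toModuleIso
    let eQ : (HomologicalComplex.single (ModuleCat.{u} A) (ComplexShape.up ℤ) a).obj _ ≅ Q₃ :=
      HomologicalComplex.Hom.isoOfComponents (fun i => if hi : i = a then
          (HomologicalComplex.singleObjXIsoOfEq _ a _ i hi) ≪≫ ea.symm ≪≫ eqToIso (by rw [hi])
        else (HomologicalComplex.isZero_single_obj_X _ _ _ _ hi).iso (hz i hi)) fun i j hij => by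
          by_cases hi : i = a
          · have hj : j ≠ a := by
              have : i + 1 = j := hij
              lia
            exact (hz j hj).eq_of_tgt _ _
          · exact (HomologicalComplex.isZero_single_obj_X _ _ _ _ hi).eq_of_src _ _
    exact quasiIso_unit_congr ((extL R A).mapIso eQ) (quasiIso_unit_single hψ hb hf h a _)

theorem hom_pullW_eq_zero (hψ : Function.Surjective ψ) (hb : DRing.VanishesAbove W₀ b₀)
    (hf : DRing.TermwiseFiniteFree W₀) (h : Shr ψ (DerivedCategory.Q.obj W₀) (Dual.inD R R)) :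
    ∃ c : ℤ, ∀ (C : DRing.Cx A), DRing.IsKFlat A C → ∀ (m i : ℤ), DRing.VanishesAbove C m → m + c < i →
      ∀ y : DerivedCategory.Q.obj (freeAt (A ⊗[R] A) i ⊗ pullW R W₀) ⟶
        DerivedCategory.Q.obj ((extL R A).obj C ⊗ pullW R W₀), y = 0 := by
  let P' := MvPolynomial (Fin n) A
  let φ := (bcPres (R' := A) ψ).toRingHom
  have hra := ra_pullW hψ hb hf h
  obtain ⟨d, hd, ⟨eW⟩⟩ := exists_rep φ (perfectModule_bcPres hψ) (W := pullW R W₀) (-(n : ℤ)) hra
  refine ⟨d.b, fun C hC m i hm hi y => ?_⟩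
  let C' := (DTen.extCx (algebraMap A P')).obj C
  have hC' : DRing.IsKFlat P' C' := KFlat.isKFlat_extendScalars _ hC
  obtain ⟨c, hc⟩ := RA.tensor_of_perfect φ (perfectModule_bcPres hψ) hra hC'
  letI := DTenLib.braidedCx (A := A ⊗[R] A)
  let eX : (extL R A).obj C ⊗ pullW R W₀ ≅ pullW R W₀ ⊗ (DTen.extCx φ).obj C' :=
    β_ _ _ ≪≫ whiskerLeftIso _ (extComp (algebraMap A P') φ Algebra.TensorProduct.includeLeftRingHom
      (RingHom.ext fun a => (bcPres (R' := A) ψ).commutes a) C).symm
  obtain ⟨ei⟩ := nonempty_freeAt_tensor (A ⊗[R] A) (-i) (pullW R W₀)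
  let ey : DerivedCategory.Q.obj (freeAt (A ⊗[R] A) i ⊗ pullW R W₀) ≅
      (DerivedCategory.Q.obj (pullW R W₀))⟦-i⟧ :=
    DerivedCategory.Q.mapIso (eqToIso (by rw [neg_neg])) ≪≫ ei
  have key : ∀ g : ((DRing.restrictD φ).obj (DerivedCategory.Q.obj (pullW R W₀)))⟦-i⟧ ⟶
      DerivedCategory.Q.obj (freeAt P' (-(n : ℤ)) ⊗ C'), g = 0 := fun g => by
    let X := DerivedCategory.Q.obj (freeAt P' (-(n : ℤ)) ⊗ C')
    let D' := d.D ⊗ freeAt P' (-(n : ℤ))
    haveI : D'.IsStrictlyGE (-d.b - n) := (CochainComplex.isStrictlyGE_iff _ _).2 fun j hj =>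
      DRingKP.tensor_vanishes j fun p q hpq => by
        by_cases hp : p < -d.b
        · exact Or.inl (d.hzeroD p (Or.inl hp))
        · exact Or.inr (HomologicalComplex.isZero_single_obj_X _ _ _ _ (by lia))
    haveI := hd
    have hX : ∀ j, -d.b - n ≤ j → IsZero ((DerivedCategory.homologyFunctor (ModuleCat.{u} P') j).obj (X⟦i⟧)) := by
      intro j hj
      refine IsZero.of_iso ?_ (((DerivedCategory.homologyFunctor (ModuleCat.{u} P') 0).shiftIso i j (i + j) rfl).app X)
      refine IsZero.of_iso (ShortComplex.isZero_homology_of_isZero_X₂ _ ?_)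
        ((DerivedCategory.homologyFunctorFactors _ (i + j)).app _)
      exact DRingKP.tensor_vanishes _ fun p q hpq => by
        by_cases hp : p = -(n : ℤ)
        · exact Or.inr ((ModuleCat.extendScalars.{u, u, u} (algebraMap A P')).map_isZero (hm q (by lia)))
        · exact Or.inl (HomologicalComplex.isZero_single_obj_X _ _ _ _ hp)
    let e0 : (DRing.restrictD φ).obj (DerivedCategory.Q.obj (pullW R W₀)) ≅ DerivedCategory.Q.obj D' :=
      (DTen.resFactors φ).app _ ≪≫ eW
    have h0 := DRingKP.hom_eq_zero (E := D') (-d.b - n) hX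
      (e0.inv ≫ (shiftFunctorCompIsoId (Dual.D P') (-i) i (neg_add_cancel i)).inv.app _ ≫ g⟦i⟧')
    rw [Preadditive.IsIso.comp_left_eq_zero, Preadditive.IsIso.comp_left_eq_zero] at h0
    exact (CategoryTheory.shiftFunctor _ i).map_injective (by rw [h0, Functor.map_zero])
  have h1 : ey.inv ≫ y ≫ DerivedCategory.Q.map eX.hom = 0 := (hc _).1 (by
    show tr φ c _ _ = tr φ c _ 0
    have h2 := key (((DRing.restrictD φ).commShiftIso (-i)).inv.app _ ≫
      tr φ c _ (ey.inv ≫ y ≫ DerivedCategory.Q.map eX.hom))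
    rw [Preadditive.IsIso.comp_left_eq_zero] at h2
    rw [h2]
    simp [tr])
  rwa [Preadditive.IsIso.comp_left_eq_zero, Preadditive.IsIso.comp_right_eq_zero] at h1

theorem quasiIso_unit_extL (hψ : Function.Surjective ψ) (hb : DRing.VanishesAbove W₀ b₀)
    (hf : DRing.TermwiseFiniteFree W₀) (h : Shr ψ (DerivedCategory.Q.obj W₀) (Dual.inD R R))
    {C : DRing.Cx A} {b : ℤ} (hC : DRing.VanishesAbove C b) (hCf : DRing.TermwiseFiniteFree C) :
    QuasiIso (etaCx ((extL R A).obj C) (pullW R W₀)) := by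
  haveI := fun j => isKProjective_freeAt_tensor (R := R) hb hf j
  let W' := pullW R W₀
  obtain ⟨c, hc⟩ := hom_pullW_eq_zero hψ hb hf h
  rw [quasiIso_iff]
  intro i
  rw [quasiIsoAt_iff_isIso_homologyMap]
  let m := min (i - 1) (i - c - 1)
  obtain ⟨sp⟩ := exists_σSplitting hCf m
  let T := (DRingKP.σSeq C m).map (extL R A)
  let spT : ∀ j, (T.map (HomologicalComplex.eval _ _ j)).Splitting := fun j =>
    (sp j).map (ModuleCat.extendScalars.{u, u, u} (Algebra.TensorProduct.includeLeftRingHom : A →+* A ⊗[R] A))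
  have hT := shortExact_of_splittings spT
  have hT' : (T.map (unitTgt W')).ShortExact := shortExact_of_splittings fun j => homSplitting (tensorSplitting spT W') W' j
  haveI : QuasiIso (etaCx T.X₁ W') := quasiIso_unit_bounded hψ hb hf h (b + 1 - m).toNat m b _ (by lia)
    (DRingKP.σGE_vanishesOutside C m b hC) (DRingKP.σGE_finiteFree C m hCf)
  have hQv : DRing.VanishesAbove (DRingKP.σSeq C m).X₃ (m - 1) := fun j hj => DRingKP.isZero_σQuot C m j (by lia)
  have hQ : DRing.IsKFlat A (DRingKP.σSeq C m).X₃ :=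
    DRingKP.isKFlat_of_finiteProjective hQv fun j => by
      by_cases hj : m ≤ j
      · exact PerfLocal.finiteProjective_of_isZero (DRingKP.isZero_σQuot C m j hj)
      · haveI := DRingKP.isIso_σπ_f C m j (not_le.1 hj)
        exact PerfLocal.finiteProjective_of_iso (asIso ((DRingKP.σSeq C m).g.f j))
          (DRingKP.termwiseFiniteProjective_of_free hCf j)
  have hz : ∀ j, i - 1 ≤ j → IsZero (T.X₃.homology j) := fun j hj =>
    ShortComplex.isZero_homology_of_isZero_X₂ _ ((ModuleCat.extendScalars.{u, u, u} _).map_isZero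
      (DRingKP.isZero_σQuot C m j (by lia)))
  have hz' : ∀ j, i - 1 ≤ j → IsZero ((T.map (unitTgt W')).X₃.homology j) := fun j hj =>
    isZero_unitTgt_homology j fun y => hc _ hQ (m - 1) j hQv (by lia) y
  haveI : IsIso (HomologicalComplex.homologyMap T.f i) :=
    haveI := ((hT.homology_exact₁ (i - 1) i (by simp)).mono_g ((hz (i - 1) le_rfl).eq_of_src _ _))
    haveI := ((hT.homology_exact₂ i).epi_f ((hz i (by lia)).eq_of_tgt _ _))
    isIso_of_mono_of_epi _
  haveI : IsIso (HomologicalComplex.homologyMap (T.map (unitTgt W')).f i) :=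
    haveI := ((hT'.homology_exact₁ (i - 1) i (by simp)).mono_g ((hz' (i - 1) le_rfl).eq_of_src _ _))
    haveI := ((hT'.homology_exact₂ i).epi_f ((hz' i (by lia)).eq_of_tgt _ _))
    isIso_of_mono_of_epi _
  have hcomm : HomologicalComplex.homologyMap (etaCx T.X₁ W') i ≫
      HomologicalComplex.homologyMap (T.map (unitTgt W')).f i =
      HomologicalComplex.homologyMap T.f i ≫ HomologicalComplex.homologyMap (etaCx T.X₂ W') i := by
    rw [← HomologicalComplex.homologyMap_comp, ← HomologicalComplex.homologyMap_comp]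
    exact congrArg (HomologicalComplex.homologyMap · i) (etaCx_natural T.f W')
  exact IsIso.of_isIso_fac_left hcomm.symm

end

end Groth.Agent.Shriek
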